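import Cfsg.Agent.Lib.Char.Brauer
import Cfsg.Agent.Lib.BrauerPairs.Rank
import Cfsg.Agent.Lib.Blocks.CentralChar
import Mathlib.GroupTheory.Sylow

/-!
# The regular part of a character, by characters trivial on central `p`-elements

For `χ` in a block `B` the restriction to the `p`-regular elements is an integral combination of
restrictions of characters in `B` trivial on all central `p`-elements.
-/

set_option autoImplicit false
set_option linter.unusedSectionVars false
set_option linter.style.haveILetI false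

namespace Cfsg.Agent.Blocks.NilRank

open Cfsg Blocks
open scoped ComplexConjugate

universe u

theorem mul_pow_of_nilpotent {E : Type u} [Group E] [Finite E] [Group.IsNilpotent E] (N : ℕ)
    (h : ∀ (q : ℕ), q.Prime → (∀ z : E, (∃ k, orderOf z = q ^ k) → z ^ N = 1) ∨
      ∀ z : E, (∃ k, orderOf z = q ^ k) → z ^ N = z) (a b : E) :
    (a * b) ^ N = a ^ N * b ^ N := by
  have hn : ∀ {p : ℕ} [Fact p.Prime] (P : Sylow p E), P.Normal := fun P => inferInstance
  let φ := Sylow.directProductOfNormal hn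
  obtain ⟨a, rfl⟩ := φ.surjective a
  obtain ⟨b, rfl⟩ := φ.surjective b
  rw [← map_mul, ← map_pow, ← map_pow, ← map_pow, ← map_mul]
  congr 1
  funext q S
  haveI : Fact (q : ℕ).Prime := ⟨Nat.prime_of_mem_primeFactors q.2⟩
  simp only [Pi.pow_apply, Pi.mul_apply]
  refine Subtype.ext ?_
  simp only [SubmonoidClass.coe_pow, MulMemClass.coe_mul]
  have hord : ∀ z ∈ (S : Subgroup E), ∃ k, orderOf z = (q : ℕ) ^ k := fun z hz => by
    obtain ⟨k, hk⟩ := IsPGroup.iff_orderOf.1 S.isPGroup' ⟨z, hz⟩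
    exact ⟨k, by rw [← hk, Subgroup.orderOf_mk]⟩
  have hx := hord _ (a q S).2
  have hy := hord _ (b q S).2
  have hxy := hord _ (mul_mem (a q S).2 (b q S).2)
  rcases h q (Nat.prime_of_mem_primeFactors q.2) with hc | hc
  · rw [hc _ hx, hc _ hy, hc _ hxy, one_mul]
  · rw [hc _ hx, hc _ hy, hc _ hxy]

variable {G : Type u} [Group G] [Fintype G] {M : Ideal AlgInt} [M.IsMaximal] {p : ℕ}
  [hp : Fact p.Prime]

/-- A power map fixing the `p'`-elements and killing the `p`-elements. -/
theorem exists_regular_exponent :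
    ∃ N : ℕ, (∀ g : G, (∃ k, orderOf g = p ^ k) → g ^ N = 1) ∧
      ∀ g : G, IsPRegular p g → g ^ N = g := by
  set n := Nat.card G
  have hcop : (p ^ n.factorization p).Coprime (n / p ^ n.factorization p) :=
    Nat.Coprime.pow_left _ (Nat.coprime_ordCompl hp.out Nat.card_pos.ne')
  obtain ⟨N, hN0, hN1⟩ := Nat.chineseRemainder hcop 0 1
  refine ⟨N, fun g ⟨k, hk⟩ => ?_, fun g hg => ?_⟩
  · refine orderOf_dvd_iff_pow_eq_one.1 (dvd_trans ?_ (Nat.modEq_zero_iff_dvd.1 hN0))
    rw [hk]
    refine pow_dvd_pow p ?_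
    exact (hp.out.pow_dvd_iff_le_factorization Nat.card_pos.ne').1 (hk ▸ orderOf_dvd_natCard g)
  · nth_rewrite 2 [← pow_one g]
    refine pow_eq_pow_iff_modEq.2 (Nat.ModEq.of_dvd ?_ hN1)
    have h := orderOf_dvd_natCard g
    rw [← Nat.ordProj_mul_ordCompl_eq_self (Nat.card G) p] at h
    exact (Nat.Coprime.pow_right _ ((hp.out.coprime_iff_not_dvd.2 hg).symm)).dvd_of_dvd_mul_left h

theorem isGeneralizedCharacter_regPow {N : ℕ}
    (hN0 : ∀ g : G, (∃ k, orderOf g = p ^ k) → g ^ N = 1)
    (hN1 : ∀ g : G, IsPRegular p g → g ^ N = g) {χ : G → ℂ} (hχ : IsCharacter G χ) :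
    IsGeneralizedCharacter G fun g => χ (g ^ N) := by
  refine Char.isGeneralizedCharacter_of_elementary (fun g a => ?_) fun E q hq hE => ?_
  · show χ ((a * g * a⁻¹) ^ N) = χ (g ^ N)
    rw [conj_pow, Char.IsCharacter.isClassFunction hχ]
  haveI := Char.IsElementary.isNilpotent hq hE
  have hreg : ∀ (r : ℕ), r.Prime → r ≠ p → ∀ z : G, (∃ k, orderOf z = r ^ k) → IsPRegular p z := by
    rintro r hr hrp z ⟨k, hk⟩ hd
    rw [hk] at hd
    exact hrp ((Nat.prime_dvd_prime_iff_eq hp.out hr).1 (hp.out.dvd_of_dvd_pow hd)).symm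
  have hmul : ∀ a b : E, (a * b) ^ N = a ^ N * b ^ N := by
    refine mul_pow_of_nilpotent N fun r hr => ?_
    by_cases hrp : r = p
    · subst hrp
      exact Or.inl fun z ⟨k, hk⟩ =>
        Subtype.ext (hN0 z ⟨k, by rw [Subgroup.orderOf_coe, hk]⟩)
    · exact Or.inr fun z ⟨k, hk⟩ =>
        Subtype.ext (hN1 z (hreg r hr hrp z ⟨k, by rw [Subgroup.orderOf_coe, hk]⟩))
  let f : E →* E :=
    { toFun := fun a => a ^ N
      map_one' := one_pow N
      map_mul' := hmul }
  exact Char.IsCharacter.isGeneralized (Char.IsCharacter.comp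
    (Char.IsCharacter.restrict hχ E) f)

variable {B : Set (IrrCharacter G)}

/-- The regular part of a member of `B` is an integral combination of regular parts of members of
`B` trivial on the central `p`-elements. -/
theorem exists_regular_combination (hpM : (p : AlgInt) ∈ M) (hB : IsPBlock M B)
    {χ : IrrCharacter G} (hχ : χ ∈ B) :
    ∃ n : IrrCharacter G → ℤ,
      (∀ ψ, n ψ ≠ 0 → ψ ∈ B ∧ ∀ z : G, (∀ g, Commute z g) → (∃ k, orderOf z = p ^ k) →
        ψ.1 z = ψ.1 1) ∧
      ∀ s : G, IsPRegular p s → χ.1 s = ∑ ψ, (n ψ : ℂ) * ψ.1 s := by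
  classical
  obtain ⟨N, hN0, hN1⟩ := exists_regular_exponent (G := G) (p := p)
  obtain ⟨m, hm, hmi⟩ := Char.IsGeneralizedCharacter.exists_decomp
    (isGeneralizedCharacter_regPow hN0 hN1 (Char.irr_isCharacter χ))
  have hreg : ∀ s : G, IsPRegular p s → χ.1 s = ∑ ψ, (m ψ : ℂ) * ψ.1 s := fun s hs => by
    have := congrFun hm s
    simp only [hN1 s hs, Finset.sum_apply, Pi.smul_apply, smul_eq_mul] at this
    exact this
  refine ⟨fun ψ => if ψ ∈ B then m ψ else 0, fun ψ hψ => ?_, ?_⟩
  · have hψB : ψ ∈ B := by_contra fun h => hψ (if_neg h)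
    have hψ' : m ψ ≠ 0 := by simpa only [if_pos hψB] using hψ
    refine ⟨hψB, fun z hz hzp => ?_⟩
    have hzc : IsCentralElt (MonoidAlgebra.single z (1 : ℂ)) :=
      isCentralElt_iff_commute.2 fun a => by
        show _ * _ = _ * _
        rw [MonoidAlgebra.single_mul_single, MonoidAlgebra.single_mul_single, (hz a).eq]
    have hzψ : ∀ g, ψ.1 (z * g) = ψ.1 z / ψ.1 1 * ψ.1 g := fun g => by
      have := chiL_mul_of_central ψ hzc (MonoidAlgebra.single g 1)
      simpa [MonoidAlgebra.single_mul_single, chiL_single, Blocks.omega] using this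
    have h1 : classInner (fun g => χ.1 (g ^ N)) ψ.1 =
        conj (ψ.1 z / ψ.1 1) * classInner (fun g => χ.1 (g ^ N)) ψ.1 := by
      simp only [classInner]
      rw [mul_left_comm (conj _)]
      congr 1
      rw [Finset.mul_sum]
      refine (Fintype.sum_equiv (Equiv.mulLeft z) _ _ fun g => ?_).symm
      simp only [Equiv.coe_mulLeft, hzψ, map_mul, (hz g).mul_pow, hN0 z hzp, one_mul]
      ring
    rw [hmi] at h1
    have h2 : (1 : ℂ) = conj (ψ.1 z / ψ.1 1) :=
      mul_right_cancel₀ (b := (m ψ : ℂ)) (Int.cast_ne_zero.2 hψ') (by rwa [one_mul])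
    have h3 := congrArg conj h2
    rw [map_one, Complex.conj_conj, eq_comm, div_eq_one_iff_eq (irr_one_ne_zero ψ)] at h3
    exact h3
  · -- the part outside `B` vanishes on regular elements
    set D : G → ℂ := Char.regFun p χ.1 -
      ∑ ψ ∈ Finset.univ.filter (· ∈ B), (m ψ : ℂ) • Char.regFun p ψ.1 with hD
    have hD' : D = ∑ ψ ∈ Finset.univ.filter (fun ψ => ¬ ψ ∈ B), (m ψ : ℂ) • Char.regFun p ψ.1 := by
      rw [hD, sub_eq_iff_eq_add, add_comm,
        Finset.sum_filter_add_sum_filter_not Finset.univ (· ∈ B)]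
      funext s
      simp only [Finset.sum_apply, Pi.smul_apply, smul_eq_mul]
      by_cases hs : p ∣ orderOf s
      · simp [Char.regFun, hs]
      · simp [Char.regFun, hs, hreg s hs]
    have horth : ∀ φ : IrrCharacter G, φ ∈ B →
        ∀ ψ : IrrCharacter G, ψ ∉ B → classInner (Char.regFun p φ.1) (Char.regFun p ψ.1) = 0 := by
      intro φ hφ ψ hψ
      rw [BrauerPairs.classInner_regFun_right, BrauerPairs.regDot, BrauerPairs.regFun_regFun]
      exact BrauerPairs.regDot_eq_zero hpM hp.out hB hφ hψ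
    have hzero : classInner D D = 0 := by
      conv_lhs => arg 2; rw [hD']
      rw [Char.classInner_sum_right]
      refine Finset.sum_eq_zero fun ψ hψ => ?_
      have hψ' := (Finset.mem_filter.1 hψ).2
      rw [Char.classInner_smul_right, hD, Char.classInner_sub_left, Char.classInner_sum_left,
        horth χ hχ ψ hψ', Finset.sum_eq_zero fun φ hφ => ?_]
      · rw [sub_zero, mul_zero]
      · rw [Char.classInner_smul_left, horth φ (Finset.mem_filter.1 hφ).2 ψ hψ', mul_zero]
    intro s hs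
    have h := congrFun (Char.classInner_self_eq_zero hzero) s
    have hs' : ¬ p ∣ orderOf s := hs
    simp only [hD, Pi.sub_apply, Finset.sum_apply, Pi.smul_apply, smul_eq_mul, Char.regFun,
      if_neg hs', Pi.zero_apply, sub_eq_zero] at h
    rw [h, Finset.sum_filter]
    refine Finset.sum_congr rfl fun ψ _ => ?_
    split_ifs <;> simp_all

end Cfsg.Agent.Blocks.NilRank
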