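import Cfsg.Agent.Lib.Blocks.NilpotentRank.Sections
import Cfsg.Agent.Lib.BrauerPairs.NilpotentBlock
import Cfsg.Agent.Lib.BrauerPairs.LocalBridge

/-!
# The subpairs of a maximal pair indexed by its elements

For a maximal pair `(P, e)` and `u ∈ P`, `eU u` is the idempotent of the pair at `⟨u⟩`. For a
nilpotent block, `|P| ⟨χ, ψ⟩ = Σ_{u ∈ P} |C_P(u)| m_u(χ, ψ)`.
-/

set_option autoImplicit false
set_option linter.unusedSectionVars false
set_option linter.style.haveILetI false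

namespace Cfsg.Agent.Blocks.NilRank

open Cfsg Blocks MonoidAlgebra
open Cfsg.Agent.BrauerPairs (blk blkG IsBlockIdem br conjEl conjPair IsPairOf IsMax PLE IsPair
  IsNilpotentPairs hasBlocks isBlockIdem_blkG)
open scoped Classical ComplexConjugate

universe u

variable {G : Type u} [Group G] [Fintype G] {M : Ideal AlgInt} [M.IsMaximal] {p : ℕ}
  [hp : Fact p.Prime] [CharP (AlgInt ⧸ M) p] {P : Subgroup G}
  {e : MonoidAlgebra (AlgInt ⧸ M) G}

theorem map_conj_zpowers (g u : G) :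
    (Subgroup.zpowers u).map (MulAut.conj g).toMonoidHom = Subgroup.zpowers (g * u * g⁻¹) := by
  rw [MonoidHom.map_zpowers]
  rfl

variable (p) in
/-- The idempotent of the subpair of `(P, e)` at `⟨u⟩`. -/
noncomputable def eU (P : Subgroup G) (e : MonoidAlgebra (AlgInt ⧸ M) G) (u : G) :
    MonoidAlgebra (AlgInt ⧸ M) G :=
  if h : ∃ f, PLE p (Subgroup.zpowers u, f) (P, e) then h.choose else 0

theorem eU_spec (ha : IsPair p (P, e)) {u : G} (hu : u ∈ P) :
    PLE p (Subgroup.zpowers u, eU p P e u) (P, e) := by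
  have h := BrauerPairs.exists_ple (fun H => hasBlocks M H) ha (Subgroup.zpowers u)
    (Subgroup.zpowers_le.2 hu)
  rw [eU, dif_pos h]
  exact h.choose_spec

theorem eU_eq (ha : IsPair p (P, e)) {u : G} (hu : u ∈ P) {f : MonoidAlgebra (AlgInt ⧸ M) G}
    (hf : PLE p (Subgroup.zpowers u, f) (P, e)) : eU p P e u = f :=
  BrauerPairs.ple_unique (fun H => hasBlocks M H) ha _ _ _ (eU_spec ha hu) hf

theorem eU_congr (ha : IsPair p (P, e)) {u v : G} (hu : u ∈ P) (hv : v ∈ P)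
    (h : Subgroup.zpowers v = Subgroup.zpowers u) : eU p P e v = eU p P e u :=
  eU_eq ha hv (h.symm ▸ eU_spec ha hu)

theorem isBlockIdem_eU (ha : IsPair p (P, e)) {u : G} (hu : u ∈ P) :
    IsBlockIdem (Subgroup.centralizer ({u} : Set G)) (eU p P e u) := by
  have h := (PLE.isPair_left (eU_spec ha hu) ha).2
  exact centralizer_zpowers_eq (x := u) ▸ h

theorem exists_orderOf_mem (hP : IsPGroup p P) {u : G} (hu : u ∈ P) :
    ∃ k, orderOf u = p ^ k := by
  obtain ⟨k, hk⟩ := IsPGroup.iff_orderOf.1 hP ⟨u, hu⟩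
  exact ⟨k, by rw [← hk, Subgroup.orderOf_mk]⟩

theorem mem_secPairs (hpM : (p : AlgInt) ∈ M) {B : Set (IrrCharacter G)} (hB : IsPBlock M B)
    (q : G × MonoidAlgebra (AlgInt ⧸ M) G) :
    q ∈ secPairs M p B ↔ (∃ k, orderOf q.1 = p ^ k) ∧
      IsPairOf p (blkG M B) (Subgroup.zpowers q.1, q.2) := by
  obtain ⟨x, f⟩ := q
  simp only [secPairs, pElts, Finset.mem_biUnion, Finset.mem_filter, Finset.mem_univ, true_and,
    Finset.mem_image, Prod.mk.injEq]
  constructor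
  · rintro ⟨x, hx, η, hη, rfl, rfl⟩
    refine ⟨hx, ⟨isPGroup_zpowers hx, ?_⟩, ?_⟩
    · show IsBlockIdem (Subgroup.centralizer (Subgroup.zpowers x : Set G))
        (blk M (Subgroup.centralizer ({x} : Set G)) (blockOf M η.1))
      rw [centralizer_zpowers_eq]
      exact BrauerPairs.isBlockIdem_blk _ (BrauerPairs.isPBlock_blockOf η)
    · exact (isInducedBlock_centralizer_iff hpM hx hB (BrauerPairs.isPBlock_blockOf η)).1 hη
  · rintro ⟨hx, ⟨-, hf⟩, hbr⟩
    have hf' : IsBlockIdem (Subgroup.centralizer ({x} : Set G)) f :=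
      centralizer_zpowers_eq (x := x) ▸ hf
    obtain ⟨b, hb, rfl⟩ := BrauerPairs.exists_eq_blk _ hf'
    obtain ⟨η, rfl⟩ := hb
    exact ⟨x, hx, η, (isInducedBlock_centralizer_iff hpM hx hB
      (BrauerPairs.isPBlock_blockOf η)).2 hbr, rfl, rfl⟩

theorem isPairOf_eU {B : MonoidAlgebra (AlgInt ⧸ M) G} (hB : IsBlockIdem ⊤ B)
    (ha : IsPairOf p B (P, e)) {u : G} (hu : u ∈ P) :
    IsPairOf p B (Subgroup.zpowers u, eU p P e u) :=
  (BrauerPairs.ple_isPairOf_iff hB (eU_spec ha.1 hu)).1 ha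

theorem isInducedBlock_eU (hpM : (p : AlgInt) ∈ M) {B : Set (IrrCharacter G)} (hB : IsPBlock M B)
    (ha : IsPairOf p (blkG M B) (P, e)) {u : G} (hu : u ∈ P) :
    IsInducedBlock M (Subgroup.centralizer ({u} : Set G))
      (blkSet M (Subgroup.centralizer ({u} : Set G)) (eU p P e u)) B := by
  obtain ⟨h1, h2⟩ := blkSet_spec (isBlockIdem_eU ha.1 hu)
  rw [isInducedBlock_centralizer_iff hpM (exists_orderOf_mem ha.1.1 hu) hB h1, h2]
  exact (isPairOf_eU (isBlockIdem_blkG hB) ha hu).2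

theorem eU_conj (ha : IsPair p (P, e)) {u v : G} (hu : u ∈ P) (hv : v ∈ P) :
    eU p P e (v * u * v⁻¹) = conjEl v (eU p P e u) := by
  refine eU_eq ha (mul_mem (mul_mem hv hu) (inv_mem hv)) ?_
  have h := (eU_spec ha hu).conj v
  have he : conjPair v (P, e) = (P, e) := Prod.ext
    (BrauerPairs.map_conj_eq_of_mem_normalizer (Subgroup.le_normalizer hv))
    (BrauerPairs.mem_fixedBy_of_supp_centralizer ha.2.mem.1 v hv)
  rw [he, show conjPair v (Subgroup.zpowers u, eU p P e u) =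
    (Subgroup.zpowers (v * u * v⁻¹), conjEl v (eU p P e u)) from
      Prod.ext (map_conj_zpowers v u) rfl] at h
  exact h

theorem conjEl_eU_of_mem (ha : IsPair p (P, e)) {u c : G} (hu : u ∈ P)
    (hc : c ∈ Subgroup.centralizer ({u} : Set G)) : conjEl c (eU p P e u) = eU p P e u :=
  (isBlockIdem_eU ha hu).mem.2 c hc

variable {B : Set (IrrCharacter G)}

/-- In a nilpotent block conjugate subpairs at `⟨u⟩`, `⟨u'⟩` come from conjugate elements of `P`. -/
theorem exists_conj_of_eU (hB : IsPBlock M B) (ha : IsMax p (blkG M B) (P, e))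
    (hnil : IsNilpotentPairs p (blkG M B)) {g u u' : G} (hu : u ∈ P) (hu' : u' ∈ P)
    (hg : g * u * g⁻¹ = u') (he : conjEl g (eU p P e u) = eU p P e u') :
    ∃ v ∈ P, u' = v * u * v⁻¹ := by
  have hH : BrauerPairs.BHom p P e g (Subgroup.zpowers u) := by
    refine (BrauerPairs.bhom_iff (fun H => hasBlocks M H) ha.1.1 (eU_spec ha.1.1 hu) g).2 ?_
    rw [show conjPair g (Subgroup.zpowers u, eU p P e u) = (Subgroup.zpowers u', eU p P e u') from
      Prod.ext (by rw [← hg]; exact map_conj_zpowers g u) he]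
    exact eU_spec ha.1.1 hu'
  obtain ⟨v, hv, hact⟩ := hnil.exists_mem_conj (fun H => hasBlocks M H) (isBlockIdem_blkG hB) ha hH
  exact ⟨v, hv, by rw [← hg, hact u (Subgroup.mem_zpowers u)]⟩

/-- The defect of the block at `u` is `|C_P(u)|`. -/
theorem pow_blockDefect_eU (hpM : (p : AlgInt) ∈ M) (hB : IsPBlock M B)
    (ha : IsMax p (blkG M B) (P, e)) (hnil : IsNilpotentPairs p (blkG M B)) {u : G} (hu : u ∈ P) :
    p ^ blockDefect p (blkSet M (Subgroup.centralizer ({u} : Set G)) (eU p P e u)) =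
      Nat.card (P ⊓ Subgroup.centralizer ({u} : Set G) : Subgroup G) := by
  obtain ⟨h1, h2⟩ := blkSet_spec (isBlockIdem_eU ha.1.1 hu)
  have hD := (BrauerPairs.forall_centralizer_le_iff (fun H => hasBlocks M H) (isBlockIdem_blkG hB)
    ha (eU_spec ha.1.1 hu)).1 fun g hg => by
    obtain ⟨v, hv, hx⟩ := hnil.exists_mem_conj (fun H => hasBlocks M H) (isBlockIdem_blkG hB) ha hg
    have hmap : (Subgroup.zpowers u).map (MulAut.conj g).toMonoidHom =
        (Subgroup.zpowers u).map (MulAut.conj v).toMonoidHom := by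
      rw [map_conj_zpowers, map_conj_zpowers, hx u (Subgroup.mem_zpowers u)]
    rw [← BrauerPairs.card_map_conj v (P ⊓ Subgroup.centralizer (Subgroup.zpowers u : Set G)),
      BrauerPairs.map_conj_inf_centralizer,
      BrauerPairs.map_conj_eq_of_mem_normalizer (Subgroup.le_normalizer hv), hmap]
  rw [centralizer_zpowers_eq (x := u)] at hD
  have hD' : IsDefectGroup p M (blkSet M (Subgroup.centralizer ({u} : Set G)) (eU p P e u))
      ((P ⊓ Subgroup.centralizer ({u} : Set G)).subgroupOf (Subgroup.centralizer ({u} : Set G))) :=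
    (BrauerPairs.isDefectGroup_subgroupOf_iff h1 inf_le_right).2 (by rwa [h2])
  rw [← card_defectGroup hpM h1 hD',
    Nat.card_congr (Subgroup.subgroupOfEquivOfLe inf_le_right).toEquiv]

theorem blkSet_conj (ha : IsPair p (P, e)) {u : G} (hu : u ∈ P) (g : G)
    (hH : ∀ c, c ∈ Subgroup.centralizer ({g * u * g⁻¹} : Set G) ↔
      g⁻¹ * c * g ∈ Subgroup.centralizer ({u} : Set G)) :
    blkSet M (Subgroup.centralizer ({g * u * g⁻¹} : Set G)) (conjEl g (eU p P e u)) =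
      BrauerPairs.mapBlock (BrauerPairs.conjIso g hH)
        (blkSet M (Subgroup.centralizer ({u} : Set G)) (eU p P e u)) := by
  obtain ⟨h1, h2⟩ := blkSet_spec (isBlockIdem_eU ha hu)
  conv_lhs => rw [← h2, ← BrauerPairs.blk_mapBlock_conjIso g hH]
  exact blkSet_blk (BrauerPairs.isPBlock_mapBlock _ h1)

/-- `|P| ⟨χ, ψ⟩ = Σ_{u ∈ P} |C_P(u)| m_u(χ, ψ)`. -/
theorem card_mul_classInner (hpM : (p : AlgInt) ∈ M) (hB : IsPBlock M B)
    (ha : IsMax p (blkG M B) (P, e)) (hnil : IsNilpotentPairs p (blkG M B)) {χ : IrrCharacter G}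
    (hχ : χ ∈ B) (ψ : IrrCharacter G) :
    (Nat.card P : ℂ) * classInner χ.1 ψ.1 = ∑ u : P,
      (Nat.card (P ⊓ Subgroup.centralizer ({(u : G)} : Set G) : Subgroup G) : ℂ) *
        sectF p (Subgroup.centralizer ({(u : G)} : Set G)) u
          (blkSet M (Subgroup.centralizer ({(u : G)} : Set G)) (eU p P e u)) χ.1 ψ.1 := by
  have hblk : ∀ H : Subgroup G, BrauerPairs.HasBlocks (AlgInt ⧸ M) H := fun H => hasBlocks M H
  have hBi := isBlockIdem_blkG hB
  let F : G × MonoidAlgebra (AlgInt ⧸ M) G → ℂ := fun q =>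
    sectF p (Subgroup.centralizer ({q.1} : Set G)) q.1
      (blkSet M (Subgroup.centralizer ({q.1} : Set G)) q.2) χ.1 ψ.1
  let q : G × P → G × MonoidAlgebra (AlgInt ⧸ M) G := fun gu =>
    (gu.1 * gu.2 * gu.1⁻¹, conjEl gu.1 (eU p P e gu.2))
  let w : G × P → ℂ := fun gu =>
    (Nat.card (P ⊓ Subgroup.centralizer ({(gu.2 : G)} : Set G) : Subgroup G) : ℂ)
  have hmem : ∀ gu, q gu ∈ secPairs M p B := fun gu => by
    have hpair := (isPairOf_eU hBi ha.1 gu.2.2).conj hBi gu.1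
    rw [show conjPair gu.1 (Subgroup.zpowers (gu.2 : G), eU p P e gu.2) =
      (Subgroup.zpowers (q gu).1, (q gu).2) from Prod.ext (map_conj_zpowers _ _) rfl] at hpair
    refine (mem_secPairs hpM hB _).2 ⟨?_, hpair⟩
    obtain ⟨k, hk⟩ := exists_orderOf_mem ha.1.1.1 gu.2.2
    exact ⟨k, by
      show orderOf (MulAut.conj gu.1 (gu.2 : G)) = _
      rw [MulEquiv.orderOf_eq, hk]⟩
  have hF : ∀ gu : G × P, F (q gu) = sectF p (Subgroup.centralizer ({(gu.2 : G)} : Set G)) gu.2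
      (blkSet M (Subgroup.centralizer ({(gu.2 : G)} : Set G)) (eU p P e gu.2)) χ.1 ψ.1 := by
    rintro ⟨g, u⟩
    have hH : ∀ c, c ∈ Subgroup.centralizer ({g * (u : G) * g⁻¹} : Set G) ↔
        g⁻¹ * c * g ∈ Subgroup.centralizer ({(u : G)} : Set G) := fun c => by
      simp only [Subgroup.mem_centralizer_singleton_iff]
      constructor
      · intro h
        have := congrArg (fun y => g⁻¹ * y * g) h
        simpa [mul_assoc] using this
      · intro h
        have := congrArg (fun y => g * y * g⁻¹) h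
        simpa [mul_assoc] using this
    simp only [F, q, blkSet_conj ha.1.1 u.2 g hH]
    exact sectF_conj g hH _ χ ψ
  have hfib : ∀ y ∈ secPairs M p B, ∑ gu ∈ Finset.univ.filter (fun gu => q gu = y), w gu =
      (Nat.card (Subgroup.centralizer ({y.1} : Set G)) : ℂ) * Nat.card P := by
    intro y hy
    obtain ⟨hyx, hy2⟩ := (mem_secPairs hpM hB y).1 hy
    obtain ⟨g₁, hg₁⟩ := BrauerPairs.exists_conj_ple hblk hBi ha hy2
    have hu0 : g₁ * y.1 * g₁⁻¹ ∈ P := by
      refine PLE.le hg₁ ?_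
      show _ ∈ (Subgroup.zpowers y.1).map (MulAut.conj g₁).toMonoidHom
      exact ⟨y.1, Subgroup.mem_zpowers _, rfl⟩
    set u₀ : P := ⟨g₁ * y.1 * g₁⁻¹, hu0⟩ with hu₀
    have he0 : eU p P e u₀ = conjEl g₁ y.2 := by
      refine eU_eq ha.1.1 hu0 ?_
      rwa [show conjPair g₁ (Subgroup.zpowers y.1, y.2) = (Subgroup.zpowers (u₀ : G), conjEl g₁ y.2)
        from Prod.ext (map_conj_zpowers _ _) rfl] at hg₁
    have hy' : q (g₁⁻¹, u₀) = y := by
      refine Prod.ext ?_ ?_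
      · show g₁⁻¹ * (g₁ * y.1 * g₁⁻¹) * g₁⁻¹⁻¹ = y.1
        group
      · show conjEl g₁⁻¹ (eU p P e u₀) = y.2
        rw [he0, BrauerPairs.conjEl_inv_conjEl]
    set C := Subgroup.centralizer ({(u₀ : G)} : Set G) with hC
    let π : C × P → G × P := fun cv => (g₁⁻¹ * (cv.1 : G)⁻¹ * (cv.2 : G)⁻¹, cv.2 * u₀ * cv.2⁻¹)
    have hπq : ∀ cv, q (π cv) = y := by
      rintro ⟨c, v⟩
      rw [← hy']
      refine Prod.ext ?_ ?_
      · show g₁⁻¹ * (c : G)⁻¹ * (v : G)⁻¹ * ((v : G) * u₀ * (v : G)⁻¹) *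
          (g₁⁻¹ * (c : G)⁻¹ * (v : G)⁻¹)⁻¹ = g₁⁻¹ * u₀ * g₁⁻¹⁻¹
        have hc : (c : G) * u₀ = u₀ * c := Subgroup.mem_centralizer_singleton_iff.1 c.2
        calc _ = g₁⁻¹ * ((c : G)⁻¹ * u₀ * c) * g₁⁻¹⁻¹ := by group
          _ = _ := by rw [mul_assoc (c : G)⁻¹, ← hc, inv_mul_cancel_left]
      · show conjEl (g₁⁻¹ * (c : G)⁻¹ * (v : G)⁻¹) (eU p P e ((v : G) * u₀ * (v : G)⁻¹)) =
          conjEl g₁⁻¹ (eU p P e u₀)
        rw [eU_conj ha.1.1 u₀.2 v.2, BrauerPairs.conjEl_mul, BrauerPairs.conjEl_mul,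
          BrauerPairs.conjEl_inv_conjEl, conjEl_eU_of_mem ha.1.1 u₀.2 (inv_mem c.2)]
    have hsurj : ∀ gu, q gu = y → ∃ cv, π cv = gu := by
      rintro ⟨g', u'⟩ h
      rw [← hy'] at h
      have h1 : g' * u' * g'⁻¹ = g₁⁻¹ * u₀ * g₁⁻¹⁻¹ := congrArg Prod.fst h
      have h2 : conjEl g' (eU p P e u') = conjEl g₁⁻¹ (eU p P e u₀) := congrArg Prod.snd h
      have h3 : g'⁻¹ * g₁⁻¹ * u₀ * (g'⁻¹ * g₁⁻¹)⁻¹ = u' := by
        have := congrArg (fun z => g'⁻¹ * z * g') h1
        simp only [mul_assoc, inv_mul_cancel_left, inv_mul_cancel, mul_one] at this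
        rw [this]
        group
      have h4 : conjEl (g'⁻¹ * g₁⁻¹) (eU p P e u₀) = eU p P e u' := by
        rw [BrauerPairs.conjEl_mul, ← h2, BrauerPairs.conjEl_inv_conjEl]
      obtain ⟨v, hv, hv'⟩ := exists_conj_of_eU hB ha hnil u₀.2 u'.2 h3 h4
      have hc : (v⁻¹ * (g'⁻¹ * g₁⁻¹)) ∈ C := by
        refine Subgroup.mem_centralizer_singleton_iff.2 ?_
        have := h3.trans hv'
        have e1 : g'⁻¹ * g₁⁻¹ * u₀ = v * u₀ * v⁻¹ * (g'⁻¹ * g₁⁻¹) := by
          rw [← this]; group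
        rw [mul_assoc, e1]
        group
      refine ⟨(⟨_, hc⟩, ⟨v, hv⟩), Prod.ext ?_ (Subtype.ext hv'.symm)⟩
      show g₁⁻¹ * (v⁻¹ * (g'⁻¹ * g₁⁻¹))⁻¹ * v⁻¹ = g'
      group
    have hpre : ∀ gu ∈ Finset.univ.filter (fun gu => q gu = y),
        ((Finset.univ.filter fun cv => π cv = gu).card : ℂ) = w gu := by
      intro gu hgu
      obtain ⟨⟨c₀, v₀⟩, rfl⟩ := hsurj gu (Finset.mem_filter.1 hgu).2
      simp only [w, π]
      rw [Nat.card_eq_fintype_card, ← Finset.card_univ]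
      congr 1
      symm
      have hcent : ∀ d : (P ⊓ Subgroup.centralizer ({(v₀ : G) * u₀ * (v₀ : G)⁻¹} : Set G) : Subgroup G),
          (v₀ : G)⁻¹ * (d : G)⁻¹ * v₀ * c₀ ∈ C := fun d => by
        refine mul_mem ?_ c₀.2
        have hd := Subgroup.mem_centralizer_singleton_iff.1 (inv_mem d.2.2)
        refine Subgroup.mem_centralizer_singleton_iff.2 ?_
        have := congrArg (fun z => (v₀ : G)⁻¹ * z * v₀) hd
        simpa [mul_assoc] using this
      refine Finset.card_bij (fun d _ => ((⟨_, hcent d⟩ : C), (⟨d * v₀, mul_mem d.2.1 v₀.2⟩ : P)))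
        (fun d _ => ?_) (fun d _ d' _ h => ?_) fun cv hcv => ?_
      · refine Finset.mem_filter.2 ⟨Finset.mem_univ _, Prod.ext ?_ (Subtype.ext ?_)⟩
        · show g₁⁻¹ * ((v₀ : G)⁻¹ * (d : G)⁻¹ * v₀ * c₀)⁻¹ * ((d : G) * v₀)⁻¹ =
            g₁⁻¹ * (c₀ : G)⁻¹ * (v₀ : G)⁻¹
          group
        · show (d : G) * v₀ * u₀ * ((d : G) * v₀)⁻¹ = (v₀ : G) * u₀ * (v₀ : G)⁻¹
          have hd : (d : G) * ((v₀ : G) * u₀ * (v₀ : G)⁻¹) = (v₀ : G) * u₀ * (v₀ : G)⁻¹ * d :=
            Subgroup.mem_centralizer_singleton_iff.1 d.2.2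
          calc _ = (d : G) * ((v₀ : G) * u₀ * (v₀ : G)⁻¹) * (d : G)⁻¹ := by group
            _ = _ := by rw [hd, mul_inv_cancel_right]
      · exact Subtype.ext (mul_right_cancel (congrArg (fun z : C × P => (z.2 : G)) h))
      · obtain ⟨c, v⟩ := cv
        have h := (Finset.mem_filter.1 hcv).2
        simp only [π, Prod.mk.injEq] at h
        obtain ⟨h1, h2⟩ := h
        have h2' : (v : G) * u₀ * (v : G)⁻¹ = (v₀ : G) * u₀ * (v₀ : G)⁻¹ :=
          congrArg Subtype.val h2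
        have h1' : (v : G) * c = v₀ * c₀ := by
          have := congrArg (fun z => (g₁ * z)⁻¹) h1
          simpa [mul_assoc] using this
        have hd : (v : G) * (v₀ : G)⁻¹ ∈
            P ⊓ Subgroup.centralizer ({(v₀ : G) * u₀ * (v₀ : G)⁻¹} : Set G) := by
          refine ⟨mul_mem (v.2 : (v : G) ∈ P) (P.inv_mem v₀.2), Subgroup.mem_centralizer_singleton_iff.2 ?_⟩
          calc _ = (v : G) * u₀ * (v : G)⁻¹ * ((v : G) * (v₀ : G)⁻¹) := by group
            _ = _ := by rw [h2']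
        refine ⟨⟨_, hd⟩, Finset.mem_univ _, Prod.ext (Subtype.ext ?_) (Subtype.ext ?_)⟩
        · show (v₀ : G)⁻¹ * ((v : G) * (v₀ : G)⁻¹)⁻¹ * v₀ * c₀ = c
          rw [mul_assoc _ (v₀ : G) (c₀ : G), ← h1']
          group
        · show (v : G) * (v₀ : G)⁻¹ * v₀ = v
          group
    rw [← Finset.sum_congr rfl hpre, ← Nat.cast_sum, ← Finset.card_eq_sum_card_fiberwise
      (fun cv _ => Finset.mem_filter.2 ⟨Finset.mem_univ _, hπq cv⟩), Finset.card_univ,
      Fintype.card_prod, Nat.cast_mul, ← Nat.card_eq_fintype_card, ← Nat.card_eq_fintype_card]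
    congr 2
    refine Nat.card_congr (Equiv.subtypeEquiv (MulAut.conj g₁⁻¹).toEquiv fun c => ?_)
    show c ∈ C ↔ MulAut.conj g₁⁻¹ c ∈ Subgroup.centralizer ({y.1} : Set G)
    simp only [hC, Subgroup.mem_centralizer_singleton_iff, hu₀, MulAut.conj_apply]
    constructor
    · intro h
      have := congrArg (fun z => g₁⁻¹ * z * g₁) h
      simpa [mul_assoc] using this
    · intro h
      have := congrArg (fun z => g₁ * z * g₁⁻¹) h
      simpa [mul_assoc] using this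
  have h := classInner_eq_sum_secPairs (p := p) hpM hB hχ ψ
  have key : ∑ gu : G × P, w gu * F (q gu) = (Nat.card P : ℂ) * ((Nat.card G : ℂ) * classInner χ.1 ψ.1) := by
    rw [h, Finset.mul_sum, ← Finset.sum_fiberwise_of_maps_to (g := q) (t := secPairs M p B)
      fun gu _ => hmem gu]
    refine Finset.sum_congr rfl fun y hy => ?_
    rw [Finset.sum_congr rfl fun gu hgu => show w gu * F (q gu) = w gu * F y by
      rw [(Finset.mem_filter.1 hgu).2], ← Finset.sum_mul, hfib y hy]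
    ring
  rw [Fintype.sum_prod_type] at key
  simp only [hF, w, Finset.sum_const, Finset.card_univ, nsmul_eq_mul,
    ← Nat.card_eq_fintype_card] at key
  refine mul_left_cancel₀ (Nat.cast_ne_zero.2 (Nat.card_pos (α := G)).ne' : (Nat.card G : ℂ) ≠ 0) ?_
  rw [key]
  ring

end Cfsg.Agent.Blocks.NilRank
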