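import Cfsg.Agent.Lib.Blocks.Nilpotent
import Mathlib.RingTheory.IntegralClosure.IsIntegralClosure.Basic
import Mathlib.LinearAlgebra.Matrix.Charpoly.Eigs

/-!
# Congruences modulo powers of `p` in the local ring at `M`

* `Cong M p a x y`: `x - y` is `p ^ a` times a local integer;
* finitely many elements of the local ideal generate an ideal with a power inside `p ^ a`;
* high `p`-power powers of an element congruent to one are congruent to one modulo `p ^ a`;
* the local ring is integrally closed.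
-/

set_option autoImplicit false
set_option linter.unusedSectionVars false

namespace Cfsg.Agent.Blocks.NilRank

open Cfsg Blocks Polynomial

variable {M : Ideal AlgInt} [hMmax : M.IsMaximal] {p : ℕ} [hp : Fact p.Prime]

variable (M p) in
/-- Congruence modulo `p ^ a` in the local ring. -/
def Cong (a : ℕ) (x y : ℂ) : Prop := MemLocalRing M ((x - y) / (p : ℂ) ^ a)

theorem pa_ne_zero (a : ℕ) : (p : ℂ) ^ a ≠ 0 := pow_ne_zero _ (Nat.cast_ne_zero.2 hp.out.ne_zero)

theorem Cong.refl (a : ℕ) (x : ℂ) : Cong M p a x x := by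
  rw [Cong, sub_self, zero_div]; exact memLocalRing_zero

theorem Cong.of_eq {a : ℕ} {x y : ℂ} (h : x = y) : Cong M p a x y := h ▸ Cong.refl a x

theorem Cong.symm {a : ℕ} {x y : ℂ} (h : Cong M p a x y) : Cong M p a y x := by
  unfold Cong at *
  rw [← neg_sub, neg_div]
  exact MemLocalRing.neg h

theorem Cong.trans {a : ℕ} {x y z : ℂ} (h : Cong M p a x y) (h' : Cong M p a y z) :
    Cong M p a x z := by
  unfold Cong at *
  rw [show x - z = (x - y) + (y - z) by ring, add_div]
  exact MemLocalRing.add h h'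

theorem Cong.add {a : ℕ} {x y x' y' : ℂ} (h : Cong M p a x y) (h' : Cong M p a x' y') :
    Cong M p a (x + x') (y + y') := by
  unfold Cong at *
  rw [show x + x' - (y + y') = (x - y) + (x' - y') by ring, add_div]
  exact MemLocalRing.add h h'

theorem Cong.sub {a : ℕ} {x y x' y' : ℂ} (h : Cong M p a x y) (h' : Cong M p a x' y') :
    Cong M p a (x - x') (y - y') := by
  unfold Cong at *
  rw [show x - x' - (y - y') = (x - y) - (x' - y') by ring, sub_div]
  exact MemLocalRing.sub h h'

theorem Cong.mul_left {a : ℕ} {x y : ℂ} (h : Cong M p a x y) {r : ℂ} (hr : MemLocalRing M r) :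
    Cong M p a (r * x) (r * y) := by
  unfold Cong at *
  rw [← mul_sub, mul_div_assoc]
  exact MemLocalRing.mul hr h

theorem Cong.mul_right {a : ℕ} {x y : ℂ} (h : Cong M p a x y) {r : ℂ} (hr : MemLocalRing M r) :
    Cong M p a (x * r) (y * r) := by
  rw [mul_comm x, mul_comm y]; exact Cong.mul_left h hr

theorem Cong.mul {a : ℕ} {x y x' y' : ℂ} (h : Cong M p a x y) (h' : Cong M p a x' y')
    (hy : MemLocalRing M y) (hx' : MemLocalRing M x') : Cong M p a (x * x') (y * y') :=
  Cong.trans (Cong.mul_right h hx') (Cong.mul_left h' hy)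

theorem Cong.sum {ι : Type*} (s : Finset ι) {a : ℕ} {f g : ι → ℂ}
    (h : ∀ i ∈ s, Cong M p a (f i) (g i)) : Cong M p a (∑ i ∈ s, f i) (∑ i ∈ s, g i) := by
  unfold Cong at *
  rw [← Finset.sum_sub_distrib, div_eq_mul_inv, Finset.sum_mul]
  simp only [← div_eq_mul_inv]
  exact MemLocalRing.sum s h

theorem Cong.mono {a b : ℕ} (hab : a ≤ b) {x y : ℂ} (h : Cong M p b x y) : Cong M p a x y := by
  unfold Cong at *
  have e : (x - y) / (p : ℂ) ^ a = (x - y) / (p : ℂ) ^ b * ((p ^ (b - a) : ℕ) : ℂ) := by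
    rw [Nat.cast_pow, eq_comm, div_mul_eq_mul_div, div_eq_div_iff (pa_ne_zero b) (pa_ne_zero a),
      mul_assoc, ← pow_add, Nat.sub_add_cancel hab]
  rw [e]
  exact MemLocalRing.mul h (memLocalRing_natCast _)

theorem Cong.memLocalIdeal (hpM : (p : AlgInt) ∈ M) {a : ℕ} (ha : a ≠ 0) {x y : ℂ}
    (h : Cong M p a x y) : MemLocalIdeal M (x - y) := by
  rw [← div_mul_cancel₀ (x - y) (pa_ne_zero (p := p) a)]
  refine MemLocalIdeal.mul_left h ?_
  obtain ⟨b, rfl⟩ := Nat.exists_eq_succ_of_ne_zero ha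
  rw [pow_succ]
  exact MemLocalIdeal.mul_left (MemLocalRing.pow (memLocalRing_natCast p) b) (memLocalIdeal_p hpM)

/-- A power of an element of the local ideal is divisible by `p`. -/
theorem exists_pow_div_p (hpM : (p : AlgInt) ∈ M) {z : ℂ} (hz : MemLocalIdeal M z) :
    ∃ L : ℕ, MemLocalRing M (z ^ L / (p : ℂ)) := by
  classical
  obtain ⟨x, b, hxM, hb, rfl⟩ := hz
  have hx : IsIntegral ℤ (x : ℂ) := x.2
  obtain ⟨f, hf, hfx⟩ := hx
  have hlead : ∃ i, ¬ (p : ℤ) ∣ f.coeff i := ⟨f.natDegree, by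
    rw [coeff_natDegree, hf.leadingCoeff]
    exact fun h => hp.out.ne_one (Nat.dvd_one.1 (Int.natCast_dvd_natCast.1 (by simpa using h)))⟩
  set i := Nat.find hlead with hi
  have hin : i ≤ f.natDegree := Nat.find_le (by
    rw [coeff_natDegree, hf.leadingCoeff]
    exact fun h => hp.out.ne_one (Nat.dvd_one.1 (Int.natCast_dvd_natCast.1 (by simpa using h))))
  choose! r hr using fun j (hj : j < i) => not_not.1 (Nat.find_min hlead hj)
  let high : AlgInt := ∑ j ∈ Finset.range (f.natDegree + 1 - i), (f.coeff (i + j) : AlgInt) * x ^ j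
  let low : AlgInt := ∑ j ∈ Finset.range i, (r j : AlgInt) * x ^ j
  have hsum : (p : ℂ) * (low : ℂ) + (x : ℂ) ^ i * (high : ℂ) = 0 := by
    have h0 : ∑ j ∈ Finset.range (i + (f.natDegree + 1 - i)), (f.coeff j : ℂ) * (x : ℂ) ^ j = 0 := by
      rw [show i + (f.natDegree + 1 - i) = f.natDegree + 1 by omega, ← hfx, eval₂_eq_sum_range]
      exact Finset.sum_congr rfl fun j _ => by simp
    rw [Finset.sum_range_add] at h0
    rw [← h0]
    simp only [high, low, AddSubmonoidClass.coe_finsetSum, Finset.mul_sum]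
    push_cast
    congr 1
    · refine Finset.sum_congr rfl fun j hj => ?_
      rw [hr j (Finset.mem_range.1 hj)]
      push_cast
      ring
    · exact Finset.sum_congr rfl fun j _ => by ring
  have hhigh : high ∉ M := by
    intro hmem
    have hsucc : f.natDegree + 1 - i = (f.natDegree - i) + 1 := by omega
    have h1 : ∑ j ∈ Finset.range (f.natDegree - i),
        (f.coeff (i + (j + 1)) : AlgInt) * x ^ (j + 1) ∈ M :=
      M.sum_mem fun j _ => M.mul_mem_left _ (by rw [pow_succ]; exact M.mul_mem_left _ hxM)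
    simp only [high, hsucc, Finset.sum_range_succ', Nat.add_zero, pow_zero, mul_one] at hmem
    have h2 : (f.coeff i : AlgInt) ∈ M := by
      have := M.sub_mem hmem h1
      rwa [add_sub_cancel_left] at this
    refine Nat.find_spec hlead ((memLocalIdeal_intCast_iff hpM _).1 ?_)
    simpa using (memLocalIdeal_coe_iff (M := M) (f.coeff i : AlgInt)).2 h2
  refine ⟨i, ?_⟩
  have e : ((x : ℂ) / b) ^ i / p = -((low : ℂ) / ((high * b ^ i : AlgInt) : ℂ)) := by
    have hb0 : (b : ℂ) ≠ 0 := coe_ne_zero_of_not_mem hb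
    have hh0 : (high : ℂ) ≠ 0 := coe_ne_zero_of_not_mem hhigh
    have hp0 : (p : ℂ) ≠ 0 := Nat.cast_ne_zero.2 hp.out.ne_zero
    push_cast
    rw [div_pow]
    field_simp
    linear_combination hsum
  rw [e]
  refine MemLocalRing.neg ⟨low, _, ?_, rfl⟩
  refine not_mem_mul hhigh ?_
  intro h
  exact hb (hMmax.isPrime.mem_of_pow_mem _ h)

/-- A power of an element of the local ideal is divisible by `p ^ a`. -/
theorem exists_pow_cong_zero (hpM : (p : AlgInt) ∈ M) {z : ℂ} (hz : MemLocalIdeal M z) (a : ℕ) :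
    ∃ L : ℕ, Cong M p a (z ^ L) 0 := by
  obtain ⟨L, hL⟩ := exists_pow_div_p hpM hz
  refine ⟨L * a, ?_⟩
  rw [Cong, sub_zero, pow_mul, ← div_pow]
  exact MemLocalRing.pow hL a

/-- The ideal of multiples of `p ^ a` in the local ring. -/
noncomputable def paIdeal (M : Ideal AlgInt) [M.IsMaximal] (p a : ℕ) : Ideal (localInt M) :=
  Ideal.span {⟨((p : ℂ)) ^ a, MemLocalRing.pow (memLocalRing_natCast p) a⟩}

theorem mem_paIdeal {a : ℕ} {z : localInt M} :
    z ∈ paIdeal M p a ↔ Cong M p a (z : ℂ) 0 := by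
  rw [paIdeal, Ideal.mem_span_singleton', Cong, sub_zero]
  constructor
  · rintro ⟨c, rfl⟩
    simp only [Subring.coe_mul]
    rw [mul_div_assoc, div_self (pa_ne_zero a), mul_one]
    exact c.2
  · intro h
    exact ⟨⟨_, h⟩, Subtype.ext (div_mul_cancel₀ _ (pa_ne_zero a))⟩

/-- Finitely many elements of the local ideal generate an ideal nilpotent modulo `p ^ a`. -/
theorem exists_span_pow_le (hpM : (p : AlgInt) ∈ M) (s : Finset (localInt M))
    (hs : ∀ z ∈ s, MemLocalIdeal M (z : ℂ)) (a : ℕ) :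
    ∃ L : ℕ, Ideal.span (s : Set (localInt M)) ^ L ≤ paIdeal M p a := by
  classical
  induction s using Finset.induction_on with
  | empty => exact ⟨1, by simp⟩
  | insert z s hz ih =>
    obtain ⟨L, hL⟩ := ih fun w hw => hs w (Finset.mem_insert_of_mem hw)
    obtain ⟨K, hK⟩ := exists_pow_cong_zero hpM (hs z (Finset.mem_insert_self _ _)) a
    refine ⟨K + L, ?_⟩
    rw [Finset.coe_insert, Ideal.span_insert]
    refine Ideal.sup_pow_add_le_pow_sup_pow.trans (sup_le ?_ hL)
    rw [Ideal.span_singleton_pow, Ideal.span_singleton_le_iff_mem, mem_paIdeal]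
    simpa using hK

/-- `z ≡ 1` modulo the local ideal makes `z ^ p ^ k ≡ 1` modulo `p ^ a` for large `k`. -/
theorem exists_pow_cong_one (hpM : (p : AlgInt) ∈ M) {z : ℂ} (hz : MemLocalRing M z)
    (h : MemLocalIdeal M (z - 1)) (a : ℕ) :
    ∃ K : ℕ, ∀ k, K ≤ k → Cong M p a (z ^ p ^ k) 1 := by
  classical
  let w : localInt M := ⟨z, hz⟩
  let I := Ideal.span (({(p : localInt M), w - 1} : Finset (localInt M)) : Set (localInt M))
  obtain ⟨L, hL⟩ := exists_span_pow_le hpM ({(p : localInt M), w - 1} : Finset (localInt M))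
    (fun y hy => by
      rcases Finset.mem_insert.1 hy with rfl | hy
      · simpa using memLocalIdeal_p hpM
      · rw [Finset.mem_singleton.1 hy]; simpa [w] using h) a
  have key : ∀ k, w ^ p ^ k - 1 ∈ I ^ (k + 1) := by
    intro k
    induction k with
    | zero =>
      rw [pow_zero, pow_one, pow_one]
      exact Ideal.subset_span (by simp)
    | succ k ih =>
      rw [pow_succ p k, pow_mul, pow_succ I (k + 1), ← mul_geom_sum (w ^ p ^ k) p]
      refine Ideal.mul_mem_mul ih ?_
      rw [show ∑ i ∈ Finset.range p, (w ^ p ^ k) ^ i =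
        (p : localInt M) + ∑ i ∈ Finset.range p, ((w ^ p ^ k) ^ i - 1) by
          rw [Finset.sum_sub_distrib, Finset.sum_const, Finset.card_range, nsmul_one]; ring]
      refine I.add_mem (Ideal.subset_span (by simp)) (I.sum_mem fun i _ => ?_)
      rw [← pow_mul]
      exact Ideal.mem_of_dvd _ (sub_one_dvd_pow_sub_one w _) (Ideal.subset_span (by simp))
  refine ⟨L, fun k hk => ?_⟩
  have h1 := hL (Ideal.pow_le_pow_right (by omega) (key k))
  rw [mem_paIdeal] at h1
  unfold Cong at h1 ⊢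
  simpa [w] using h1

/-- The local ring is integrally closed. -/
theorem memLocalRing_of_isRoot {q : (localInt M)[X]} (hq : q.Monic) {z : ℂ}
    (hz : eval₂ (localInt M).subtype z q = 0) : MemLocalRing M z := by
  classical
  choose A D hD hAD using fun i => ((q.coeff i).2 : MemLocalRing M (q.coeff i : ℂ))
  set n := q.natDegree
  let b : AlgInt := ∏ i ∈ Finset.range n, D i
  have hb : b ∉ M := fun h => by
    obtain ⟨i, -, hi⟩ := (hMmax.isPrime.prod_mem_iff).1 h
    exact hD i hi
  choose c hc using fun i (hi : i ∈ Finset.range n) =>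
    (Finset.dvd_prod_of_mem D hi : D i ∣ b)
  let e : ℕ → AlgInt := fun i => if h : i ∈ Finset.range n then A i * c i h * b ^ (n - i - 1) else 0
  have he : ∀ i ∈ Finset.range n, (e i : ℂ) = (q.coeff i : ℂ) * (b : ℂ) ^ (n - i) := fun i hi => by
    have hDi : (D i : ℂ) ≠ 0 := coe_ne_zero_of_not_mem (hD i)
    have hbD : (b : ℂ) = D i * c i hi := congrArg (fun y : AlgInt => (y : ℂ)) (hc i hi)
    rw [show n - i = (n - i - 1) + 1 by have := Finset.mem_range.1 hi; omega, pow_succ]
    simp only [e, dif_pos hi]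
    rw [show (q.coeff i : ℂ) = (A i : ℂ) / (D i : ℂ) from (hAD i).symm]
    push_cast
    rw [div_mul_eq_mul_div, eq_div_iff hDi]
    linear_combination -((A i : ℂ) * (b : ℂ) ^ (n - i - 1)) * hbD
  have hint : IsIntegral AlgInt ((b : ℂ) * z) := by
    refine ⟨X ^ n + ∑ i ∈ Finset.range n, C (e i) * X ^ i, monic_X_pow_add ?_, ?_⟩
    · refine (degree_sum_le _ _).trans_lt ((Finset.sup_lt_iff (WithBot.bot_lt_coe n)).2 fun i hi => ?_)
      exact (degree_C_mul_X_pow_le i _).trans_lt (WithBot.coe_lt_coe.2 (Finset.mem_range.1 hi))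
    · simp only [eval₂_add, eval₂_X_pow, eval₂_finsetSum, eval₂_mul, eval₂_C]
      show ((b : ℂ) * z) ^ n + ∑ i ∈ Finset.range n, (e i : ℂ) * ((b : ℂ) * z) ^ i = 0
      have h0 : ∑ i ∈ Finset.range (n + 1), (q.coeff i : ℂ) * z ^ i = 0 := by
        rw [← hz, eval₂_eq_sum_range]; rfl
      rw [Finset.sum_range_succ, show (q.coeff n : ℂ) = 1 by rw [hq.coeff_natDegree]; rfl,
        one_mul] at h0
      rw [Finset.sum_congr rfl fun i hi => show (e i : ℂ) * ((b : ℂ) * z) ^ i =
          (b : ℂ) ^ n * ((q.coeff i : ℂ) * z ^ i) by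
        rw [he i hi, mul_pow, ← Nat.sub_add_cancel (Finset.mem_range.1 hi).le, pow_add,
          Nat.add_sub_cancel]; ring, ← Finset.mul_sum, mul_pow]
      linear_combination (b : ℂ) ^ n * h0
  have hZ : IsIntegral ℤ ((b : ℂ) * z) := isIntegral_trans _ hint
  exact ⟨⟨_, hZ⟩, b, hb, by
    show ((b : ℂ) * z) / b = z
    rw [mul_comm, mul_div_assoc, div_self (coe_ne_zero_of_not_mem hb), mul_one]⟩

end Cfsg.Agent.Blocks.NilRank
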