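import Cfsg.Agent.Lib.Blocks.NilpotentRank.Main
import Cfsg.Agent.Lib.Char.Orthogonality
import Mathlib.GroupTheory.GroupAction.Quotient

/-!
# The characters of a nilpotent block and of its defect group

For a nilpotent block `B` with defect group `P` every `u ↦ TT χ χ₀ u` is `±` an irreducible
character of `P`; this is a height preserving bijection `B ≃ Irr(P)`.
-/

set_option autoImplicit false
set_option linter.unusedSectionVars false
set_option linter.style.haveILetI false

namespace Cfsg.Agent.Blocks.NilRank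

open Cfsg Blocks
open Cfsg.Agent.BrauerPairs (blkG regDot IsMax IsPair IsNilpotentPairs regFun_regFun)
open scoped Classical ComplexConjugate

universe u

variable {G : Type u} [Group G] [Fintype G] {M : Ideal AlgInt} [M.IsMaximal] {p : ℕ}
  [hp : Fact p.Prime] [CharP (AlgInt ⧸ M) p] {B : Set (IrrCharacter G)} {P : Subgroup G}
  {e : MonoidAlgebra (AlgInt ⧸ M) G}

/-- In a block of rank one the contributions form a matrix of rank one. -/
theorem contribution_rank_one (hpM : (p : AlgInt) ∈ M) {x : G}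
    {b : Set (IrrCharacter (Subgroup.centralizer ({x} : Set G)))} (hb : IsPBlock M b)
    (hl : blockRank p b = 1) (χ ψ ζ : IrrCharacter G) :
    contribution p b χ.1 ψ.1 * contribution p b ζ.1 ζ.1 =
      contribution p b χ.1 ζ.1 * contribution p b ζ.1 ψ.1 := by
  obtain ⟨φ, d, -, hd, -⟩ := BrauerPairs.rank_one_data hpM hb hl
  set r : ℂ := classInner (Char.regFun p φ) (Char.regFun p φ)
  have hreg : ∀ η ∈ b, Char.regFun p η.1 = (d η : ℂ) • Char.regFun p φ := fun η hη => by
    funext s
    simp only [Char.regFun, Pi.smul_apply, smul_eq_mul]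
    split_ifs with hs
    · rw [mul_zero]
    · rw [hd η hη s hs]
  have hdot : ∀ η ∈ b, ∀ η' ∈ b, regDot p η.1 η'.1 = (d η : ℂ) * d η' * r := by
    intro η hη η' hη'
    have h := BrauerPairs.classInner_regFun_right p (Char.regFun p η.1) η'.1
    rw [regDot, regFun_regFun] at h
    change _ = regDot p η.1 η'.1 at h
    rw [← h, hreg η hη, hreg η' hη', Char.classInner_smul_left, Char.classInner_smul_right,
      map_natCast, mul_assoc]
  let L : (G → ℂ) → ℂ := fun f =>
    ∑ η ∈ Finset.univ.filter (· ∈ b), classInner (secFun x f) η.1 * d η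
  have hc : ∀ χ ψ : IrrCharacter G,
      contribution p b χ.1 ψ.1 = conj r * L χ.1 * conj (L ψ.1) := by
    intro χ ψ
    have e1 : contribution p b χ.1 ψ.1 = ∑ η ∈ Finset.univ.filter (· ∈ b),
        ∑ η' ∈ Finset.univ.filter (· ∈ b),
          conj r * (classInner (secFun x χ.1) η.1 * (d η : ℂ)) *
            conj (classInner (secFun x ψ.1) η'.1 * (d η' : ℂ)) := by
      refine Finset.sum_congr rfl fun η hη => ?_
      rw [regDot_secFun hpM hb ψ (Finset.mem_filter.1 hη).2, map_sum, Finset.mul_sum]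
      refine Finset.sum_congr rfl fun η' hη' => ?_
      rw [hdot η' (Finset.mem_filter.1 hη').2 η (Finset.mem_filter.1 hη).2]
      simp only [map_mul, map_natCast]
      ring
    rw [e1]
    simp only [L, map_sum, Finset.mul_sum, Finset.sum_mul]
    rw [Finset.sum_comm]
  rw [hc, hc, hc, hc]
  ring

theorem map_inf_centralizer_singleton {v : G} (hv : v ∈ P) (u : G) :
    (P ⊓ Subgroup.centralizer ({u} : Set G)).map (MulAut.conj v).toMonoidHom =
      P ⊓ Subgroup.centralizer ({v * u * v⁻¹} : Set G) := by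
  ext y
  simp only [Subgroup.mem_map_equiv, Subgroup.mem_inf, MulAut.conj_symm_apply,
    Subgroup.mem_centralizer_singleton_iff]
  refine and_congr ⟨fun h => ?_, fun h => ?_⟩ ⟨fun h => ?_, fun h => ?_⟩
  · simpa [mul_assoc] using mul_mem (mul_mem hv h) (inv_mem hv)
  · exact mul_mem (mul_mem (inv_mem hv) h) hv
  · have := congrArg (fun z => v * z * v⁻¹) h
    simpa [mul_assoc] using this
  · have := congrArg (fun z => v⁻¹ * z * v) h
    simpa [mul_assoc] using this

theorem TT_conj (hpM : (p : AlgInt) ∈ M) (hB : IsPBlock M B) (ha : IsMax p (blkG M B) (P, e))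
    (hnil : IsNilpotentPairs p (blkG M B)) {u v : G} (hu : u ∈ P) (hv : v ∈ P)
    (χ ψ : IrrCharacter G) : TT p P e χ.1 ψ.1 (v * u * v⁻¹) = TT p P e χ.1 ψ.1 u := by
  have hH : ∀ c, c ∈ Subgroup.centralizer ({v * u * v⁻¹} : Set G) ↔
      v⁻¹ * c * v ∈ Subgroup.centralizer ({u} : Set G) := fun c => by
    simp only [Subgroup.mem_centralizer_singleton_iff]
    constructor
    · intro h
      have := congrArg (fun z => v⁻¹ * z * v) h
      simpa [mul_assoc] using this
    · intro h
      have := congrArg (fun z => v * z * v⁻¹) h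
      simpa [mul_assoc] using this
  unfold TT Tof
  rw [pow_blockDefect_eU hpM hB ha hnil (mul_mem (mul_mem hv hu) (inv_mem hv)),
    pow_blockDefect_eU hpM hB ha hnil hu, ← map_inf_centralizer_singleton hv u,
    BrauerPairs.card_map_conj, eU_conj ha.1.1 hu hv, blkSet_conj ha.1.1 hu v hH, sectF_conj v hH]

/-- `|P| k(B) = Σ_u |C_P(u)|`, hence `k(B) = k(P)`. -/
theorem card_eq_card_irr (hM : IsPModular p M) (hnil : IsNilpotentBlock p M B)
    {χ₀ : IrrCharacter G} (hd : RankData M p B P e χ₀) :
    Nat.card B = Nat.card (IrrCharacter P) := by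
  have hpM := hM.2.2
  have hB := hnil.1
  have hnilp := (BrauerPairs.isNilpotentBlock_iff hB).1 hnil
  have hmax := hd.isMax
  set BF := Finset.univ.filter (· ∈ B)
  have hdiag : ∀ v : P, ∑ χ ∈ BF, TT p P e χ.1 χ.1 v =
      (Nat.card (P ⊓ Subgroup.centralizer ({(v : G)} : Set G) : Subgroup G) : ℂ) := by
    intro v
    obtain ⟨k, hk⟩ := exists_orderOf_mem hmax.1.1.1 v.2
    have hind := isInducedBlock_eU hpM hB hmax.1 v.2
    have hl := blockRank_eq_one_of_nilpotent hM
      (isNilpotentBlock_centralizer hM hnil ⟨k, hk⟩ hind)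
    simp only [TT_eq_contribution, ← Finset.mul_sum]
    rw [sum_contribution_self hpM hk hind, hl, Nat.cast_one, mul_one,
      pow_blockDefect_eU hpM hB hmax hnilp v.2]
  have h1 : ((Nat.card B * Nat.card P : ℕ) : ℂ) = ((∑ v : P,
      Nat.card (P ⊓ Subgroup.centralizer ({(v : G)} : Set G) : Subgroup G) : ℕ) : ℂ) := by
    push_cast
    rw [← Finset.sum_congr rfl fun v _ => hdiag v, Finset.sum_comm, Finset.sum_congr rfl fun χ hχ =>
      show ∑ v : P, TT p P e χ.1 χ.1 v = (Nat.card P : ℂ) by
        rw [sum_TT hpM hB hmax hnilp (Finset.mem_filter.1 hχ).2, Char.classInner_irr, if_pos rfl,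
          mul_one], Finset.sum_const, nsmul_eq_mul, Nat.card_eq_fintype_card (α := B),
      Fintype.card_subtype]
  have h2 : ∀ v : P, Nat.card (P ⊓ Subgroup.centralizer ({(v : G)} : Set G) : Subgroup G) =
      Nat.card {w : P // Commute v w} := fun v => Nat.card_congr
    { toFun := fun w => ⟨⟨w.1, w.2.1⟩, Subtype.ext
        (Subgroup.mem_centralizer_singleton_iff.1 w.2.2).symm⟩
      invFun := fun w => ⟨w.1.1, w.1.2, Subgroup.mem_centralizer_singleton_iff.2
        (congrArg Subtype.val w.2.eq).symm⟩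
      left_inv := fun w => rfl
      right_inv := fun w => rfl }
  have h3 : Nat.card B * Nat.card P = Nat.card (IrrCharacter P) * Nat.card P := by
    rw [show Nat.card B * Nat.card P = ∑ v : P,
        Nat.card (P ⊓ Subgroup.centralizer ({(v : G)} : Set G) : Subgroup G) by exact_mod_cast h1,
      Finset.sum_congr rfl fun v _ => h2 v, ← Nat.card_sigma, Char.card_irr,
      ← card_comm_eq_card_conjClasses_mul_card]
    exact Nat.card_congr (Equiv.subtypeProdEquivSigmaSubtype fun v w : P => Commute v w).symm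
  exact mul_right_cancel₀ Nat.card_pos.ne' h3

/-- A height preserving bijection between a nilpotent block and `Irr(P)`. -/
theorem exists_height_preserving_equiv (hM : IsPModular p M) (hnil : IsNilpotentBlock p M B)
    (hP : IsDefectGroup p M B P) : ∃ Φ : B ≃ IrrCharacter P, ∀ χ : B,
      blockHeight p B χ.1.1 = (charDegree ((Φ χ : IrrCharacter P) : P → ℂ)).factorization p := by
  have hpM := hM.2.2
  have hB := hnil.1
  have hnilp := (BrauerPairs.isNilpotentBlock_iff hB).1 hnil
  obtain ⟨e, χ₀, hd⟩ := exists_rankData_of_nilpotent hM hnil hP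
  have hmax := hd.isMax
  have hPp : IsPGroup p P := hmax.1.1.1
  obtain ⟨-, -, hnorm⟩ := rank_eq_one hpM hB hnilp hd
  obtain ⟨D, hD⟩ := hPp.exists_card_eq
  let T : B → P → ℂ := fun χ v => TT p P e χ.1.1 χ₀.1 v
  have hTclass : ∀ χ, IsClassFunction P (T χ) := fun χ c a =>
    TT_conj hpM hB hmax hnilp c.2 a.2 χ.1 χ₀
  -- integrality of the coefficients
  have hint : ∀ (χ : B) (lam : IrrCharacter P), ∃ z : ℤ, classInner (T χ) lam.1 = z := by
    intro χ lam
    have hlam : IsCharacter P lam.1 := Char.irr_isCharacter lam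
    have hcen : ∀ v ∈ cenP P, Subgroup.centralizer ({v} : Set P) = ⊤ := fun v hv =>
      (centralizer_eq_top_iff v).2 fun w =>
        Subtype.ext (((centralizer_eq_top_iff (v : G)).1 (mem_cenP.1 hv) w).eq)
    have hR : MemLocalRing M ((∑ v : P, T χ v * conj (lam.1 v)) / (Nat.card P : ℂ)) := by
      refine hd.pairing χ.1 χ.2 (fun v => conj (lam.1 v))
        (IsTraceFun.of_character (Char.IsCharacter.conj hlam))
        (fun v => memLocalRing_char (Char.IsCharacter.conj hlam) v)
        ⟨fun v => conj (zScal lam.1 v), fun v hv w _ => ?_, fun v hv => ?_⟩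
      · show conj (zScal lam.1 (v * w)) = conj (zScal lam.1 v) * conj (zScal lam.1 w)
        rw [zScal_mul (hcen v hv), map_mul]
      · show conj (lam.1 v) = conj (zScal lam.1 v) * conj (lam.1 1)
        rw [← map_mul]
        congr 1
        simpa using apply_zmul (hcen v hv) lam 1
    choose n μ _ hμ hμp using fun v : P => CharInt.exists_roots hlam v⁻¹
    let f : ℕ → ℂ := fun t => ∑ v : P, Tof M p (Subgroup.centralizer ({(v : G)} : Set G))
      ((v : G) ^ t) (eU p P e v) χ.1.1 χ₀.1 * lam.1 (v⁻¹ ^ t)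
    have hf1 : f 1 = ∑ v : P, T χ v * conj (lam.1 v) := Finset.sum_congr rfl fun v _ => by
      simp only [pow_one, T]
      rw [Char.IsCharacter.conj_apply hlam]
      rfl
    have hfinv : ∀ t, ¬ p ∣ t → f t = f 1 := fun t ht => by
      rw [hf1]
      calc f t = ∑ v : P, T χ (v ^ t) * conj (lam.1 (v ^ t)) := Finset.sum_congr rfl fun v _ => by
            rw [Char.IsCharacter.conj_apply hlam, ← inv_pow]
            simp only [T, SubmonoidClass.coe_pow, TT_pow hmax.1.1 v.2 ht]
        _ = _ := sum_pow_comp hPp ht fun v : P => T χ v * conj (lam.1 v)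
    have htw : IsTw (p ^ D * p) f := by
      rw [← hD]
      refine IsTw.sum fun v => IsTw.mul (isTw_Tof hpM hmax.1.1 v.2 χ.1 χ₀) ?_
      refine IsTw.of_fintype (fun _ : Fin (n v) => (1 : ℤ)) (μ v) (fun i => ?_) fun t => ?_
      · obtain ⟨c, hc⟩ : orderOf (v⁻¹ : P) ∣ Nat.card P * p :=
          Dvd.dvd.mul_right (orderOf_dvd_natCard _) p
        show μ v i ^ (Nat.card P * p) = 1
        rw [hc, pow_mul, hμ, one_pow]
      · show lam.1 (v⁻¹ ^ t) = _
        rw [hμp v t]
        simp
    obtain ⟨z, hz⟩ := IsTw.exists_int (k := D) hp.out htw hfinv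
    rw [hf1] at hz
    rw [hz, Char.memLocalRing_intCast_div_iff hpM z Nat.card_pos.ne', hD,
      hp.out.factorization_pow, Finsupp.single_eq_same] at hR
    obtain ⟨w, rfl⟩ := hR
    refine ⟨w, ?_⟩
    rw [classInner, hz, hD]
    push_cast
    rw [← mul_assoc, inv_mul_cancel₀ (pow_ne_zero _ (Nat.cast_ne_zero.2 hp.out.ne_zero)), one_mul]
  choose c hc using hint
  have hexp : ∀ χ, T χ = ∑ lam : IrrCharacter P, (c χ lam : ℂ) • lam.1 := fun χ => by
    conv_lhs => rw [Char.eq_sum_classInner_smul (hTclass χ)]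
    simp only [hc]
  have hsq : ∀ χ, ∑ lam : IrrCharacter P, c χ lam ^ 2 = 1 := by
    intro χ
    have h1 : classInner (T χ) (T χ) = 1 := by
      rw [classInner, Finset.sum_congr rfl fun v (_ : v ∈ (Finset.univ : Finset P)) =>
        show T χ v * conj (T χ v) = TT p P e χ.1.1 χ₀.1 v * TT p P e χ.1.1 χ₀.1 (v : G)⁻¹ by
          rw [TT_inv hpM hmax.1.1 v.2],
        hnorm χ.1 χ.2, inv_mul_cancel₀ (Nat.cast_ne_zero.2 Nat.card_pos.ne')]
    conv_lhs at h1 => arg 2; rw [hexp χ]
    rw [Char.classInner_sum_right] at h1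
    simp only [Char.classInner_smul_right, hc, map_intCast, ← pow_two] at h1
    exact_mod_cast h1
  -- the character matched with each member
  have hone : ∀ χ, ∃ (lam : IrrCharacter P) (ε : ℤ), ε ^ 2 = 1 ∧ T χ = (ε : ℂ) • lam.1 := by
    intro χ
    obtain ⟨lam, -, hlam⟩ := Finset.exists_ne_zero_of_sum_ne_zero
      (show (∑ lam : IrrCharacter P, c χ lam ^ 2) ≠ 0 by rw [hsq]; norm_num)
    have hle := Finset.single_le_sum (fun μ _ => sq_nonneg (c χ μ)) (Finset.mem_univ lam)
    rw [hsq] at hle
    have h1 : c χ lam ^ 2 = 1 := le_antisymm hle (by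
      have := sq_nonneg (c χ lam); omega)
    refine ⟨lam, c χ lam, h1, ?_⟩
    rw [hexp χ, Finset.sum_eq_single lam]
    · intro μ _ hμ
      have h2 : ∑ ν ∈ Finset.univ.erase lam, c χ ν ^ 2 = 0 := by
        have := Finset.add_sum_erase _ (fun ν => c χ ν ^ 2) (Finset.mem_univ lam)
        simp only [h1, hsq] at this
        omega
      have h3 := (Finset.sum_eq_zero_iff_of_nonneg fun ν _ => sq_nonneg (c χ ν)).1 h2 μ
        (Finset.mem_erase.2 ⟨hμ, Finset.mem_univ _⟩)
      rw [eq_zero_of_pow_eq_zero h3, Int.cast_zero, zero_smul]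
    · exact fun h => absurd (Finset.mem_univ _) h
  choose Φ ε hε hΦ using hone
  have hinj : Function.Injective Φ := by
    intro χ χ' heq
    by_contra hne
    have hne' : χ.1 ≠ χ'.1 := fun h => hne (Subtype.ext h)
    have h := sum_TT hpM hB hmax hnilp χ.2 χ'.1
    rw [Char.classInner_irr, if_neg hne', mul_zero] at h
    have hfac : ∀ v : P, TT p P e χ.1.1 χ'.1.1 v = T χ v * conj (T χ' v) := by
      intro v
      obtain ⟨k, hk⟩ := exists_orderOf_mem hPp v.2
      have hind := isInducedBlock_eU hpM hB hmax.1 v.2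
      have hl := blockRank_eq_one_of_nilpotent hM
        (isNilpotentBlock_centralizer hM hnil ⟨k, hk⟩ hind)
      have h0 := TT_self_eq_one hpM hB hmax hnilp hd.mem hd.height v.2
      have hf := contribution_rank_one hpM hind.1 hl χ.1 χ'.1 χ₀
      simp only [T]
      rw [conj_TT hpM hmax.1.1 v.2]
      simp only [TT_eq_contribution] at h0 ⊢
      linear_combination
        ((p ^ blockDefect p (blkSet M (Subgroup.centralizer ({(v : G)} : Set G)) (eU p P e v)) : ℕ) : ℂ) ^ 2
          * hf -
        ((p ^ blockDefect p (blkSet M (Subgroup.centralizer ({(v : G)} : Set G)) (eU p P e v)) : ℕ) : ℂ) *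
          contribution p (blkSet M (Subgroup.centralizer ({(v : G)} : Set G)) (eU p P e v)) χ.1.1 χ'.1.1
          * h0
    rw [Finset.sum_congr rfl fun v _ => hfac v] at h
    simp only [hΦ, heq, Pi.smul_apply, smul_eq_mul, map_mul, map_intCast] at h
    have h2 := Char.classInner_irr_self (Φ χ').2
    rw [classInner] at h2
    have h3 : (ε χ : ℂ) * (ε χ' : ℂ) *
        ∑ v : P, (Φ χ').1 v * conj ((Φ χ').1 v) = 0 := by
      rw [Finset.mul_sum, ← h]
      exact Finset.sum_congr rfl fun v _ => by ring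
    have hne0 : ∀ η, (ε η : ℂ) ≠ 0 := fun η h0 => by
      have := hε η
      rw [Int.cast_eq_zero.1 h0] at this
      norm_num at this
    rcases mul_eq_zero.1 h3 with h4 | h4
    · exact mul_ne_zero (hne0 χ) (hne0 χ') h4
    · rw [h4, mul_zero] at h2
      exact zero_ne_one h2
  refine ⟨Equiv.ofBijective Φ ((Fintype.bijective_iff_injective_and_card Φ).2 ⟨hinj, ?_⟩),
    fun χ => ?_⟩
  · rw [← Nat.card_eq_fintype_card, ← Nat.card_eq_fintype_card]
    exact card_eq_card_irr hM hnil hd
  show blockHeight p B χ.1.1 = (charDegree (Φ χ).1).factorization p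
  rw [Blocks.charDegree_eq]
  -- the valuation of `[p^a χ°, χ₀]`
  set m₀ := sInf ((fun ψ : IrrCharacter G => (charDegree ψ.1).factorization p) '' B)
  have h0 := Char.factorization_degree_of_height_zero hd.mem hd.height
  have ha : m₀ ≤ (Nat.card G).factorization p := le_of_eq_of_le h0.symm
    ((Nat.factorization_le_iff_dvd (Char.degree_pos χ₀).ne' Nat.card_pos.ne').2
      (Char.degree_dvd_natCard χ₀) p)
  have hD' : D + m₀ = (Nat.card G).factorization p := by
    have h := card_defectGroup hpM hB hP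
    rw [hD] at h
    have hDd : D = (Nat.card G).factorization p - m₀ := Nat.pow_right_injective hp.out.two_le h
    omega
  have hT1 : (ε χ : ℂ) * (Char.degree (Φ χ) : ℂ) = (Nat.card P : ℂ) * regDot p χ.1.1 χ₀.1 := by
    rw [← TT_one hpM hB hmax hnilp χ.2, ← Char.apply_one_eq_degree]
    exact (congrFun (hΦ χ) 1).symm
  have hn : Char.regInner p χ₀.1 χ.1.1 = ((ε χ * (p ^ m₀ * Char.degree (Φ χ) : ℕ) : ℤ) : ℂ) := by
    rw [Char.regInner_comm hp.out, Char.regInner, Char.classInner_smul_left]
    show _ * regDot p χ.1.1 χ₀.1 = _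
    rw [← hD', pow_add, ← hD]
    push_cast
    linear_combination -((p : ℂ) ^ m₀) * hT1
  have hdvd := Char.memLocalRing_n_div hpM hp.out hn
  have hndvd := (Char.blockHeight_eq_zero_iff_regInner hpM hp.out hB hd.mem χ.2 hn).1 hd.height
  have habs : (ε χ * (p ^ m₀ * Char.degree (Φ χ) : ℕ) : ℤ).natAbs = p ^ m₀ * Char.degree (Φ χ) := by
    rw [Int.natAbs_mul, Int.natAbs_natCast]
    have : (ε χ).natAbs = 1 := by
      have := congrArg Int.natAbs (hε χ)
      rw [Int.natAbs_pow] at this
      simpa using this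
    rw [this, one_mul]
  rw [← Int.natAbs_dvd_natAbs, habs, Int.natAbs_pow, Int.natAbs_natCast] at hdvd hndvd
  have hN : p ^ m₀ * Char.degree (Φ χ) ≠ 0 :=
    mul_ne_zero (pow_ne_zero _ hp.out.ne_zero) (Char.degree_pos _).ne'
  rw [hp.out.pow_dvd_iff_le_factorization hN] at hdvd hndvd
  have hv : (p ^ m₀ * Char.degree (Φ χ)).factorization p =
      m₀ + (Char.degree (Φ χ)).factorization p := by
    rw [Nat.factorization_mul (pow_ne_zero _ hp.out.ne_zero) (Char.degree_pos _).ne',
      Finsupp.add_apply, hp.out.factorization_pow, Finsupp.single_eq_same]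
  rw [blockHeight, Blocks.charDegree_eq]
  change (Char.degree χ.1).factorization p - m₀ = _
  omega

end Cfsg.Agent.Blocks.NilRank
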