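import Cfsg.Agent.Lib.Blocks.NilpotentRank.RankEqOne
import Cfsg.Agent.Lib.BrauerPairs.RankOne
import Cfsg.Agent.S4688

/-!
# Nilpotent blocks have rank one

* `blockRank_eq_one_of_nilpotent`: `l(B) = 1` for a nilpotent block;
* `exists_rankData_of_nilpotent`: the normalized contributions along a maximal pair;
* `exists_decomposition_one`: some member of `B` has decomposition number one.
-/

set_option autoImplicit false
set_option linter.unusedSectionVars false
set_option linter.style.haveILetI false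

namespace Cfsg.Agent.Blocks.NilRank

open Cfsg Blocks
open Cfsg.Agent.BrauerPairs (blk blkG regDot IsPairOf)
open scoped Classical ComplexConjugate

universe u

section

variable {G : Type u} [Group G] [Fintype G] {M : Ideal AlgInt} [M.IsMaximal] {p : ℕ}
  [hp : Fact p.Prime] [CharP (AlgInt ⧸ M) p] {B : Set (IrrCharacter G)}

/-- The blocks of centralizers of `p`-elements inducing a nilpotent block are nilpotent. -/
theorem isNilpotentBlock_of_induced (hM : IsPModular p M) (hnil : IsNilpotentBlock p M B) {v : G}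
    (hv : ∃ k, orderOf v = p ^ k) :
    ∀ (H : Subgroup G), H = Subgroup.centralizer (Subgroup.zpowers v : Set G) →
      ∀ b : Set (IrrCharacter H), IsPBlock M b →
        IsPairOf p (blkG M B) (Subgroup.zpowers v, blk M H b) → IsNilpotentBlock p M b := by
  rintro H rfl b hb hpair
  obtain ⟨P, e, hmax⟩ := BrauerPairs.exists_maximalBrauerPair (p := p) hnil.1
  exact (Cfsg.Agent.S4688.result p M hM B P e hmax hnil (Subgroup.zpowers v) b
    ((BrauerPairs.isBrauerPairOf_iff hnil.1).2 ⟨hb, hpair⟩)).1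

theorem isNilpotentBlock_centralizer (hM : IsPModular p M) (hnil : IsNilpotentBlock p M B) {v : G}
    (hv : ∃ k, orderOf v = p ^ k) {b : Set (IrrCharacter (Subgroup.centralizer ({v} : Set G)))}
    (hb : IsInducedBlock M (Subgroup.centralizer ({v} : Set G)) b B) : IsNilpotentBlock p M b := by
  refine isNilpotentBlock_of_induced hM hnil hv _ centralizer_zpowers_eq.symm b hb.1
    ⟨⟨isPGroup_zpowers hv, ?_⟩, ?_⟩
  · show BrauerPairs.IsBlockIdem (Subgroup.centralizer (Subgroup.zpowers v : Set G))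
      (blk M (Subgroup.centralizer ({v} : Set G)) b)
    rw [centralizer_zpowers_eq]
    exact BrauerPairs.isBlockIdem_blk _ hb.1
  · exact (isInducedBlock_centralizer_iff hM.2.2 hv hnil.1 hb.1).1 hb

end

theorem blockRank_eq_one_aux {M : Ideal AlgInt} [M.IsMaximal] {p : ℕ} [hp : Fact p.Prime]
    (hM : IsPModular p M) (n : ℕ) :
    ∀ (G : Type u) [Group G] [Fintype G], Nat.card G = n →
      ∀ B : Set (IrrCharacter G), IsNilpotentBlock p M B → blockRank p B = 1 := by
  induction n using Nat.strong_induction_on with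
  | _ n ih =>
    intro G _ _ hn B hnil
    haveI := charP_residue hM.2.2
    obtain ⟨a, ha⟩ := BrauerPairs.exists_isMax (p := p) hnil.1
    have hnilp := (BrauerPairs.isNilpotentBlock_iff hnil.1).1 hnil
    obtain ⟨e, χ₀, hd⟩ := exists_rankData hM.2.2 hnil.1 hnilp
      (BrauerPairs.isDefectGroup_of_isMax hnil.1 ha) fun v hv hvt b hb => by
        have hlt : Nat.card (Subgroup.centralizer ({v} : Set G)) < n := by
          rw [← hn]
          exact lt_of_le_of_ne (Nat.le_of_dvd Nat.card_pos (Subgroup.card_subgroup_dvd_card _))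
            fun h => hvt ((Subgroup.card_eq_iff_eq_top _).1 h)
        exact ih _ hlt _ rfl b
          (isNilpotentBlock_centralizer hM hnil (exists_orderOf_mem ha.1.1.1 hv) hb)
    exact (rank_eq_one hM.2.2 hnil.1 hnilp hd).1

variable {G : Type u} [Group G] [Fintype G] {M : Ideal AlgInt} [M.IsMaximal] {p : ℕ}
  [hp : Fact p.Prime] [CharP (AlgInt ⧸ M) p] {B : Set (IrrCharacter G)}

/-- A nilpotent block has rank one. -/
theorem blockRank_eq_one_of_nilpotent (hM : IsPModular p M) (hnil : IsNilpotentBlock p M B) :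
    blockRank p B = 1 :=
  blockRank_eq_one_aux hM _ G rfl B hnil

/-- The normalized contributions on a given defect group. -/
theorem exists_rankData_of_nilpotent (hM : IsPModular p M) (hnil : IsNilpotentBlock p M B)
    {P : Subgroup G} (hP : IsDefectGroup p M B P) : ∃ e χ₀, RankData M p B P e χ₀ := by
  obtain ⟨e, -, hmax⟩ := BrauerPairs.exists_isMax_of_isDefectGroup hnil.1 hP
  exact exists_rankData hM.2.2 hnil.1 ((BrauerPairs.isNilpotentBlock_iff hnil.1).1 hnil) hP
    fun v hv _ b hb => blockRank_eq_one_of_nilpotent hM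
      (isNilpotentBlock_centralizer hM hnil (exists_orderOf_mem hmax.1.1.1 hv) hb)

/-- Some member of a nilpotent block restricts to the irreducible Brauer character. -/
theorem exists_decomposition_one (hM : IsPModular p M) (hnil : IsNilpotentBlock p M B) :
    ∃ χ₀ ∈ B, ∀ χ ∈ B, ∃ d : ℕ, ∀ x : G, IsPRegular p x → χ.1 x = (d : ℂ) * χ₀.1 x := by
  have hpM := hM.2.2
  have hB := hnil.1
  have hnilp := (BrauerPairs.isNilpotentBlock_iff hB).1 hnil
  obtain ⟨a, ha⟩ := BrauerPairs.exists_isMax (p := p) hB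
  have hP := BrauerPairs.isDefectGroup_of_isMax hB ha
  obtain ⟨e, χ₀, hd⟩ := exists_rankData_of_nilpotent hM hnil hP
  obtain ⟨hl, hT, -⟩ := rank_eq_one hpM hB hnilp hd
  rw [TT_one hpM hB hd.isMax hnilp hd.mem] at hT
  obtain ⟨φ, d, -, hdec, hsum⟩ := BrauerPairs.rank_one_data hpM hB hl
  have hone : IsPRegular p (1 : G) := fun h => hp.out.not_dvd_one (by rwa [orderOf_one] at h)
  have h1 : ∀ χ ∈ B, χ.1 1 = (d χ : ℂ) * φ 1 := fun χ hχ => hdec χ hχ 1 hone
  have h0 := h1 χ₀ hd.mem
  have hd0 : (d χ₀ : ℂ) ≠ 0 := fun h => irr_one_ne_zero χ₀ (by rw [h0, h, zero_mul])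
  have hφ : φ 1 ≠ 0 := fun h => irr_one_ne_zero χ₀ (by rw [h0, h, mul_zero])
  have hterm : ∀ χ : B, classInner (Char.regFun p χ.1.1) χ.1.1 * (Nat.card a.1 : ℂ) *
      (d χ₀ : ℂ) ^ 2 = (d χ.1 : ℂ) ^ 2 := by
    rintro ⟨χ, hχ⟩
    have hr : Char.regFun p χ.1 = ((d χ : ℂ) / d χ₀) • Char.regFun p χ₀.1 := by
      rw [BrauerPairs.regFun_eq_smul_of_rank_one hp.out hl hd.mem hχ, h1 χ hχ, h0,
        mul_div_mul_right _ _ hφ]
    have h2 : classInner (Char.regFun p χ.1) χ.1 =
        ((d χ : ℂ) / d χ₀) * ((d χ : ℂ) / d χ₀) * regDot p χ₀.1 χ₀.1 := by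
      rw [show classInner (Char.regFun p χ.1) χ.1 =
          classInner (Char.regFun p χ.1) (Char.regFun p χ.1) by
        rw [BrauerPairs.classInner_regFun_right, regDot, BrauerPairs.regFun_regFun],
        hr, Char.classInner_smul_left, Char.classInner_smul_right, map_div₀, map_natCast, map_natCast,
        BrauerPairs.classInner_regFun_right]
      simp only [regDot, BrauerPairs.regFun_regFun]
      ring
    show classInner (Char.regFun p χ.1) χ.1 * _ * _ = _
    rw [h2]
    field_simp
    linear_combination ((d χ : ℂ) ^ 2) * hT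
  have hd1 : d χ₀ = 1 := by
    have h := BrauerPairs.blockRank_eq_sum hpM hp.out hB
    rw [hl, Nat.cast_one] at h
    have h2 : (Nat.card a.1 : ℂ) * (d χ₀ : ℂ) ^ 2 = ((p ^ blockDefect p B : ℕ) : ℂ) := by
      rw [← one_mul (Nat.card a.1 : ℂ), h, Finset.sum_mul, Finset.sum_mul,
        Finset.sum_congr rfl fun χ _ => hterm χ, ← hsum, finsum_mem_eq_toFinset_sum,
        Finset.sum_subtype (p := (· ∈ B)) B.toFinset fun _ => Set.mem_toFinset]
      push_cast
      rfl
    rw [card_defectGroup hpM hB hP] at h2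
    have h3 : (d χ₀) ^ 2 = 1 := by
      have := mul_left_cancel₀ (Nat.cast_ne_zero.2 (pow_ne_zero _ hp.out.ne_zero))
        (h2.trans (mul_one _).symm)
      exact_mod_cast this
    exact (pow_eq_one_iff.1 h3).resolve_right (by norm_num)
  refine ⟨χ₀, hd.mem, fun χ hχ => ⟨d χ, fun x hx => ?_⟩⟩
  rw [hdec χ hχ x hx, hdec χ₀ hd.mem x hx, hd1, Nat.cast_one, one_mul]

end Cfsg.Agent.Blocks.NilRank
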