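import Cfsg.Agent.Lib.Blocks.NilpotentRank.TraceApprox

/-!
# A nilpotent block has rank one

Given rank one for the blocks at the noncentral `p`-elements inducing `B`, the normalized
contributions `u ↦ TT χ χ₀ u` have `|P| ⁻¹ Σ_u |TT χ χ₀ u| ^ 2 = 1`, and `B` has rank one.
-/

set_option autoImplicit false
set_option linter.unusedSectionVars false
set_option linter.style.haveILetI false

namespace Cfsg.Agent.Blocks.NilRank

open Cfsg Blocks MonoidAlgebra
open Cfsg.Agent.BrauerPairs (blkG regDot regDot_comm IsMax IsNilpotentPairs)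
open scoped Classical ComplexConjugate

universe u

variable {G : Type u} [Group G] [Fintype G] {M : Ideal AlgInt} [M.IsMaximal] {p : ℕ}
  [hp : Fact p.Prime] [CharP (AlgInt ⧸ M) p] {B : Set (IrrCharacter G)} {P : Subgroup G}
  {e : MonoidAlgebra (AlgInt ⧸ M) G}

theorem centralizer_eq_top_iff (v : G) :
    Subgroup.centralizer ({v} : Set G) = ⊤ ↔ ∀ x, Commute v x :=
  ⟨fun h x => (Subgroup.mem_centralizer_singleton_iff.1 (h ▸ Subgroup.mem_top x)).symm,
    fun h => eq_top_iff.2 fun x _ => Subgroup.mem_centralizer_singleton_iff.2 (h x).symm.eq⟩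

theorem centralizer_one_eq_top : Subgroup.centralizer ({(1 : G)} : Set G) = ⊤ :=
  (centralizer_eq_top_iff 1).2 fun x => Commute.one_left x

theorem zScal_one (χ : IrrCharacter G) : zScal χ.1 1 = 1 := div_self (irr_one_ne_zero χ)

theorem zScal_mul {v : G} (hv : Subgroup.centralizer ({v} : Set G) = ⊤) (χ : IrrCharacter G)
    (w : G) : zScal χ.1 (v * w) = zScal χ.1 v * zScal χ.1 w := by
  show χ.1 (v * w) / χ.1 1 = zScal χ.1 v * (χ.1 w / χ.1 1)
  rw [apply_zmul hv, mul_div_assoc]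

/-- The elements of `P` central in `G`. -/
noncomputable def cenP (P : Subgroup G) : Finset P :=
  Finset.univ.filter fun v : P => Subgroup.centralizer ({(v : G)} : Set G) = ⊤

theorem mem_cenP {v : P} : v ∈ cenP P ↔ Subgroup.centralizer ({(v : G)} : Set G) = ⊤ := by
  simp [cenP]

theorem one_mem_cenP : (1 : P) ∈ cenP P := mem_cenP.2 centralizer_one_eq_top

theorem inv_mem_cenP {v : P} : v⁻¹ ∈ cenP P ↔ v ∈ cenP P := by
  simp only [mem_cenP, centralizer_eq_top_iff, InvMemClass.coe_inv, Commute.inv_left_iff]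

theorem mul_mem_cenP {v w : P} (hv : v ∈ cenP P) (hw : w ∈ cenP P) : v * w ∈ cenP P := by
  simp only [mem_cenP, centralizer_eq_top_iff, Subgroup.coe_mul] at *
  exact fun x => (hv x).mul_left (hw x)

/-- A multiplicative function sums to `0` or to the order over the central elements. -/
theorem sum_cenP {μ : P → ℂ} (hμ : ∀ v ∈ cenP P, ∀ w ∈ cenP P, μ (v * w) = μ v * μ w) :
    ∑ v ∈ cenP P, μ v = 0 ∨ ∑ v ∈ cenP P, μ v = (cenP P).card := by
  by_cases h : ∀ v ∈ cenP P, μ v = 1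
  · right
    rw [Finset.sum_congr rfl h, Finset.sum_const, nsmul_one]
  · push Not at h
    obtain ⟨v, hv, hv1⟩ := h
    left
    have hshift : ∑ w ∈ cenP P, μ (v * w) = ∑ w ∈ cenP P, μ w := by
      refine Finset.sum_bij' (fun w _ => v * w) (fun w _ => v⁻¹ * w)
        (fun w hw => mul_mem_cenP hv hw) (fun w hw => mul_mem_cenP (inv_mem_cenP.2 hv) hw)
        (fun w _ => inv_mul_cancel_left v w) (fun w _ => mul_inv_cancel_left v w) fun w _ => rfl
    rw [Finset.sum_congr rfl fun w hw => hμ v hv w hw, ← Finset.mul_sum] at hshift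
    by_contra h0
    exact hv1 (mul_right_cancel₀ h0 (by rw [hshift, one_mul]))

/-- The differences `g - TT` paired with functions scalar on the central elements are small. -/
theorem memLocalRing_sum_diff {D : ℕ} (hcard : Nat.card P = p ^ D) {T g : P → ℂ} {c : ℂ}
    (hnc : ∀ v, v ∉ cenP P → Cong M p D (g v) (T v)) {ω : P → ℂ}
    (hω : ∀ v ∈ cenP P, ∀ w ∈ cenP P, ω (v * w) = ω v * ω w)
    (hc : ∀ v ∈ cenP P, g v - T v = ω v * c)
    (hcR : MemLocalRing M (((cenP P).card : ℂ) * c / (Nat.card P : ℂ)))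
    {h : P → ℂ} (hS : ∀ v, MemLocalRing M (h v)) {μ : P → ℂ}
    (hμ : ∀ v ∈ cenP P, ∀ w ∈ cenP P, μ (v * w) = μ v * μ w) {h₁ : ℂ} (hh₁ : MemLocalRing M h₁)
    (hh : ∀ v ∈ cenP P, h v = μ v * h₁) :
    MemLocalRing M ((∑ v, (g v - T v) * h v) / (Nat.card P : ℂ)) := by
  rw [← Finset.sum_add_sum_compl (cenP P), add_div]
  refine MemLocalRing.add ?_ ?_
  · rw [Finset.sum_congr rfl fun v hv => show (g v - T v) * h v = ω v * μ v * (h₁ * c) by
      rw [hc v hv, hh v hv]; ring, ← Finset.sum_mul]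
    rcases sum_cenP (μ := fun v => ω v * μ v) (fun v hv w hw => by
      rw [hω v hv w hw, hμ v hv w hw]; ring) with h0 | h0
    · rw [h0, zero_mul, zero_div]
      exact memLocalRing_zero
    · rw [h0, mul_left_comm, mul_div_assoc]
      exact MemLocalRing.mul hh₁ hcR
  · rw [Finset.sum_div]
    refine MemLocalRing.sum _ fun v hv => ?_
    rw [mul_div_right_comm]
    refine MemLocalRing.mul ?_ (hS v)
    have := hnc v (Finset.mem_compl.1 hv)
    rwa [Cong, ← Nat.cast_pow, ← hcard] at this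

theorem TT_one (hpM : (p : AlgInt) ∈ M) (hB : IsPBlock M B) (ha : IsMax p (blkG M B) (P, e))
    (hnil : IsNilpotentPairs p (blkG M B)) {χ : IrrCharacter G} (hχ : χ ∈ B) (ψ : IrrCharacter G) :
    TT p P e χ.1 ψ.1 1 = (Nat.card P : ℂ) * regDot p χ.1 ψ.1 := by
  rw [TT_central hpM hB ha hnil (one_mem P) centralizer_one_eq_top hχ ψ, zScal_one, zScal_one,
    map_one, one_mul, one_mul]

/-- The data of a maximal pair of a nilpotent block with blocks of rank one at the noncentral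
elements. -/
structure RankData (M : Ideal AlgInt) [M.IsMaximal] (p : ℕ) (B : Set (IrrCharacter G))
    (P : Subgroup G) (e : MonoidAlgebra (AlgInt ⧸ M) G) (χ₀ : IrrCharacter G) : Prop where
  isMax : IsMax p (blkG M B) (P, e)
  mem : χ₀ ∈ B
  height : blockHeight p B χ₀.1 = 0
  central : ∀ χ ∈ B, ∀ v : P, v ∈ cenP P →
    TT p P e χ.1 χ₀.1 v = zScal χ.1 v * TT p P e χ.1 χ₀.1 1
  pairing : ∀ χ ∈ B, ∀ h : P → ℂ, IsTraceFun M h → (∀ v, MemLocalRing M (h v)) →
    (∃ μ : P → ℂ, (∀ v ∈ cenP P, ∀ w ∈ cenP P, μ (v * w) = μ v * μ w) ∧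
      ∀ v ∈ cenP P, h v = μ v * h 1) →
    MemLocalRing M ((∑ v : P, TT p P e χ.1 χ₀.1 v * h v) / (Nat.card P : ℂ))
  norm : ∀ χ ∈ B, MemLocalRing M
    ((∑ v : P, TT p P e χ.1 χ₀.1 v * TT p P e χ.1 χ₀.1 (v : G)⁻¹) / (Nat.card P : ℂ))

theorem exists_rankData (hpM : (p : AlgInt) ∈ M) (hB : IsPBlock M B)
    (hnil : IsNilpotentPairs p (blkG M B)) (hP : IsDefectGroup p M B P)
    (hrk : ∀ v ∈ P, Subgroup.centralizer ({v} : Set G) ≠ ⊤ →
      ∀ b, IsInducedBlock M (Subgroup.centralizer ({v} : Set G)) b B → blockRank p b = 1) :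
    ∃ e χ₀, RankData M p B P e χ₀ := by
  obtain ⟨χ₀, hχ₀, hh, htriv⟩ := exists_height_zero_trivial hpM hB
  obtain ⟨e, a, hmax, haS, hinv, hat, hloc⟩ := exists_max_trace hpM hB hP hχ₀ hh
  obtain ⟨D, hD⟩ := hmax.1.1.1.exists_card_eq
  change Nat.card P = p ^ D at hD
  obtain ⟨g, hgt, hgS, hgnc, hgc, hglin⟩ := exists_trace_approx hpM hB hmax hnil hχ₀ hh htriv haS
    hinv hat hloc (fun v hv hvt => hrk v hv hvt _ (isInducedBlock_eU hpM hB hmax.1 hv)) D
  have hTc : ∀ χ ∈ B, ∀ v : P, v ∈ cenP P →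
      TT p P e χ.1 χ₀.1 v = zScal χ.1 v * TT p P e χ.1 χ₀.1 1 := by
    intro χ hχ v hv
    rw [TT_central hpM hB hmax hnil v.2 (mem_cenP.1 hv) hχ, TT_one hpM hB hmax hnil hχ]
    have h0 : zScal χ₀.1 v = 1 := by
      rw [zScal, htriv v ((centralizer_eq_top_iff _).1 (mem_cenP.1 hv))
        (exists_orderOf_mem hmax.1.1.1 v.2), div_self (irr_one_ne_zero χ₀)]
    rw [h0, map_one, mul_one]
  have hω : ∀ χ : IrrCharacter G, ∀ v ∈ cenP P, ∀ w ∈ cenP P,
      zScal χ.1 ((v * w : P) : G) = zScal χ.1 (v : G) * zScal χ.1 (w : G) := fun χ v hv w _ =>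
    zScal_mul (mem_cenP.1 hv) χ w
  let c : IrrCharacter G → ℂ := fun χ => g χ 1 - TT p P e χ.1 χ₀.1 1
  have hc : ∀ χ ∈ B, ∀ v ∈ cenP P,
      g χ (v : P) - TT p P e χ.1 χ₀.1 v = zScal χ.1 (v : G) * c χ := fun χ hχ v hv => by
    rw [hgc χ hχ v v.2 (mem_cenP.1 hv), hTc χ hχ v hv]; ring
  have hnc : ∀ χ ∈ B, ∀ v : P, v ∉ cenP P → Cong M p D (g χ v) (TT p P e χ.1 χ₀.1 v) :=
    fun χ hχ v hv => hgnc χ hχ v v.2 fun h => hv (mem_cenP.2 h)
  -- the error on the central elements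
  have hcR : ∀ χ ∈ B, MemLocalRing M (((cenP P).card : ℂ) * c χ / (Nat.card P : ℂ)) := by
    have htrivial : ∀ χ ∈ B, (∀ z : G, (∀ x, Commute z x) → (∃ k, orderOf z = p ^ k) →
        χ.1 z = χ.1 1) → MemLocalRing M (((cenP P).card : ℂ) * c χ / (Nat.card P : ℂ)) := by
      intro χ hχ ht
      have h1 := (hgt χ).memLocalRing_sum_div
      have h2 : MemLocalRing M ((∑ v : P, TT p P e χ.1 χ₀.1 v) / (Nat.card P : ℂ)) := by
        rw [sum_TT hpM hB hmax hnil hχ, mul_div_assoc, mul_comm, div_mul_cancel₀ _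
          (Nat.cast_ne_zero.2 Nat.card_pos.ne'), Char.classInner_irr]
        split_ifs
        exacts [memLocalRing_one, memLocalRing_zero]
      have h3 : MemLocalRing M
          ((∑ v ∈ (cenP P)ᶜ, (g χ v - TT p P e χ.1 χ₀.1 v)) / (Nat.card P : ℂ)) := by
        rw [Finset.sum_div]
        refine MemLocalRing.sum _ fun v hv => ?_
        have := hnc χ hχ v (Finset.mem_compl.1 hv)
        rwa [Cong, ← Nat.cast_pow, ← hD] at this
      have h4 := MemLocalRing.sub (MemLocalRing.sub h1 h2) h3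
      rw [← sub_div, ← Finset.sum_sub_distrib, ← Finset.sum_add_sum_compl (cenP P), add_div,
        add_sub_cancel_right, Finset.sum_congr rfl fun v hv => show _ = c χ by
          rw [hc χ hχ v hv, zScal, ht v ((centralizer_eq_top_iff _).1 (mem_cenP.1 hv))
            (exists_orderOf_mem hmax.1.1.1 v.2), div_self (irr_one_ne_zero χ), one_mul],
        Finset.sum_const, nsmul_eq_mul] at h4
      exact h4
    intro χ hχ
    obtain ⟨n, hn, hnreg⟩ := exists_regular_combination hpM hB hχ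
    have hlin : TT p P e χ.1 χ₀.1 1 = ∑ ψ, (n ψ : ℂ) * TT p P e ψ.1 χ₀.1 1 := by
      have hfun : Char.regFun p χ.1 = ∑ ψ, (n ψ : ℂ) • Char.regFun p ψ.1 := by
        funext s
        simp only [Finset.sum_apply, Pi.smul_apply, smul_eq_mul, Char.regFun]
        by_cases hs : p ∣ orderOf s
        · simp [hs]
        · simp [hs, hnreg s hs]
      rw [TT_one hpM hB hmax hnil hχ, regDot, hfun, Char.classInner_sum_left, Finset.mul_sum]
      refine Finset.sum_congr rfl fun ψ _ => ?_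
      rw [Char.classInner_smul_left]
      rcases eq_or_ne (n ψ) 0 with h | h
      · simp [h]
      · rw [TT_one hpM hB hmax hnil (hn ψ h).1, regDot]; ring
    have h1 : MemLocalRing M ((c χ - ∑ ψ, (n ψ : ℂ) * c ψ) / (Nat.card P : ℂ)) := by
      have := hglin χ n hnreg
      rw [Cong, ← Nat.cast_pow, ← hD] at this
      rwa [show c χ - ∑ ψ, (n ψ : ℂ) * c ψ = g χ 1 - ∑ ψ, (n ψ : ℂ) * g ψ 1 by
        simp only [c, mul_sub, Finset.sum_sub_distrib, ← hlin]; ring]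
    have h2 : MemLocalRing M
        (∑ ψ, (n ψ : ℂ) * (((cenP P).card : ℂ) * c ψ / (Nat.card P : ℂ))) := by
      refine MemLocalRing.sum _ fun ψ _ => ?_
      rcases eq_or_ne (n ψ) 0 with h | h
      · simp [h, memLocalRing_zero]
      · exact MemLocalRing.mul (memLocalRing_intCast _) (htrivial ψ (hn ψ h).1 (hn ψ h).2)
    have := MemLocalRing.add (MemLocalRing.mul (memLocalRing_natCast (cenP P).card) h1) h2
    rwa [sub_div, mul_sub, Finset.sum_div, Finset.mul_sum, ← mul_div_assoc,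
      Finset.sum_congr (s₂ := Finset.univ) rfl fun ψ _ => show
        ((cenP P).card : ℂ) * ((n ψ : ℂ) * c ψ / (Nat.card P : ℂ)) =
          (n ψ : ℂ) * (((cenP P).card : ℂ) * c ψ / (Nat.card P : ℂ)) by ring,
      sub_add_cancel] at this
  have hpair : ∀ χ ∈ B, ∀ h : P → ℂ, IsTraceFun M h → (∀ v, MemLocalRing M (h v)) →
      (∃ μ : P → ℂ, (∀ v ∈ cenP P, ∀ w ∈ cenP P, μ (v * w) = μ v * μ w) ∧
        ∀ v ∈ cenP P, h v = μ v * h 1) →
      MemLocalRing M ((∑ v : P, TT p P e χ.1 χ₀.1 v * h v) / (Nat.card P : ℂ)) := by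
    rintro χ hχ h htf hS ⟨μ, hμ, hh'⟩
    have h1 := ((hgt χ).mul htf).memLocalRing_sum_div
    have h2 := memLocalRing_sum_diff hD (hnc χ hχ) (hω χ) (hc χ hχ) (hcR χ hχ) hS hμ (hS 1) hh'
    have := MemLocalRing.sub h1 h2
    rwa [← sub_div, ← Finset.sum_sub_distrib, Finset.sum_congr rfl fun (v : P) _ =>
      show g χ (v : P) * h v - (g χ (v : P) - TT p P e χ.1 χ₀.1 v) * h v =
        TT p P e χ.1 χ₀.1 v * h v by ring] at this
  refine ⟨e, χ₀, hmax, hχ₀, hh, hTc, hpair, fun χ hχ => ?_⟩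
  have hμ : ∀ v ∈ cenP P, ∀ w ∈ cenP P,
      (fun v : P => zScal χ.1 ((v⁻¹ : P) : G)) (v * w) =
        (fun v : P => zScal χ.1 ((v⁻¹ : P) : G)) v * (fun v : P => zScal χ.1 ((v⁻¹ : P) : G)) w := by
    intro v hv w hw
    show zScal χ.1 (((v * w)⁻¹ : P) : G) = _
    rw [mul_inv_rev, hω χ _ (inv_mem_cenP.2 hw) _ (inv_mem_cenP.2 hv), mul_comm]
  have h1 := hpair χ hχ (fun v : P => g χ ((v⁻¹ : P) : G)) (hgt χ).inv (fun v => hgS _ _)
    ⟨_, hμ, fun v hv => by
      show g χ ((v⁻¹ : P) : G) = _ * g χ (((1 : P)⁻¹ : P) : G)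
      rw [hgc χ hχ _ (v⁻¹).2 (mem_cenP.1 (inv_mem_cenP.2 hv)), inv_one, OneMemClass.coe_one]⟩
  have h2 := memLocalRing_sum_diff hD (hnc χ hχ) (hω χ) (hc χ hχ) (hcR χ hχ)
    (h := fun v : P => TT p P e χ.1 χ₀.1 ((v⁻¹ : P) : G))
    (fun v => memLocalRing_TT hpM hmax.1.1 (v⁻¹).2 χ χ₀) hμ
    (memLocalRing_TT hpM hmax.1.1 (one_mem P) χ χ₀)
    (fun v hv => hTc χ hχ _ (inv_mem_cenP.2 hv))
  have h3 : ∑ v : P, (g χ v - TT p P e χ.1 χ₀.1 v) * TT p P e χ.1 χ₀.1 ((v⁻¹ : P) : G) =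
      ∑ v : P, (g χ ((v⁻¹ : P) : G) - TT p P e χ.1 χ₀.1 ((v⁻¹ : P) : G)) * TT p P e χ.1 χ₀.1 v :=
    Fintype.sum_equiv (Equiv.inv P) _ _ fun v => by simp
  rw [h3] at h2
  have := MemLocalRing.sub h1 h2
  rwa [← sub_div, ← Finset.sum_sub_distrib, Finset.sum_congr rfl fun (v : P) _ =>
    show TT p P e χ.1 χ₀.1 v * g χ ((v⁻¹ : P) : G) -
        (g χ ((v⁻¹ : P) : G) - TT p P e χ.1 χ₀.1 ((v⁻¹ : P) : G)) * TT p P e χ.1 χ₀.1 v =
      TT p P e χ.1 χ₀.1 v * TT p P e χ.1 χ₀.1 (v : G)⁻¹ by rw [InvMemClass.coe_inv]; ring] at this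

theorem TT_one_ne_zero (hpM : (p : AlgInt) ∈ M) (hB : IsPBlock M B)
    (hnil : IsNilpotentPairs p (blkG M B)) {χ₀ : IrrCharacter G} (hd : RankData M p B P e χ₀)
    {χ : IrrCharacter G} (hχ : χ ∈ B) : TT p P e χ.1 χ₀.1 1 ≠ 0 := by
  rw [TT_one hpM hB hd.isMax hnil hχ]
  refine mul_ne_zero (Nat.cast_ne_zero.2 Nat.card_pos.ne') fun h0 => ?_
  have h : Char.regInner p χ₀.1 χ.1 = ((0 : ℤ) : ℂ) := by
    rw [Char.regInner, Char.classInner_smul_left]
    show _ * regDot p χ₀.1 χ.1 = _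
    rw [regDot_comm hp.out, h0, mul_zero, Int.cast_zero]
  exact (Char.blockHeight_eq_zero_iff_regInner hpM hp.out hB hd.mem hχ h).1 hd.height (dvd_zero _)

/-- The norm of `TT χ χ₀` is a positive integral multiple of `|P|`. -/
theorem exists_norm (hpM : (p : AlgInt) ∈ M) (hB : IsPBlock M B)
    (hnil : IsNilpotentPairs p (blkG M B)) {χ₀ : IrrCharacter G} (hd : RankData M p B P e χ₀)
    {χ : IrrCharacter G} (hχ : χ ∈ B) :
    ∃ z : ℕ, Nat.card P ≤ z ∧
      ∑ v : P, TT p P e χ.1 χ₀.1 v * TT p P e χ.1 χ₀.1 (v : G)⁻¹ = z := by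
  have hP := hd.isMax.1.1.1
  have hinv : ∀ v : P, (v : G)⁻¹ ∈ P := fun v => inv_mem v.2
  set S := ∑ v : P, TT p P e χ.1 χ₀.1 v * TT p P e χ.1 χ₀.1 (v : G)⁻¹
  let f : ℕ → ℂ := fun t => ∑ v : P,
    Tof M p (Subgroup.centralizer ({(v : G)} : Set G)) ((v : G) ^ t) (eU p P e v) χ.1 χ₀.1 *
      Tof M p (Subgroup.centralizer ({(v : G)⁻¹} : Set G)) ((v : G)⁻¹ ^ t) (eU p P e (v : G)⁻¹) χ.1 χ₀.1
  have hf1 : f 1 = S := Finset.sum_congr rfl fun v _ => by simp only [pow_one]; rfl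
  have hfinv : ∀ t, ¬ p ∣ t → f t = f 1 := fun t ht => by
    rw [hf1]
    calc f t = ∑ v : P, TT p P e χ.1 χ₀.1 ((v ^ t : P) : G) *
          TT p P e χ.1 χ₀.1 ((v ^ t : P) : G)⁻¹ := Finset.sum_congr rfl fun v _ => by
            rw [SubmonoidClass.coe_pow, ← inv_pow, TT_pow hd.isMax.1.1 v.2 ht,
              TT_pow hd.isMax.1.1 (hinv v) ht]
      _ = S := sum_pow_comp hP ht fun v : P =>
          TT p P e χ.1 χ₀.1 (v : G) * TT p P e χ.1 χ₀.1 (v : G)⁻¹
  obtain ⟨k, hk⟩ := hP.exists_card_eq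
  change Nat.card P = p ^ k at hk
  obtain ⟨z, hz⟩ := IsTw.exists_int (k := k) hp.out
    (by
      rw [← hk]
      exact IsTw.sum fun v : P => IsTw.mul (isTw_Tof hpM hd.isMax.1.1 v.2 χ χ₀)
        (isTw_Tof hpM hd.isMax.1.1 (hinv v) χ χ₀)) hfinv
  rw [hf1] at hz
  have hreal : S = ((∑ v : P, Complex.normSq (TT p P e χ.1 χ₀.1 v) : ℝ) : ℂ) := by
    rw [Complex.ofReal_sum]
    refine Finset.sum_congr rfl fun v _ => ?_
    rw [TT_inv hpM hd.isMax.1.1 v.2, Complex.mul_conj]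
  have hpos : 0 < ∑ v : P, Complex.normSq (TT p P e χ.1 χ₀.1 v) :=
    Finset.sum_pos' (fun v _ => Complex.normSq_nonneg _) ⟨1, Finset.mem_univ _,
      Complex.normSq_pos.2 (TT_one_ne_zero hpM hB hnil hd hχ)⟩
  have hz0 : 0 < z := by
    have h : ∑ v : P, Complex.normSq (TT p P e χ.1 χ₀.1 v) = (z : ℝ) := by
      rw [hreal] at hz; exact_mod_cast hz
    rw [h] at hpos
    exact_mod_cast hpos
  have hdvd : (Nat.card P : ℤ) ∣ z := by
    have h := hd.norm χ hχ
    rw [show (∑ v : P, TT p P e χ.1 χ₀.1 v * TT p P e χ.1 χ₀.1 (v : G)⁻¹) = (z : ℂ) from hz,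
      Char.memLocalRing_intCast_div_iff hpM z Nat.card_pos.ne', hk, hp.out.factorization_pow,
      Finsupp.single_eq_same] at h
    rw [hk]; exact_mod_cast h
  obtain ⟨n, rfl⟩ := Int.eq_ofNat_of_zero_le hz0.le
  exact ⟨n, Nat.le_of_dvd (by exact_mod_cast hz0) (by exact_mod_cast hdvd), by rw [hz]; push_cast; rfl⟩

/-- The counting: `B` has rank one and every norm is exactly `|P|`. -/
theorem rank_eq_one (hpM : (p : AlgInt) ∈ M) (hB : IsPBlock M B)
    (hnil : IsNilpotentPairs p (blkG M B)) {χ₀ : IrrCharacter G} (hd : RankData M p B P e χ₀) :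
    blockRank p B = 1 ∧ TT p P e χ₀.1 χ₀.1 1 = 1 ∧ ∀ χ ∈ B,
      ∑ v : P, TT p P e χ.1 χ₀.1 v * TT p P e χ.1 χ₀.1 (v : G)⁻¹ = Nat.card P := by
  have hmax := hd.isMax
  have hT0 : ∀ v : P, TT p P e χ₀.1 χ₀.1 v = 1 := fun v =>
    TT_self_eq_one hpM hB hmax hnil hd.mem hd.height v.2
  set BF := Finset.univ.filter (· ∈ B)
  let b : (v : P) → Set (IrrCharacter (Subgroup.centralizer ({(v : G)} : Set G))) := fun v =>
    blkSet M (Subgroup.centralizer ({(v : G)} : Set G)) (eU p P e v)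
  let w : P → ℕ := fun v => p ^ blockDefect p (b v)
  have hTT : ∀ (χ ψ : IrrCharacter G) (v : P),
      TT p P e χ.1 ψ.1 v = (w v : ℂ) * contribution p (b v) χ.1 ψ.1 := fun χ ψ v =>
    TT_eq_contribution χ ψ.1
  have hind : ∀ v : P, IsInducedBlock M (Subgroup.centralizer ({(v : G)} : Set G)) (b v) B :=
    fun v => isInducedBlock_eU hpM hB hmax.1 v.2
  -- the weighted norms at one element
  have hnorm : ∀ v : P, ∑ χ ∈ BF, TT p P e χ.1 χ₀.1 v * TT p P e χ.1 χ₀.1 (v : G)⁻¹ = w v := by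
    intro v
    obtain ⟨k, hk⟩ := exists_orderOf_mem hmax.1.1.1 v.2
    have h := sum_contribution_mul_conj hpM hk (hind v) χ₀
    have h1 := hT0 v
    rw [hTT] at h1
    calc ∑ χ ∈ BF, TT p P e χ.1 χ₀.1 v * TT p P e χ.1 χ₀.1 (v : G)⁻¹
        = (w v : ℂ) * ((w v : ℂ) * ∑ χ ∈ BF,
            contribution p (b v) χ₀.1 χ.1 * conj (contribution p (b v) χ₀.1 χ.1)) := by
          rw [Finset.mul_sum, Finset.mul_sum]
          refine Finset.sum_congr rfl fun χ _ => ?_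
          rw [TT_inv hpM hmax.1.1 v.2, conj_TT hpM hmax.1.1 v.2, ← conj_TT hpM hmax.1.1 v.2 χ₀ χ,
            hTT, map_mul, map_natCast]
          ring
      _ = w v := by rw [h, h1, mul_one]
  have hdiag : ∀ v : P, ∑ χ ∈ BF, TT p P e χ.1 χ.1 v = ((w v * blockRank p (b v) : ℕ) : ℂ) := by
    intro v
    obtain ⟨k, hk⟩ := exists_orderOf_mem hmax.1.1.1 v.2
    rw [Nat.cast_mul, ← sum_contribution_self hpM hk (hind v), Finset.mul_sum]
    exact Finset.sum_congr rfl fun χ _ => hTT χ χ v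
  have hl : ∀ v : P, 1 ≤ blockRank p (b v) := by
    intro v
    obtain ⟨k, hk⟩ := exists_orderOf_mem hmax.1.1.1 v.2
    refine Nat.one_le_iff_ne_zero.2 fun h0 => ?_
    have hr : ∀ χ : IrrCharacter G, contribution p (b v) χ.1 χ.1 =
        ((∑ ψ ∈ BF, Complex.normSq (contribution p (b v) χ.1 ψ.1) : ℝ) : ℂ) := fun χ => by
      rw [← sum_contribution_mul_conj hpM hk (hind v) χ, Complex.ofReal_sum]
      exact Finset.sum_congr rfl fun ψ _ => Complex.mul_conj _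
    have h1 := sum_contribution_self hpM hk (hind v)
    rw [h0, Nat.cast_zero, Finset.sum_congr rfl fun χ _ => hr χ, ← Complex.ofReal_sum,
      Complex.ofReal_eq_zero, Finset.sum_eq_zero_iff_of_nonneg
        fun χ _ => Finset.sum_nonneg fun ψ _ => Complex.normSq_nonneg _] at h1
    have h2 := h1 χ₀ (Finset.mem_filter.2 ⟨Finset.mem_univ _, hd.mem⟩)
    have h3 := hT0 v
    rw [hTT, hr, h2, Complex.ofReal_zero, mul_zero] at h3
    exact zero_ne_one h3
  choose z hzP hz using fun χ : BF =>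
    exists_norm hpM hB hnil hd (χ := χ.1) (Finset.mem_filter.1 χ.2).2
  -- the two totals
  have hsum1 : ∑ χ : BF, z χ = ∑ v : P, w v := by
    have : ((∑ χ : BF, z χ : ℕ) : ℂ) = ((∑ v : P, w v : ℕ) : ℂ) := by
      push_cast
      rw [Finset.sum_congr rfl fun χ _ => (hz χ).symm, Finset.sum_comm]
      refine Finset.sum_congr rfl fun v _ => ?_
      rw [← hnorm v, ← Finset.sum_coe_sort BF]
    exact_mod_cast this
  have hsum2 : ∑ χ : BF, Nat.card P = ∑ v : P, w v * blockRank p (b v) := by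
    have : ((∑ _χ : BF, Nat.card P : ℕ) : ℂ) = ((∑ v : P, w v * blockRank p (b v) : ℕ) : ℂ) := by
      push_cast
      have h := fun v : P => hdiag v
      push_cast at h
      rw [← Finset.sum_congr rfl fun v _ => h v, Finset.sum_comm, Finset.sum_coe_sort BF
        (fun _ => (Nat.card P : ℂ))]
      refine Finset.sum_congr rfl fun χ hχ => ?_
      rw [sum_TT hpM hB hmax hnil (Finset.mem_filter.1 hχ).2, Char.classInner_irr, if_pos rfl, mul_one]
    exact_mod_cast this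
  have hle1 : ∑ _χ : BF, Nat.card P ≤ ∑ χ : BF, z χ := Finset.sum_le_sum fun χ _ => hzP χ
  have hle2 : ∑ v : P, w v ≤ ∑ v : P, w v * blockRank p (b v) :=
    Finset.sum_le_sum fun v _ => Nat.le_mul_of_pos_right _ (hl v)
  have hzeq := (Finset.sum_eq_sum_iff_of_le fun χ (_ : χ ∈ Finset.univ) => hzP χ).1 (by omega)
  have hleq := (Finset.sum_eq_sum_iff_of_le fun v (_ : v ∈ Finset.univ) =>
    Nat.le_mul_of_pos_right (w v) (hl v)).1 (by omega)
  refine ⟨?_, hT0 1, fun χ hχ => ?_⟩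
  · have hw : w 1 = Nat.card P := by
      show p ^ _ = _
      rw [pow_blockDefect_eU hpM hB hmax hnil (1 : P).2, OneMemClass.coe_one,
        centralizer_one_eq_top, inf_top_eq]
    have h := hdiag 1
    rw [← hleq 1 (Finset.mem_univ _), hw] at h
    have hB1 : ∑ χ ∈ BF, TT p P e χ.1 χ.1 ((1 : P) : G) = (Nat.card P : ℂ) * blockRank p B := by
      rw [BrauerPairs.blockRank_eq_sum hpM hp.out hB, Finset.mul_sum,
        ← Finset.sum_subtype BF (by simp [BF]) (fun χ : IrrCharacter G =>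
          (Nat.card P : ℂ) * classInner (Char.regFun p χ.1) χ.1)]
      exact Finset.sum_congr rfl fun χ hχ => TT_one hpM hB hmax hnil (Finset.mem_filter.1 hχ).2 χ
    rw [hB1] at h
    exact_mod_cast mul_left_cancel₀ (Nat.cast_ne_zero.2 Nat.card_pos.ne') (h.trans (mul_one _).symm)
  · have hχ' : χ ∈ BF := Finset.mem_filter.2 ⟨Finset.mem_univ _, hχ⟩
    rw [hz ⟨χ, hχ'⟩, ← hzeq ⟨χ, hχ'⟩ (Finset.mem_univ _)]

end Cfsg.Agent.Blocks.NilRank
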