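import Cfsg.Agent.Lib.Blocks.NilpotentRank.TraceFun
import Cfsg.Agent.Lib.Blocks.Nilpotent
import Cfsg.Agent.Lib.Char.Congruence
import Cfsg.Agent.Lib.CharInt.Basic

/-!
# Word congruences for `p`-power powers in a group algebra

* `cong_chiL_pow_trunc`: `χ(u a ^ n) ≡ χ(u (a restricted to C(u)) ^ n)` modulo `p ^ m`, `n = p ^ m`;
* `cong_sum_pow_zero`: functions vanishing on `p`-regular elements are small on `y ^ n`;
* `redTr_pow`: the residual character commutes with `p`-power powers.
-/

set_option autoImplicit false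
set_option linter.unusedSectionVars false
set_option linter.style.haveILetI false

namespace Cfsg.Agent.Blocks.NilRank

open Cfsg Blocks MonoidAlgebra

universe u

variable {G : Type u} [Group G] [Fintype G] {M : Ideal AlgInt} [M.IsMaximal] {p : ℕ}
  [hp : Fact p.Prime]

theorem rangeProd_succ' {H : Type*} [Group H] (v : ℕ → H) :
    ∀ N, rangeProd v (N + 1) = v 0 * rangeProd (fun i => v (i + 1)) N
  | 0 => by simp [rangeProd]
  | N + 1 => by
    rw [rangeProd, rangeProd_succ' v N, rangeProd, mul_assoc]

/-- Restriction of a group algebra element to the centralizer of `u`. -/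
noncomputable def truncC (u : G) (a : MonoidAlgebra ℂ G) : MonoidAlgebra ℂ G :=
  ofFun fun g => open Classical in if u * g = g * u then a.coeff g else 0

theorem scoeff_truncC (u : G) {a : MonoidAlgebra ℂ G} (ha : SCoeff M a) :
    SCoeff M (truncC u a) := fun g => by
  simp only [truncC, coeff_ofFun]
  split_ifs
  exacts [ha g, memLocalRing_zero]

theorem memLocalRing_char {χ : G → ℂ} (hχ : IsCharacter G χ) (g : G) : MemLocalRing M (χ g) :=
  memLocalRing_of_isIntegral (CharInt.isIntegral_char hχ g)

theorem cong_chiL_pow_trunc {u : G} {k : ℕ} (hu : u ^ p ^ k = 1) {a : MonoidAlgebra ℂ G}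
    (ha : SCoeff M a) (hinv : ∀ g, a.coeff (u * g * u⁻¹) = a.coeff g) {χ : G → ℂ}
    (hχ : IsCharacter G χ) (m : ℕ) :
    Cong M p m (chiL χ (single u 1 * a ^ p ^ m)) (chiL χ (single u 1 * truncC u a ^ p ^ m)) := by
  classical
  have hclass := Char.IsCharacter.isClassFunction hχ
  set n := p ^ m with hn
  set L := p ^ (m + k) with hL
  have hnL : L = n * p ^ k := pow_add p m k
  haveI : NeZero L := ⟨pow_ne_zero _ hp.out.ne_zero⟩
  have hn0 : 0 < n := pow_pos hp.out.pos m
  let α := {W : ZMod L → G // ∀ i, W (i + (n : ZMod L)) = u * W i * u⁻¹}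
  letI : MulAction (Multiplicative (ZMod L)) α :=
    { smul := fun q W => ⟨fun i => W.1 (i + Multiplicative.toAdd q), fun i => by
        show W.1 (i + (n : ZMod L) + _) = _
        rw [add_right_comm]; exact W.2 _⟩
      one_smul := fun W => Subtype.ext (funext fun i => by
        show W.1 (i + Multiplicative.toAdd (1 : Multiplicative (ZMod L))) = _
        rw [toAdd_one, add_zero])
      mul_smul := fun q q' W => Subtype.ext (funext fun i => by
        show W.1 (i + Multiplicative.toAdd (q * q')) =
          W.1 (i + Multiplicative.toAdd q + Multiplicative.toAdd q')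
        rw [toAdd_mul, add_assoc]) }
  let F : (Fin n → G) → ℕ → G := fun w t =>
    u ^ (t / n) * w ⟨t % n, Nat.mod_lt _ hn0⟩ * (u ^ (t / n))⁻¹
  have hFn : ∀ w t, F w (t + n) = u * F w t * u⁻¹ := fun w t => by
    simp only [F, Nat.add_div_right _ hn0, Nat.add_mod_right, pow_succ']
    group
  have hFper : ∀ w, Function.Periodic (F w) L := fun w t => by
    simp only [F, hnL, Nat.add_mul_div_left _ _ hn0, Nat.add_mul_mod_self_left, pow_add, hu,
      mul_one]
  let e : α ≃ (Fin n → G) :=
    { toFun := fun W i => W.1 ((i : ℕ) : ZMod L)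
      invFun := fun w => ⟨fun i => F w i.val, fun i => by
        show F w (i + (n : ZMod L)).val = u * F w i.val * u⁻¹
        rw [← hFn, ZMod.val_add, ZMod.val_natCast, Nat.add_mod_mod, (hFper w).map_mod_nat]⟩
      left_inv := fun W => Subtype.ext (funext fun i => by
        have key : ∀ t : ℕ, F (fun i : Fin n => W.1 ((i : ℕ) : ZMod L)) t = W.1 (t : ZMod L) := by
          intro t
          induction t using Nat.strong_induction_on with
          | _ t ih =>
            rcases Nat.lt_or_ge t n with h | h
            · simp [F, Nat.div_eq_of_lt h, Nat.mod_eq_of_lt h]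
            · obtain ⟨s, rfl⟩ := Nat.exists_eq_add_of_le h
              rw [add_comm n s]
              refine (hFn (fun i : Fin n => W.1 ((i : ℕ) : ZMod L)) s).trans ?_
              rw [ih s (by omega), Nat.cast_add]
              exact (W.2 _).symm
        show F (fun i : Fin n => W.1 ((i : ℕ) : ZMod L)) i.val = W.1 i
        rw [key, ZMod.natCast_zmod_val])
      right_inv := fun w => funext fun i => by
        have hi : (i : ℕ) < L := lt_of_lt_of_le i.2 (by
          rw [hnL]; exact Nat.le_mul_of_pos_right _ (pow_pos hp.out.pos k))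
        show F w ((i : ℕ) : ZMod L).val = w i
        rw [ZMod.val_natCast, Nat.mod_eq_of_lt hi]
        simp [F, Nat.div_eq_of_lt i.2, Nat.mod_eq_of_lt i.2] }
  let bad : α → Prop := fun W => ∃ i, ¬ Commute u (W.1 i)
  let f : α → ℂ := fun W => if bad W then
    (∏ i ∈ Finset.range n, a.coeff (W.1 (i : ZMod L))) *
      χ (u * rangeProd (fun i => W.1 (i : ZMod L)) n) else 0
  have hbad : ∀ W : α, bad W ↔ ∃ i : Fin n, ¬ (u * e W i = e W i * u) := fun W => by
    constructor
    · rintro ⟨i, hi⟩
      by_contra! hall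
      refine hi ?_
      have h1 := congrArg Subtype.val (e.left_inv W)
      rw [← congrFun h1 i]
      show Commute u (F (e W) i.val)
      have hc : Commute u (e W ⟨i.val % n, Nat.mod_lt _ hn0⟩) := hall _
      exact ((Commute.pow_right rfl _).mul_right hc).mul_right (Commute.pow_right rfl _).inv_right
    · rintro ⟨i, hi⟩
      exact ⟨((i : ℕ) : ZMod L), hi⟩
  have hsum : chiL χ (single u 1 * a ^ n) - chiL χ (single u 1 * truncC u a ^ n) = ∑ W : α, f W := by
    rw [chiL_single_mul, chiL_single_mul, sum_pow_coeff_mul a n (fun g => χ (u * g)),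
      sum_pow_coeff_mul (truncC u a) n (fun g => χ (u * g)), ← Finset.sum_sub_distrib]
    refine (Fintype.sum_equiv e _ _ fun W => ?_).symm
    have hprod : (List.ofFn (e W)).prod = rangeProd (fun i => W.1 (i : ZMod L)) n :=
      prod_ofFn_eq_rangeProd (fun i => W.1 (i : ZMod L)) n
    rw [hprod, ← sub_mul]
    simp only [f]
    by_cases hb : bad W
    · rw [if_pos hb]
      obtain ⟨i, hi⟩ := (hbad W).1 hb
      rw [Finset.prod_eq_zero (Finset.mem_univ i) (f := fun i => (truncC u a).coeff (e W i))
        (by simp [truncC, hi]), sub_zero, ← Fin.prod_univ_eq_prod_range]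
      rfl
    · rw [if_neg hb]
      have hall : ∀ i, u * e W i = e W i * u := fun i => by_contra fun h => hb ((hbad W).2 ⟨i, h⟩)
      simp [truncC, hall]
  have hinv' : ∀ W : α, f (Multiplicative.ofAdd (1 : ZMod L) • W) = f W := fun W => by
    have hb : bad (Multiplicative.ofAdd (1 : ZMod L) • W) ↔ bad W :=
      ⟨fun ⟨i, hi⟩ => ⟨i + 1, hi⟩, fun ⟨i, hi⟩ => ⟨i - 1, by
        show ¬ Commute u (W.1 (i - 1 + 1))
        rwa [sub_add_cancel]⟩⟩
    simp only [f, hb]
    split_ifs with h
    · show (∏ i ∈ Finset.range n, a.coeff (W.1 ((i : ZMod L) + 1))) *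
          χ (u * rangeProd (fun i => W.1 ((i : ZMod L) + 1)) n) = _
      set v : ℕ → G := fun i => W.1 (i : ZMod L) with hv
      have hvn : v n = u * v 0 * u⁻¹ := by
        simp only [hv]; rw [← W.2, Nat.cast_zero, zero_add]
      have hshift : ∀ i : ℕ, W.1 ((i : ZMod L) + 1) = v (i + 1) := fun i => by
        simp only [hv, Nat.cast_succ]
      simp only [hshift]
      have hgen : ∀ N, v N = u * v 0 * u⁻¹ →
          (∏ i ∈ Finset.range N, a.coeff (v (i + 1))) * χ (u * rangeProd (fun i => v (i + 1)) N) =
            (∏ i ∈ Finset.range N, a.coeff (v i)) * χ (u * rangeProd v N) := by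
        rintro (_ | N) hN
        · rfl
        · rw [Finset.prod_range_succ, hN, hinv, ← Finset.prod_range_succ' (fun i => a.coeff (v i)),
            rangeProd, rangeProd_succ' v N, hN]
          congr 1
          set R := rangeProd (fun i => v (i + 1)) N
          rw [show u * (R * (u * v 0 * u⁻¹)) = u * (R * u * v 0) * u⁻¹ by group, hclass,
            mul_assoc R, Char.IsClassFunction.apply_mul_comm hclass R, mul_assoc]
      exact hgen n hvn
    · rfl
  have hinvq : ∀ (q : Multiplicative (ZMod L)) (W : α), f (q • W) = f W := by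
    have hk : ∀ (i : ℕ) (W : α), f (Multiplicative.ofAdd (i : ZMod L) • W) = f W := by
      intro i
      induction i with
      | zero => intro W; rw [Nat.cast_zero, ofAdd_zero, one_smul]
      | succ i ih => intro W; rw [Nat.cast_succ, ofAdd_add, mul_smul, ih, hinv']
    intro q W
    have := hk (Multiplicative.toAdd q).val W
    rwa [ZMod.natCast_zmod_val, ofAdd_toAdd] at this
  unfold Cong
  rw [hsum]
  refine Blocks.memLocalRing_sum_div_pow (A := Multiplicative (ZMod L)) f (fun W => ?_) hinvq m
    fun W hW => ?_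
  · simp only [f]
    split_ifs
    · exact MemLocalRing.mul (MemLocalRing.prod _ fun i _ => ha _) (memLocalRing_char hχ _)
    · exact memLocalRing_zero
  · have hb : bad W := by
      by_contra h
      exact hW (if_neg h)
    have hidx : (MulAction.stabilizer (Multiplicative (ZMod L)) W).index =
        Nat.card (MulAction.orbit (Multiplicative (ZMod L)) W) := by
      rw [MulAction.index_stabilizer, Nat.card_coe_set_eq]
    have hdvd := (MulAction.stabilizer (Multiplicative (ZMod L)) W).index_dvd_card
    rw [hidx, Nat.card_congr Multiplicative.toAdd, Nat.card_zmod] at hdvd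
    obtain ⟨j, -, hje⟩ := (Nat.dvd_prime_pow hp.out).1 hdvd
    rw [hje]
    refine pow_dvd_pow p (le_of_lt ?_)
    by_contra hle
    push Not at hle
    obtain ⟨i, hi⟩ := hb
    have hmem := (MulAction.stabilizer (Multiplicative (ZMod L)) W).pow_index_mem
      (Multiplicative.ofAdd (1 : ZMod L))
    rw [hidx, hje, MulAction.mem_stabilizer_iff] at hmem
    have hper : Multiplicative.ofAdd ((n : ℕ) : ZMod L) • W = W := by
      rw [show Multiplicative.ofAdd ((n : ℕ) : ZMod L) =
          (Multiplicative.ofAdd (1 : ZMod L) ^ p ^ j) ^ p ^ (m - j) by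
        rw [← pow_mul, ← pow_add, Nat.add_sub_cancel' hle, ← ofAdd_nsmul, nsmul_one]]
      exact MulAction.mem_stabilizer_iff.1 (pow_mem (MulAction.mem_stabilizer_iff.2 hmem) _)
    refine hi ?_
    have h1 : W.1 (i + ((n : ℕ) : ZMod L)) = W.1 i :=
      congrFun (congrArg Subtype.val hper) i
    rw [W.2] at h1
    show u * W.1 i = W.1 i * u
    nth_rewrite 2 [← h1]
    group

/-- A class function with local values vanishing on the `p`-regular elements is small on high
`p`-power powers. -/
theorem cong_sum_pow_zero {H : Type u} [Group H] [Fintype H] {y : MonoidAlgebra ℂ H}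
    (hy : SCoeff M y) {φ : H → ℂ} (hφc : ∀ g h : H, φ (h * g * h⁻¹) = φ g)
    (hφS : ∀ g, MemLocalRing M (φ g)) (hφ : ∀ g, IsPRegular p g → φ g = 0) {b n : ℕ}
    (hn : b + (Nat.card H).factorization p ≤ n) :
    Cong M p b (∑ g, (y ^ p ^ n).coeff g * φ g) 0 := by
  haveI : NeZero (p ^ n) := ⟨pow_ne_zero n hp.out.ne_zero⟩
  unfold Cong
  rw [sub_zero, sum_pow_coeff_mul_cyc]
  refine necklace _ (fun w => MemLocalRing.mul (MemLocalRing.prod _ fun i _ => hy _) (hφS _))
    (fun w => ?_) _ fun w j hj hw hne => ?_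
  · rw [show (∏ i, y.coeff ((fun i => w (i + 1)) i)) = ∏ i, y.coeff (w i) from
      Equiv.prod_comp (Equiv.addRight (1 : ZMod (p ^ n))) fun i => y.coeff (w i)]
    obtain ⟨c, hc⟩ := isConj_iff.1 (isConj_cycProd_shift w)
    rw [← hc, hφc]
  · by_contra hlt
    refine hne ?_
    rw [cycProd_periodic hj w hw, hφ _ (isPRegular_pow_of_le _ (by omega)), mul_zero]

/-- The residual character on a group algebra in characteristic `p`. -/
noncomputable def redTr (M : Ideal AlgInt) [M.IsMaximal] (χ : G → ℂ)
    (z : MonoidAlgebra (AlgInt ⧸ M) G) : AlgInt ⧸ M :=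
  ∑ g, z.coeff g * red M (χ g)

theorem redTr_pow (hpM : (p : AlgInt) ∈ M) {χ : G → ℂ} (hχ : IsCharacter G χ)
    (z : MonoidAlgebra (AlgInt ⧸ M) G) (n : ℕ) :
    redTr M χ (z ^ p ^ n) = redTr M χ z ^ p ^ n := by
  haveI := charP_residue hpM
  unfold redTr
  rw [sum_pow_prime_pow z n (φ := fun g => red M (χ g)) (fun g h => by
    rw [Char.IsCharacter.isClassFunction hχ g h]), sum_pow_char_pow]
  refine Finset.sum_congr rfl fun g _ => ?_
  obtain ⟨γ, hγ⟩ := Char.exists_char_pow_sub hp.out hχ g n
  have hint := fun a => memLocalRing_char (M := M) hχ a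
  rw [mul_pow]
  congr 1
  rw [← red_pow (hint g), eq_comm, red_eq_iff (MemLocalRing.pow (hint g) _) (hint _), hγ]
  exact MemLocalIdeal.mul_right (memLocalIdeal_p hpM) (memLocalRing_coe γ)

theorem red_chiL {χ : G → ℂ} (hχ : IsCharacter G χ) {z : MonoidAlgebra ℂ G} (hz : SCoeff M z) :
    red M (chiL χ z) = redTr M χ (redA M z) := by
  have hint := fun a => memLocalRing_char (M := M) hχ a
  rw [chiL_eq_sum, red_sum _ fun g _ => MemLocalRing.mul (hz g) (hint g)]
  exact Finset.sum_congr rfl fun g _ => by rw [red_mul (hz g) (hint g), coeff_redA]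

theorem memLocalRing_chiL {χ : G → ℂ} (hχ : IsCharacter G χ) {z : MonoidAlgebra ℂ G}
    (hz : SCoeff M z) : MemLocalRing M (chiL χ z) := by
  rw [chiL_eq_sum]
  exact MemLocalRing.sum _ fun g _ => MemLocalRing.mul (hz g) (memLocalRing_char hχ g)

end Cfsg.Agent.Blocks.NilRank
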