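import Cfsg.Agent.Lib.Blocks.NilpotentRank.Approx
import Cfsg.Agent.Lib.Blocks.NilpotentRank.Words
import Cfsg.Agent.Lib.Blocks.Contribution
import Cfsg.Agent.Lib.BrauerPairs.RankOne
import Cfsg.Agent.Lib.BrauerPairs.Bridge
import Cfsg.Agent.Lib.BrauerPairs.Lift

/-!
# Traces on a section with a block of rank one

For `C = C(u)` and a block `b` of `C` of rank one, the values `χ(u y ^ n)` (`y` in `b` modulo the
maximal ideal, `n` a high power of `p`) are proportional to the contributions of `(u, b)`.
-/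

set_option autoImplicit false
set_option linter.unusedSectionVars false
set_option linter.style.haveILetI false

namespace Cfsg.Agent.Blocks.NilRank

open Cfsg Blocks MonoidAlgebra
open Cfsg.Agent.BrauerPairs (blkG regDot regDot_comm)
open scoped Classical ComplexConjugate

universe u

variable {M : Ideal AlgInt} [M.IsMaximal] {p : ℕ} [hp : Fact p.Prime]

section Group

variable {H : Type u} [Group H] [Fintype H]

/-- High powers of an element with coefficients in the local ideal are small. -/
theorem exists_pow_coeff_cong_zero (hpM : (p : AlgInt) ∈ M) {z : MonoidAlgebra ℂ H}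
    (hz : MCoeff M z) (a : ℕ) : ∃ L : ℕ, ∀ N, L ≤ N → ∀ g, Cong M p a ((z ^ N).coeff g) 0 := by
  let w : H → localInt M := fun g => ⟨z.coeff g, hz.scoeff g⟩
  obtain ⟨L, hL⟩ := exists_span_pow_le hpM (Finset.univ.image w) (fun y hy => by
    obtain ⟨g, -, rfl⟩ := Finset.mem_image.1 hy
    exact hz g) a
  set I := Ideal.span ((Finset.univ.image w : Finset (localInt M)) : Set (localInt M))
  have key : ∀ N, ∀ g, ∃ v : localInt M, v ∈ I ^ N ∧ (v : ℂ) = (z ^ N).coeff g := by
    intro N
    induction N with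
    | zero =>
      intro g
      refine ⟨if g = 1 then 1 else 0, by simp, ?_⟩
      rw [pow_zero, MonoidAlgebra.one_def, coeff_single, Finsupp.single_apply]
      by_cases h : g = 1
      · simp [h]
      · simp [h, Ne.symm h]
    | succ N ih =>
      intro g
      choose v hv hv' using ih
      refine ⟨∑ x, v x * w (x⁻¹ * g), ?_, ?_⟩
      · rw [pow_succ]
        exact Ideal.sum_mem _ fun x _ => Ideal.mul_mem_mul (hv x)
          (Ideal.subset_span (Finset.mem_image.2 ⟨_, Finset.mem_univ _, rfl⟩))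
      · rw [pow_succ, coeff_mul_eq_sum]
        push_cast
        exact Finset.sum_congr rfl fun x _ => by rw [hv']
  refine ⟨L, fun N hN g => ?_⟩
  obtain ⟨v, hv, hv'⟩ := key N g
  rw [← hv', ← mem_paIdeal]
  exact hL (Ideal.pow_le_pow_right hN hv)

/-- Outside the block, high powers have small trace. -/
theorem exists_cong_chiL_zero_of_notMem (hpM : (p : AlgInt) ∈ M) {b : Set (IrrCharacter H)}
    (hb : IsPBlock M b) {y : MonoidAlgebra ℂ H} (hy : SCoeff M y)
    (hyb : redA M y * blkG M b = redA M y) (a : ℕ) :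
    ∃ L : ℕ, ∀ N, L ≤ N → ∀ ξ : IrrCharacter H, ξ ∉ b → Cong M p a (chiL ξ.1 (y ^ N)) 0 := by
  set f := blockIdem b
  have hfc : IsCentralElt f := isCentralElt_blockIdem b
  have hfS : SCoeff M f := scoeff_blockIdem hb
  set z := y - f * y with hz
  have hzS : SCoeff M z := hy.sub (hfS.mul hy)
  have hzM : MCoeff M z := by
    rw [← redA_eq_zero_iff hzS, hz, redA_sub hy (hfS.mul hy), redA_mul hfS hy,
      (isCentralElt_redA hfc).commute, sub_eq_zero]
    exact hyb.symm
  obtain ⟨L, hL⟩ := exists_pow_coeff_cong_zero hpM hzM a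
  refine ⟨L + 1, fun N hN ξ hξ => ?_⟩
  have hω : omega ξ.1 f = 0 := by rw [omega_blockIdem, if_neg hξ]
  have hfz : ∀ m, chiL ξ.1 ((y - f * y) ^ m) = chiL ξ.1 (y ^ m) := by
    intro m
    have h1 : ∃ r : MonoidAlgebra ℂ H, (y - f * y) ^ m = y ^ m + f * r := by
      induction m with
      | zero => exact ⟨0, by simp⟩
      | succ m ih =>
        obtain ⟨r, hr⟩ := ih
        refine ⟨r * y - y ^ m * y - f * r * y, ?_⟩
        rw [pow_succ, hr, pow_succ]
        have hcy : y ^ m * f = f * y ^ m := (hfc.commute (y ^ m)).symm.eq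
        have hcr : r * f = f * r := (hfc.commute r).symm.eq
        simp only [add_mul, mul_sub, ← mul_assoc, hcy]
        rw [mul_assoc f r f, hcr]
        simp only [mul_assoc]
        abel
    obtain ⟨r, hr⟩ := h1
    rw [hr, chiL_add, chiL_mul_of_central ξ hfc, hω, zero_mul, add_zero]
  rw [← hfz, ← hz, chiL_eq_sum]
  have : (0 : ℂ) = ∑ g : H, 0 * ξ.1 g := by simp
  rw [this]
  exact Cong.sum _ fun g _ => (hL N (by omega) g).mul_right
    (memLocalRing_char (Char.irr_isCharacter ξ) g)

end Group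

variable {G : Type u} [Group G] [Fintype G] {u : G}
  [Fintype (Subgroup.centralizer ({u} : Set G))]

theorem chiL_single_inclA (χ : G → ℂ) (z : MonoidAlgebra ℂ (Subgroup.centralizer ({u} : Set G))) :
    chiL χ (single u 1 * inclA (Subgroup.centralizer ({u} : Set G)) z) = chiL (secFun u χ) z := by
  rw [chiL_single_mul, ← chiL_eq_sum (fun g => χ (u * g)), chiL_inclA]
  rfl

/-- On a section with a block of rank one the traces of high powers are proportional to the
contributions. -/
theorem exists_cong_trace_rank_one (hpM : (p : AlgInt) ∈ M) {k : ℕ} (hu : orderOf u = p ^ k)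
    {b : Set (IrrCharacter (Subgroup.centralizer ({u} : Set G)))} (hb : IsPBlock M b)
    (hl : blockRank p b = 1) {y : MonoidAlgebra ℂ (Subgroup.centralizer ({u} : Set G))}
    (hy : SCoeff M y) (hyb : redA M y * blkG M b = redA M y) (a : ℕ) :
    ∃ n₀ : ℕ, ∀ n, n₀ ≤ n → ∀ χ ψ : IrrCharacter G,
      ((p ^ blockDefect p b : ℕ) : ℂ) * contribution p b ψ.1 ψ.1 = 1 →
      Cong M p a (chiL χ.1 (single u 1 * inclA (Subgroup.centralizer ({u} : Set G)) (y ^ p ^ n)))
        (((p ^ blockDefect p b : ℕ) : ℂ) * contribution p b χ.1 ψ.1 *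
          chiL ψ.1 (single u 1 * inclA (Subgroup.centralizer ({u} : Set G)) (y ^ p ^ n))) := by
  haveI := charP_residue hpM
  obtain ⟨φ, d, ⟨n', hn'⟩, hd, -⟩ := BrauerPairs.rank_one_data hpM hb hl
  set Φ : (Subgroup.centralizer ({u} : Set G)) → ℂ := fun s => ∑ ν ∈ Finset.univ.filter (· ∈ b), (n' ν : ℂ) * ν.1 s with hΦ
  have hΦreg : ∀ s : (Subgroup.centralizer ({u} : Set G)), IsPRegular p s → φ s = Φ s := fun s hs => by
    rw [hn' s hs, finsum_mem_eq_finite_toFinset_sum (fun ν : IrrCharacter (Subgroup.centralizer ({u} : Set G)) => (n' ν : ℂ) * ν.1 s) b.toFinite, hΦ]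
    exact Finset.sum_congr (by ext ν; simp) fun _ _ => rfl
  have hΦc : ∀ g h : (Subgroup.centralizer ({u} : Set G)), Φ (h * g * h⁻¹) = Φ g := fun g h => by
    simp only [hΦ, irr_classFun _ g h]
  have hΦS : ∀ g : (Subgroup.centralizer ({u} : Set G)), MemLocalRing M (Φ g) := fun g => MemLocalRing.sum _ fun ν _ =>
    MemLocalRing.mul (memLocalRing_intCast _) (memLocalRing_char (Char.irr_isCharacter ν) g)
  set r : ℂ := classInner (Char.regFun p Φ) (Char.regFun p Φ)
  have hregΦ : ∀ η ∈ b, Char.regFun p η.1 = (d η : ℂ) • Char.regFun p Φ := fun η hη => by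
    funext s
    simp only [Char.regFun, Pi.smul_apply, smul_eq_mul]
    split_ifs with hs
    · rw [mul_zero]
    · rw [hd η hη s hs, hΦreg s hs]
  have hdot : ∀ η ∈ b, ∀ η' ∈ b, regDot p η.1 η'.1 = (d η : ℂ) * d η' * r := by
    intro η hη η' hη'
    have h := BrauerPairs.classInner_regFun_right p (Char.regFun p η.1) η'.1
    rw [regDot, BrauerPairs.regFun_regFun] at h
    change _ = regDot p η.1 η'.1 at h
    rw [← h, hregΦ η hη, hregΦ η' hη', Char.classInner_smul_left, Char.classInner_smul_right,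
      map_natCast, mul_assoc]
  let L : (G → ℂ) → ℂ := fun χ =>
    ∑ η ∈ Finset.univ.filter (· ∈ b), classInner (secFun u χ) η.1 * d η
  have hcontr : ∀ χ ψ : IrrCharacter G,
      contribution p b χ.1 ψ.1 = conj r * L χ.1 * conj (L ψ.1) := by
    intro χ ψ
    have e1 : contribution p b χ.1 ψ.1 = ∑ η ∈ Finset.univ.filter (· ∈ b),
        ∑ η' ∈ Finset.univ.filter (· ∈ b),
          conj r * (classInner (secFun u χ.1) η.1 * (d η : ℂ)) *
            conj (classInner (secFun u ψ.1) η'.1 * (d η' : ℂ)) := by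
      refine Finset.sum_congr rfl fun η hη => ?_
      rw [regDot_secFun hpM hb ψ (Finset.mem_filter.1 hη).2, map_sum, Finset.mul_sum]
      refine Finset.sum_congr rfl fun η' hη' => ?_
      rw [hdot η' (Finset.mem_filter.1 hη').2 η (Finset.mem_filter.1 hη).2]
      simp only [map_mul, map_natCast]
      ring
    rw [e1]
    simp only [L, map_sum, Finset.mul_sum, Finset.sum_mul]
    rw [Finset.sum_comm]
  have hacoef : ∀ (χ : IrrCharacter G) (η : IrrCharacter (Subgroup.centralizer ({u} : Set G))),
      MemLocalRing M (classInner (secFun u χ.1) η.1) := by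
    intro χ η
    obtain ⟨m, hm⟩ := Char.IsCharacter.exists_nat_classInner
      (Char.IsCharacter.restrict (Char.irr_isCharacter χ) (Subgroup.centralizer ({u} : Set G))) (Char.irr_isCharacter η)
    rw [classInner_secFun, hm]
    exact MemLocalRing.mul (red_secScalar hpM hu η).1 (memLocalRing_natCast _)
  obtain ⟨L₀, hL₀⟩ := exists_cong_chiL_zero_of_notMem hpM hb hy hyb a
  refine ⟨L₀ + a + (Nat.card (Subgroup.centralizer ({u} : Set G))).factorization p, fun n hn χ ψ hψ => ?_⟩
  set N := p ^ n
  have hLN : L₀ ≤ N := le_trans (by omega) (Nat.lt_pow_self hp.out.one_lt).le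
  set ΦN := ∑ g, (y ^ N).coeff g * Φ g
  -- every trace is proportional to `ΦN`
  have hη : ∀ χ : IrrCharacter G,
      Cong M p a (chiL χ.1 (single u 1 * inclA (Subgroup.centralizer ({u} : Set G)) (y ^ N))) (L χ.1 * ΦN) := by
    intro χ
    rw [chiL_single_inclA, chiL_eq_sum,
      Char.eq_sum_classInner_smul (isClassFunction_secFun χ.1 (irr_classFun χ))]
    simp only [Finset.sum_apply, Pi.smul_apply, smul_eq_mul, Finset.mul_sum]
    rw [Finset.sum_comm]
    have hL : L χ.1 * ΦN = ∑ η : IrrCharacter (Subgroup.centralizer ({u} : Set G)),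
        classInner (secFun u χ.1) η.1 * if η ∈ b then (d η : ℂ) * ΦN else 0 := by
      simp only [L, Finset.sum_mul, mul_assoc, mul_ite, mul_zero]
      rw [Finset.sum_filter]
    rw [hL]
    refine Cong.sum _ fun η _ => ?_
    rw [show ∑ g, (y ^ N).coeff g * (classInner (secFun u χ.1) η.1 * η.1 g) =
        classInner (secFun u χ.1) η.1 * ∑ g, (y ^ N).coeff g * η.1 g by
      rw [Finset.mul_sum]; exact Finset.sum_congr rfl fun g _ => by ring]
    refine Cong.mul_left ?_ (hacoef χ η)
    split_ifs with hηb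
    · have h0 : Cong M p a (∑ g, (y ^ N).coeff g * (η.1 g - d η * Φ g)) 0 :=
        cong_sum_pow_zero (φ := fun g => η.1 g - (d η : ℂ) * Φ g) hy (fun g h => by rw [irr_classFun η g h, hΦc])
          (fun g => MemLocalRing.sub (memLocalRing_char (Char.irr_isCharacter η) g)
            (MemLocalRing.mul (memLocalRing_natCast _) (hΦS g)))
          (fun g hg => by rw [hd η hηb g hg, hΦreg g hg, sub_self]) (by omega)
      have e : ∑ g, (y ^ N).coeff g * η.1 g =
          ∑ g, (y ^ N).coeff g * (η.1 g - d η * Φ g) + (d η : ℂ) * ΦN := by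
        rw [Finset.mul_sum, ← Finset.sum_add_distrib]
        exact Finset.sum_congr rfl fun g _ => by ring
      rw [e]
      simpa using h0.add (Cong.refl a ((d η : ℂ) * ΦN))
    · rw [← chiL_eq_sum]
      exact hL₀ N hLN η hηb
  have hT : MemLocalRing M
      (((p ^ blockDefect p b : ℕ) : ℂ) * contribution p b χ.1 ψ.1) := by
    obtain ⟨μ, Z, hμ, hZ⟩ := exists_roots_combination (G := G) hpM hu hb
    rw [← hZ (χ, ψ)]
    exact MemLocalRing.sum _ fun i _ => MemLocalRing.mul (memLocalRing_intCast _)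
      (memLocalRing_of_isIntegral (IsIntegral.of_pow (pow_pos hp.out.pos k)
        (by rw [hμ]; exact isIntegral_one)))
  refine (hη χ).trans (Cong.trans (Cong.of_eq ?_) ((hη ψ).symm.mul_left hT))
  rw [hcontr] at hψ
  rw [hcontr]
  linear_combination (-(L χ.1 * ΦN)) * hψ

end Cfsg.Agent.Blocks.NilRank
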