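import Cfsg.Agent.Lib.Blocks.NilpotentRank.Pairs
import Mathlib.Analysis.SpecialFunctions.Log.Basic

/-!
# Normalized contributions along a maximal pair

`TT χ ψ u` is `p ^ d` times the contribution of the subsection at `u ∈ P` to `χ`, `ψ`. For a
nilpotent block they sum to `|P| ⟨χ, ψ⟩` over `P`, and for a height zero `χ₀` every `TT χ₀ χ₀ u`
is `1`.
-/

set_option autoImplicit false
set_option linter.unusedSectionVars false
set_option linter.style.haveILetI false

namespace Cfsg.Agent.Blocks.NilRank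

open Cfsg Blocks MonoidAlgebra
open Cfsg.Agent.BrauerPairs (blk blkG IsBlockIdem br regDot IsPairOf IsMax PLE IsPair
  IsNilpotentPairs isBlockIdem_blkG)
open scoped Classical ComplexConjugate

universe u

/-- A twisted family at `N - 1` is the conjugate of its value at `1`. -/
theorem IsTw.apply_pred {N : ℕ} (hN : N ≠ 0) {f : ℕ → ℂ} (hf : IsTw N f) :
    f (N - 1) = conj (f 1) := by
  obtain ⟨r, c, μ, hμ, hf⟩ := hf
  rw [hf, hf, map_sum]
  refine Finset.sum_congr rfl fun i _ => ?_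
  rw [map_mul, map_intCast, pow_one, ← Complex.inv_eq_conj (Complex.norm_eq_one_of_pow_eq_one (hμ i) hN)]
  congr 1
  refine eq_inv_of_mul_eq_one_left ?_
  rw [← pow_succ, Nat.sub_add_cancel (Nat.one_le_iff_ne_zero.2 hN), hμ]

variable {G : Type u} [Group G] [Fintype G] {M : Ideal AlgInt} [M.IsMaximal] {p : ℕ}
  [hp : Fact p.Prime] [CharP (AlgInt ⧸ M) p] {P : Subgroup G}
  {e : MonoidAlgebra (AlgInt ⧸ M) G} {B : Set (IrrCharacter G)} {u : G}

variable (M p) in
/-- `p ^ d` times the contribution of `(x, e)` in `H`. -/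
noncomputable def Tof (H : Subgroup G) (x : G) (e : MonoidAlgebra (AlgInt ⧸ M) G) (χ ψ : G → ℂ) :
    ℂ :=
  ((p ^ blockDefect p (blkSet M H e) : ℕ) : ℂ) * sectF p H x (blkSet M H e) χ ψ

variable (p) in
/-- The normalized contribution at `u ∈ P`. -/
noncomputable def TT (P : Subgroup G) (e : MonoidAlgebra (AlgInt ⧸ M) G) (χ ψ : G → ℂ) (u : G) : ℂ :=
  Tof M p (Subgroup.centralizer ({u} : Set G)) u (eU p P e u) χ ψ

theorem TT_eq_contribution (χ : IrrCharacter G) (ψ : G → ℂ) :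
    TT p P e χ.1 ψ u =
      ((p ^ blockDefect p (blkSet M (Subgroup.centralizer ({u} : Set G)) (eU p P e u)) : ℕ) : ℂ) *
        contribution p (blkSet M (Subgroup.centralizer ({u} : Set G)) (eU p P e u)) χ.1 ψ := by
  rw [TT, Tof, sectF_eq_contribution]

theorem ne_zero_card_mul : Nat.card P * p ≠ 0 :=
  mul_ne_zero Nat.card_pos.ne' hp.out.ne_zero

theorem pow_card_mul (hu : u ∈ P) : u ^ (Nat.card P * p) = 1 := by
  rw [pow_mul, show u ^ Nat.card P = 1 from
    congrArg Subtype.val (pow_card_eq_one' (x := (⟨u, hu⟩ : P))), one_pow]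

theorem zpowers_pow_of_not_dvd (hP : IsPGroup p P) (hu : u ∈ P) {t : ℕ} (ht : ¬ p ∣ t) :
    Subgroup.zpowers (u ^ t) = Subgroup.zpowers u := by
  obtain ⟨k, hk⟩ := exists_orderOf_mem hP hu
  refine le_antisymm (Subgroup.zpowers_le.2 (pow_mem (Subgroup.mem_zpowers u) t))
    (Subgroup.zpowers_le.2 ?_)
  have hcop : (orderOf u).Coprime t := hk ▸ ((hp.out.coprime_iff_not_dvd.2 ht).pow_left k)
  obtain ⟨m, hm⟩ := exists_pow_eq_self_of_coprime hcop.symm
  have h := pow_mem (Subgroup.mem_zpowers (u ^ t)) m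
  rwa [hm] at h

theorem TT_pow (ha : IsPair p (P, e)) (hu : u ∈ P) {t : ℕ} (ht : ¬ p ∣ t) (χ ψ : G → ℂ) :
    TT p P e χ ψ (u ^ t) =
      Tof M p (Subgroup.centralizer ({u} : Set G)) (u ^ t) (eU p P e u) χ ψ := by
  have h := zpowers_pow_of_not_dvd ha.1 hu ht
  rw [TT, eU_congr ha hu (pow_mem hu t) h, ← centralizer_zpowers_eq (x := u ^ t), h,
    centralizer_zpowers_eq (x := u)]

theorem isTw_Tof (hpM : (p : AlgInt) ∈ M) (ha : IsPair p (P, e)) (hu : u ∈ P)
    (χ ψ : IrrCharacter G) :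
    IsTw (Nat.card P * p)
      fun t => Tof M p (Subgroup.centralizer ({u} : Set G)) (u ^ t) (eU p P e u) χ.1 ψ.1 :=
  isTw_sectF hpM (Subgroup.mem_centralizer_singleton_iff.2 rfl)
    (fun _ hs => (Subgroup.mem_centralizer_singleton_iff.1 hs).symm)
    (blkSet_spec (isBlockIdem_eU ha hu)).1 χ ψ (pow_card_mul hu)

theorem conj_TT (hpM : (p : AlgInt) ∈ M) (ha : IsPair p (P, e)) (hu : u ∈ P)
    (χ ψ : IrrCharacter G) : conj (TT p P e χ.1 ψ.1 u) = TT p P e ψ.1 χ.1 u := by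
  rw [TT_eq_contribution, TT_eq_contribution, map_mul, map_natCast,
    conj_contribution hpM (blkSet_spec (isBlockIdem_eU ha hu)).1]

theorem not_dvd_card_mul_pred : ¬ p ∣ Nat.card P * p - 1 := by
  intro h
  have h2 := Nat.dvd_sub (dvd_mul_left p (Nat.card P)) h
  rw [Nat.sub_sub_self (Nat.one_le_iff_ne_zero.2 ne_zero_card_mul)] at h2
  exact hp.out.not_dvd_one h2

theorem TT_inv (hpM : (p : AlgInt) ∈ M) (ha : IsPair p (P, e)) (hu : u ∈ P)
    (χ ψ : IrrCharacter G) : TT p P e χ.1 ψ.1 u⁻¹ = conj (TT p P e χ.1 ψ.1 u) := by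
  have h1 : u ^ (Nat.card P * p - 1) = u⁻¹ := by
    refine eq_inv_of_mul_eq_one_left ?_
    rw [← pow_succ, Nat.sub_add_cancel (Nat.one_le_iff_ne_zero.2 ne_zero_card_mul), pow_card_mul hu]
  have h2 := IsTw.apply_pred ne_zero_card_mul (isTw_Tof hpM ha hu χ ψ)
  simp only [pow_one] at h2
  rw [← h1, TT_pow ha hu not_dvd_card_mul_pred, h2]
  rfl

theorem memLocalRing_TT (hpM : (p : AlgInt) ∈ M) (ha : IsPair p (P, e)) (hu : u ∈ P)
    (χ ψ : IrrCharacter G) : MemLocalRing M (TT p P e χ.1 ψ.1 u) := by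
  have h := IsTw.isIntegral ne_zero_card_mul (isTw_Tof hpM ha hu χ ψ) 1
  simp only [pow_one] at h
  exact memLocalRing_of_isIntegral h

/-- `Σ_{u ∈ P} TT χ ψ u = |P| ⟨χ, ψ⟩`. -/
theorem sum_TT (hpM : (p : AlgInt) ∈ M) (hB : IsPBlock M B) (ha : IsMax p (blkG M B) (P, e))
    (hnil : IsNilpotentPairs p (blkG M B)) {χ : IrrCharacter G} (hχ : χ ∈ B) (ψ : IrrCharacter G) :
    ∑ u : P, TT p P e χ.1 ψ.1 u = (Nat.card P : ℂ) * classInner χ.1 ψ.1 := by
  rw [card_mul_classInner hpM hB ha hnil hχ ψ]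
  refine Finset.sum_congr rfl fun u _ => ?_
  rw [TT, Tof, pow_blockDefect_eU hpM hB ha hnil u.2]

/-- Twisting by `t` permutes `P`. -/
theorem sum_pow_comp (hP : IsPGroup p P) {t : ℕ} (ht : ¬ p ∣ t) (f : P → ℂ) :
    ∑ u : P, f (u ^ t) = ∑ u, f u := by
  obtain ⟨k, hk⟩ := hP.exists_card_eq
  exact Fintype.sum_equiv
    (powCoprime (n := t) (by rw [hk]; exact (hp.out.coprime_iff_not_dvd.2 ht).pow_left k)) _ _
    fun _ => rfl

theorem prod_pow_comp (hP : IsPGroup p P) {t : ℕ} (ht : ¬ p ∣ t) (f : P → ℂ) :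
    ∏ u : P, f (u ^ t) = ∏ u, f u := by
  obtain ⟨k, hk⟩ := hP.exists_card_eq
  exact Fintype.prod_equiv
    (powCoprime (n := t) (by rw [hk]; exact (hp.out.coprime_iff_not_dvd.2 ht).pow_left k)) _ _
    fun _ => rfl

theorem TT_self_real (hpM : (p : AlgInt) ∈ M) (hB : IsPBlock M B)
    (ha : IsPairOf p (blkG M B) (P, e)) (hu : u ∈ P) {χ₀ : IrrCharacter G} (hχ₀ : χ₀ ∈ B)
    (hh : blockHeight p B χ₀.1 = 0) :
    ∃ r : ℝ, 0 < r ∧ TT p P e χ₀.1 χ₀.1 u = r := by
  obtain ⟨k, hk⟩ := exists_orderOf_mem ha.1.1 hu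
  have hb := isInducedBlock_eU hpM hB ha hu
  have hne := not_memLocalIdeal_contribution hpM hk hb hχ₀ hh hχ₀ hh
  set b := blkSet M (Subgroup.centralizer ({u} : Set G)) (eU p P e u)
  refine ⟨(p ^ blockDefect p b : ℕ) * ∑ ψ ∈ Finset.univ.filter (· ∈ B),
    Complex.normSq (contribution p b χ₀.1 ψ.1), ?_, ?_⟩
  · refine lt_of_le_of_ne (mul_nonneg (Nat.cast_nonneg _)
      (Finset.sum_nonneg fun ψ _ => Complex.normSq_nonneg _)) fun h => hne ?_
    have h' : ((p ^ blockDefect p b : ℕ) : ℂ) * contribution p b χ₀.1 χ₀.1 = ((0 : ℝ) : ℂ) := by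
      rw [h, ← sum_contribution_mul_conj hpM hk hb χ₀, Complex.ofReal_mul, Complex.ofReal_sum,
        Complex.ofReal_natCast]
      simp only [Complex.mul_conj]
    rw [h', Complex.ofReal_zero]
    exact memLocalIdeal_zero
  · rw [TT_eq_contribution, ← sum_contribution_mul_conj hpM hk hb χ₀, Complex.ofReal_mul,
      Complex.ofReal_sum, Complex.ofReal_natCast]
    simp only [Complex.mul_conj]
    rfl

/-- For a character of height zero every normalized contribution is `1`. -/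
theorem TT_self_eq_one (hpM : (p : AlgInt) ∈ M) (hB : IsPBlock M B)
    (ha : IsMax p (blkG M B) (P, e)) (hnil : IsNilpotentPairs p (blkG M B)) {χ₀ : IrrCharacter G}
    (hχ₀ : χ₀ ∈ B) (hh : blockHeight p B χ₀.1 = 0) (hu : u ∈ P) :
    TT p P e χ₀.1 χ₀.1 u = 1 := by
  choose r hr0 hr using fun v : P => TT_self_real hpM hB ha.1 v.2 hχ₀ hh
  -- the product is an integer
  let f : ℕ → ℂ := fun t => ∏ v : P,
    Tof M p (Subgroup.centralizer ({(v : G)} : Set G)) ((v : G) ^ t) (eU p P e v) χ₀.1 χ₀.1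
  have hf1 : f 1 = ((∏ v : P, r v : ℝ) : ℂ) := by
    rw [Complex.ofReal_prod]
    exact Finset.prod_congr rfl fun v _ => by rw [pow_one, ← hr]; rfl
  have hfinv : ∀ t, ¬ p ∣ t → f t = f 1 := fun t ht => by
    calc f t = ∏ v : P, TT p P e χ₀.1 χ₀.1 ((v ^ t : P) : G) :=
          Finset.prod_congr rfl fun v _ => (TT_pow ha.1.1 v.2 ht χ₀.1 χ₀.1).symm
      _ = ∏ v : P, TT p P e χ₀.1 χ₀.1 (v : G) :=
          prod_pow_comp ha.1.1.1 ht fun v : P => TT p P e χ₀.1 χ₀.1 (v : G)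
      _ = f 1 := Finset.prod_congr rfl fun v _ => by rw [pow_one]; rfl
  obtain ⟨k, hk⟩ := ha.1.1.1.exists_card_eq
  obtain ⟨z, hz⟩ := IsTw.exists_int (k := k) hp.out
    (by rw [← hk]; exact IsTw.prod _ fun v _ => isTw_Tof hpM ha.1.1 v.2 χ₀ χ₀) hfinv
  rw [hf1] at hz
  have hz' : (∏ v : P, r v : ℝ) = (z : ℝ) := by exact_mod_cast hz
  have hpos : 0 < ∏ v : P, r v := Finset.prod_pos fun v _ => hr0 v
  have hz1 : (1 : ℤ) ≤ z := by
    have : (0 : ℝ) < (z : ℝ) := hz' ▸ hpos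
    exact_mod_cast this
  have hlog : 0 ≤ ∑ v : P, Real.log (r v) := by
    rw [← Real.log_prod fun v _ => (hr0 v).ne', hz']
    exact Real.log_nonneg (by exact_mod_cast hz1)
  have hsum : ∑ v : P, (r v - 1) = 0 := by
    have h := sum_TT hpM hB ha hnil hχ₀ χ₀
    rw [Char.classInner_irr_self χ₀.2, mul_one, Finset.sum_congr rfl fun v _ => hr v] at h
    have h' : ∑ v : P, r v = (Nat.card P : ℝ) := by exact_mod_cast h
    rw [Finset.sum_sub_distrib, h', Finset.sum_const, Finset.card_univ, nsmul_one,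
      Nat.card_eq_fintype_card, sub_self]
  by_contra hne
  have hv : r ⟨u, hu⟩ ≠ 1 := fun h => hne (by rw [hr ⟨u, hu⟩, h, Complex.ofReal_one])
  have hlt : ∑ v : P, Real.log (r v) < ∑ v : P, (r v - 1) :=
    Finset.sum_lt_sum (fun v _ => Real.log_le_sub_one_of_pos (hr0 v))
      ⟨⟨u, hu⟩, Finset.mem_univ _, Real.log_lt_sub_one_of_pos (hr0 _) hv⟩
  linarith

/-! ### Central elements -/

/-- The scalar by which a central element acts. -/
noncomputable def zScal (χ : G → ℂ) (z : G) : ℂ := χ z / χ 1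

theorem apply_zmul (hz : Subgroup.centralizer ({u} : Set G) = ⊤) (χ : IrrCharacter G) (g : G) :
    χ.1 (u * g) = zScal χ.1 u * χ.1 g := by
  have hzc : IsCentralElt (MonoidAlgebra.single u (1 : ℂ)) := isCentralElt_iff_commute.2 fun a => by
    show _ * _ = _ * _
    have h : a ∈ Subgroup.centralizer ({u} : Set G) := hz ▸ Subgroup.mem_top a
    rw [single_mul_single, single_mul_single, Subgroup.mem_centralizer_singleton_iff.1 h]
  have := chiL_mul_of_central χ hzc (MonoidAlgebra.single g 1)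
  simpa [MonoidAlgebra.single_mul_single, chiL_single, Blocks.omega, zScal] using this

theorem blkSet_eU_central (hpM : (p : AlgInt) ∈ M) (hB : IsPBlock M B)
    (ha : IsPairOf p (blkG M B) (P, e)) (hu : u ∈ P)
    (hz : Subgroup.centralizer ({u} : Set G) = ⊤) :
    inducingSet M (Subgroup.centralizer ({u} : Set G)) B =
      blkSet M (Subgroup.centralizer ({u} : Set G)) (eU p P e u) := by
  have hBi := isBlockIdem_blkG hB
  have hbr : br (Subgroup.zpowers u) (blkG M B) = blkG M B :=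
    BrauerPairs.br_eq_self fun g hg => absurd (by
      rw [centralizer_zpowers_eq, hz]; exact Subgroup.mem_top g) hg
  have heq : ∀ f, IsBlockIdem (Subgroup.centralizer ({u} : Set G)) f → blkG M B * f = f →
      f = blkG M B := fun f hf h =>
    (BrauerPairs.IsBlockIdem.eq_of_mul_ne_zero (hz ▸ hf) hBi (by rw [h]; exact hf.ne_zero))
  have he : eU p P e u = blkG M B := by
    refine heq _ (isBlockIdem_eU ha.1 hu) ?_
    have h := (isPairOf_eU hBi ha hu).2
    rwa [hbr] at h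
  ext η
  have hη := BrauerPairs.isPBlock_blockOf (M := M) η
  show IsInducedBlock M _ (blockOf M η.1) B ↔ blk M _ (blockOf M η.1) = eU p P e u
  rw [isInducedBlock_centralizer_iff hpM (exists_orderOf_mem ha.1.1 hu) hB hη, hbr, he]
  exact ⟨heq _ (BrauerPairs.isBlockIdem_blk _ hη), fun h => by rw [h, BrauerPairs.blkG_mul_self hB]⟩

theorem TT_central (hpM : (p : AlgInt) ∈ M) (hB : IsPBlock M B)
    (ha : IsMax p (blkG M B) (P, e)) (hnil : IsNilpotentPairs p (blkG M B)) (hu : u ∈ P)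
    (hz : Subgroup.centralizer ({u} : Set G) = ⊤) {χ : IrrCharacter G} (hχ : χ ∈ B)
    (ψ : IrrCharacter G) :
    TT p P e χ.1 ψ.1 u =
      zScal χ.1 u * conj (zScal ψ.1 u) * ((Nat.card P : ℂ) * regDot p χ.1 ψ.1) := by
  set C := Subgroup.centralizer ({u} : Set G) with hC
  have hd := pow_blockDefect_eU hpM hB ha hnil hu
  rw [show Nat.card (P ⊓ Subgroup.centralizer ({u} : Set G) : Subgroup G) = Nat.card P by
    rw [← hC, hz, inf_top_eq]] at hd
  have hcard : Nat.card C = Nat.card G :=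
    Nat.card_congr ((MulEquiv.subgroupCongr hz).trans Subgroup.topEquiv).toEquiv
  have hsect : sectF p C u (blkSet M C (eU p P e u)) χ.1 ψ.1 =
      zScal χ.1 u * conj (zScal ψ.1 u) * regDot p χ.1 ψ.1 := by
    rw [← blkSet_eU_central hpM hB ha.1 hu hz, sectF, finsum_eq_sum_of_fintype, regDot, classInner,
      hcard, mul_left_comm (_ * conj _)]
    congr 1
    rw [Finset.mul_sum]
    refine Fintype.sum_equiv (MulEquiv.subgroupCongr hz |>.trans Subgroup.topEquiv).toEquiv _ _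
      fun s => ?_
    show _ = zScal χ.1 u * conj (zScal ψ.1 u) * (Char.regFun p χ.1 (s : G) * conj (ψ.1 (s : G)))
    by_cases hs : IsPRegular p s
    · have hs' : ¬ p ∣ orderOf (s : G) := by rw [Subgroup.orderOf_coe]; exact hs
      have hg : IsPPart p (u * (s : G)) u :=
        isPPart_mul (Subgroup.mem_centralizer_singleton_iff.1 s.2).symm
          (exists_orderOf_mem ha.1.1.1 hu) hs'
      have h := chiL_inducingSet hpM (exists_orderOf_mem ha.1.1.1 hu) hB χ
        (g := (⟨u * (s : G), mul_mem (Subgroup.mem_centralizer_singleton_iff.2 rfl) s.2⟩ :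
          Subgroup.centralizer ({u} : Set G))) hg
      rw [if_pos hχ] at h
      rw [if_pos hs, h, Char.regFun, if_neg hs', apply_zmul hz, apply_zmul hz, map_mul]
      ring
    · have hs' : p ∣ orderOf (s : G) := by rw [Subgroup.orderOf_coe]; exact not_not.1 hs
      rw [if_neg hs, Char.regFun, if_pos hs', zero_mul, mul_zero]
  rw [TT, Tof, hd, hsect]
  ring

end Cfsg.Agent.Blocks.NilRank
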