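import Cfsg.Agent.Lib.Char.PRegular

/-!
# Twisted families of integral combinations of `p`-power roots of unity

A family `t ↦ Σ c_i μ_i ^ t` whose twists prime to `p` all agree has an integral value at `1`.
-/

set_option autoImplicit false
set_option linter.unusedSectionVars false

namespace Cfsg.Agent.Blocks.NilRank

open Cfsg

/-- A twisted family of integral combinations of `N`-th roots of unity. -/
def IsTw (N : ℕ) (f : ℕ → ℂ) : Prop :=
  ∃ (r : ℕ) (c : Fin r → ℤ) (μ : Fin r → ℂ), (∀ i, μ i ^ N = 1) ∧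
    ∀ t, f t = ∑ i, (c i : ℂ) * μ i ^ t

theorem IsTw.of_fintype {N : ℕ} {f : ℕ → ℂ} {ι : Type*} [Fintype ι] (c : ι → ℤ) (μ : ι → ℂ)
    (hμ : ∀ i, μ i ^ N = 1) (h : ∀ t, f t = ∑ i, (c i : ℂ) * μ i ^ t) : IsTw N f := by
  refine ⟨Fintype.card ι, c ∘ (Fintype.equivFin ι).symm, μ ∘ (Fintype.equivFin ι).symm,
    fun i => hμ _, fun t => ?_⟩
  rw [h, ← (Fintype.equivFin ι).symm.sum_comp]
  rfl

theorem IsTw.mul {N : ℕ} {f g : ℕ → ℂ} (hf : IsTw N f) (hg : IsTw N g) :
    IsTw N (fun t => f t * g t) := by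
  obtain ⟨r, c, μ, hμ, hf⟩ := hf
  obtain ⟨r', c', μ', hμ', hg⟩ := hg
  refine IsTw.of_fintype (fun q : Fin r × Fin r' => c q.1 * c' q.2)
    (fun q => μ q.1 * μ' q.2) (fun q => by rw [mul_pow, hμ, hμ', one_mul]) fun t => ?_
  rw [hf, hg, Finset.sum_mul_sum, Fintype.sum_prod_type]
  refine Finset.sum_congr rfl fun i _ => Finset.sum_congr rfl fun j _ => ?_
  push_cast
  rw [mul_pow]
  ring

theorem IsTw.intCast {N : ℕ} (z : ℤ) : IsTw N (fun _ => (z : ℂ)) :=
  IsTw.of_fintype (fun _ : Unit => z) (fun _ => 1) (fun _ => one_pow _) fun t => by simp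

theorem IsTw.prod {N : ℕ} {ι : Type*} (s : Finset ι) {f : ι → ℕ → ℂ}
    (h : ∀ i ∈ s, IsTw N (f i)) : IsTw N (fun t => ∏ i ∈ s, f i t) := by
  classical
  induction s using Finset.induction_on with
  | empty => simpa using IsTw.intCast (N := N) 1
  | insert a s ha ih =>
    simp only [Finset.prod_insert ha]
    exact IsTw.mul (h a (Finset.mem_insert_self _ _))
      (ih fun i hi => h i (Finset.mem_insert_of_mem hi))

theorem IsTw.sum {N : ℕ} {ι : Type*} [Fintype ι] {f : ι → ℕ → ℂ} (h : ∀ i, IsTw N (f i)) :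
    IsTw N (fun t => ∑ i, f i t) := by
  choose r c μ hμ hf using h
  refine IsTw.of_fintype (fun q : Σ i, Fin (r i) => c q.1 q.2) (fun q => μ q.1 q.2)
    (fun q => hμ _ _) fun t => ?_
  rw [Fintype.sum_sigma]
  exact Finset.sum_congr rfl fun i _ => hf i t

theorem IsTw.comp_mul {N : ℕ} {f : ℕ → ℂ} (hf : IsTw N f) (s : ℕ) :
    IsTw N (fun t => f (s * t)) := by
  obtain ⟨r, c, μ, hμ, hf⟩ := hf
  refine ⟨r, c, fun i => μ i ^ s, fun i => by rw [← pow_mul, mul_comm, pow_mul, hμ, one_pow],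
    fun t => ?_⟩
  show f (s * t) = _
  rw [hf]
  exact Finset.sum_congr rfl fun i _ => by rw [pow_mul]

theorem IsTw.isIntegral {N : ℕ} (hN : N ≠ 0) {f : ℕ → ℂ} (hf : IsTw N f) (t : ℕ) :
    IsIntegral ℤ (f t) := by
  obtain ⟨r, c, μ, hμ, hf⟩ := hf
  rw [hf]
  refine IsIntegral.sum _ fun i _ => IsIntegral.mul ?_ (IsIntegral.pow ?_ t)
  · exact isIntegral_algebraMap (R := ℤ) (x := c i)
  · exact IsIntegral.of_pow (Nat.pos_of_ne_zero hN) (by rw [hμ]; exact isIntegral_one)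

theorem sum_range_pow_root {N : ℕ} {r : ℂ} (hr : r ^ N = 1) :
    ∑ t ∈ Finset.range N, r ^ t = if r = 1 then (N : ℂ) else 0 := by
  split_ifs with h
  · simp [h]
  · rw [geom_sum_eq h, hr, sub_self, zero_div]

theorem sum_not_dvd_range {p : ℕ} (hp : p.Prime) (N' : ℕ) (F : ℕ → ℂ) :
    ∑ t ∈ (Finset.range (N' * p)).filter (fun t => ¬ p ∣ t), F t =
      ∑ t ∈ Finset.range (N' * p), F t - ∑ t ∈ Finset.range N', F (p * t) := by
  rw [← Finset.sum_filter_add_sum_filter_not (Finset.range (N' * p)) (fun t => p ∣ t),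
    show (Finset.range (N' * p)).filter (fun t => p ∣ t) = (Finset.range N').image (p * ·) by
      ext t
      simp only [Finset.mem_filter, Finset.mem_range, Finset.mem_image]
      constructor
      · rintro ⟨ht, j, rfl⟩
        exact ⟨j, (Nat.mul_lt_mul_left hp.pos).1 (by rw [mul_comm p N']; exact ht), rfl⟩
      · rintro ⟨j, hj, rfl⟩
        exact ⟨by rw [mul_comm N' p]; exact (Nat.mul_lt_mul_left hp.pos).2 hj, dvd_mul_right _ _⟩,
    Finset.sum_image (fun a _ b _ h => mul_left_cancel₀ hp.ne_zero h)]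
  ring

/-- A family with equal twists prime to `p` has an integral value. -/
theorem IsTw.exists_int {p k : ℕ} (hp : p.Prime) {f : ℕ → ℂ} (hf : IsTw (p ^ k * p) f)
    (h : ∀ t, ¬ p ∣ t → f t = f 1) : ∃ z : ℤ, f 1 = z := by
  classical
  have hint := IsTw.isIntegral (mul_ne_zero (pow_ne_zero k hp.ne_zero) hp.ne_zero) hf 1
  obtain ⟨r, c, μ, hμ, hfe⟩ := hf
  set U := (Finset.range (p ^ k * p)).filter (fun t => ¬ p ∣ t) with hU
  have h1 : (U.card : ℂ) * f 1 = ∑ i, (c i : ℂ) *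
      ((if μ i = 1 then ((p ^ k * p : ℕ) : ℂ) else 0) - if μ i ^ p = 1 then ((p ^ k : ℕ) : ℂ) else 0) := by
    rw [← nsmul_eq_mul, ← Finset.sum_const]
    rw [Finset.sum_congr rfl fun t ht => (h t (Finset.mem_filter.1 ht).2).symm.trans (hfe t),
      Finset.sum_comm]
    refine Finset.sum_congr rfl fun i _ => ?_
    rw [← Finset.mul_sum, sum_not_dvd_range hp, sum_range_pow_root (hμ i)]
    congr 2
    rw [Finset.sum_congr rfl fun t _ => pow_mul (μ i) p t,
      sum_range_pow_root (by rw [← pow_mul, mul_comm, hμ])]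
  refine Char.exists_int_of_isIntegral_mul (c := (U.card : ℤ))
    (N := ∑ i, c i * ((if μ i = 1 then ((p ^ k * p : ℕ) : ℤ) else 0) -
      if μ i ^ p = 1 then ((p ^ k : ℕ) : ℤ) else 0)) hint ?_ ?_
  · refine Int.natCast_ne_zero.2 (Finset.card_ne_zero.2 ⟨1, Finset.mem_filter.2
      ⟨Finset.mem_range.2 ?_, hp.not_dvd_one⟩⟩)
    exact lt_of_lt_of_le hp.one_lt (Nat.le_mul_of_pos_left p (pow_pos hp.pos k))
  · rw [Int.cast_natCast, h1]
    push_cast [apply_ite (Int.cast : ℤ → ℂ)]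
    rfl

end Cfsg.Agent.Blocks.NilRank
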