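import Cfsg.Agent.Lib.Blocks.Contribution
import Cfsg.Agent.Lib.Blocks.SecondMain
import Cfsg.Agent.Lib.Blocks.NilpotentRank.Twist
import Cfsg.Agent.Lib.BrauerPairs.Bridge
import Cfsg.Agent.Lib.Char.HeightZeroInduced

/-!
# Contributions of subsections, indexed by pairs

`sectF p H x b χ ψ` is the contribution of `(x, b)` for `x` central in `H`, written so that it can
be transported by conjugation and twisted by `x ↦ x ^ t`. The inner product of two characters of
`B` is the sum of the contributions over all pairs `(⟨x⟩, e)` of `B`.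
-/

set_option autoImplicit false
set_option linter.unusedSectionVars false
set_option linter.style.haveILetI false

namespace Cfsg.Agent.Blocks.NilRank

open Cfsg Blocks MonoidAlgebra
open Cfsg.Agent.BrauerPairs (blk blkG regDot regDot_comm regDot_eq_zero IsBlockIdem br incl)
open scoped Classical ComplexConjugate

universe u

variable {G : Type u} [Group G] [Fintype G] {M : Ideal AlgInt} [M.IsMaximal] {p : ℕ}
  [hp : Fact p.Prime]

/-! ### Blocks named by their idempotents -/

variable (M) in
/-- The characters of `H` whose block has the idempotent `e`. -/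
def blkSet (H : Subgroup G) (e : MonoidAlgebra (AlgInt ⧸ M) G) : Set (IrrCharacter H) :=
  {ξ | blk M H (blockOf M ξ.1) = e}

theorem blkSet_blk {H : Subgroup G} {b : Set (IrrCharacter H)} (hb : IsPBlock M b) :
    blkSet M H (blk M H b) = b := by
  ext ξ
  constructor
  · intro h
    rw [← BrauerPairs.blk_injective H (BrauerPairs.isPBlock_blockOf ξ) hb h]
    exact BrauerPairs.mem_blockOf_self ξ
  · intro h
    show blk M H (blockOf M ξ.1) = blk M H b
    rw [← block_eq hb h]

theorem blkSet_spec {H : Subgroup G} {e : MonoidAlgebra (AlgInt ⧸ M) G} (he : IsBlockIdem H e) :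
    IsPBlock M (blkSet M H e) ∧ blk M H (blkSet M H e) = e := by
  obtain ⟨b, hb, rfl⟩ := BrauerPairs.exists_eq_blk H he
  rw [blkSet_blk hb]
  exact ⟨hb, rfl⟩

/-! ### The contribution of a central element -/

variable {H : Subgroup G} {x : G}

/-- The scalar by which `x` acts. -/
noncomputable def xScal (x : G) (η : IrrCharacter H) : ℂ :=
  (if h : x ∈ H then η.1 ⟨x, h⟩ else 0) / η.1 1

theorem apply_xmul (hxH : x ∈ H) (hxc : ∀ s ∈ H, Commute x s) (η : IrrCharacter H) (s : H) :
    η.1 (⟨x, hxH⟩ * s) = xScal x η * η.1 s := by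
  have hc : IsCentralElt (MonoidAlgebra.single (⟨x, hxH⟩ : H) (1 : ℂ)) :=
    isCentralElt_iff_commute.2 fun a => by
      show _ * _ = _ * _
      rw [single_mul_single, single_mul_single, show (⟨x, hxH⟩ : H) * a = a * ⟨x, hxH⟩ from
        Subtype.ext (hxc a a.2).eq]
  have := chiL_mul_of_central η hc (MonoidAlgebra.single s 1)
  simpa [MonoidAlgebra.single_mul_single, chiL_single, Blocks.omega, xScal, hxH] using this

theorem xScal_pow (hxH : x ∈ H) (hxc : ∀ s ∈ H, Commute x s) (η : IrrCharacter H) :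
    ∀ t : ℕ, xScal (x ^ t) η = xScal x η ^ t
  | 0 => by
    simp only [pow_zero, xScal, dif_pos (one_mem H)]
    rw [show (⟨1, one_mem H⟩ : H) = 1 from rfl, div_self (irr_one_ne_zero η)]
  | t + 1 => by
    rw [pow_succ' (xScal x η), ← xScal_pow hxH hxc η t]
    simp only [xScal, dif_pos (pow_mem hxH _), dif_pos hxH]
    rw [show (⟨x ^ (t + 1), pow_mem hxH _⟩ : H) = ⟨x, hxH⟩ * ⟨x ^ t, pow_mem hxH t⟩ from
      Subtype.ext (pow_succ' x t), apply_xmul hxH hxc η]
    simp only [xScal, dif_pos hxH]
    rw [mul_div_assoc]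

theorem xScal_root (hxH : x ∈ H) (hxc : ∀ s ∈ H, Commute x s) (η : IrrCharacter H) {N : ℕ}
    (hN : x ^ N = 1) : xScal x η ^ N = 1 := by
  rw [← xScal_pow hxH hxc, hN, xScal, dif_pos (one_mem H),
    show (⟨1, one_mem H⟩ : H) = 1 from rfl, div_self (irr_one_ne_zero η)]

variable [Fintype H]

/-- The translate of `χ` by `x` on `H`. -/
def transFun (x : G) (χ : G → ℂ) : H → ℂ := fun s => χ (x * (s : G))

theorem isClassFunction_transFun (hxc : ∀ s ∈ H, Commute x s) {χ : G → ℂ}
    (hχ : IsClassFunction G χ) : IsClassFunction H (transFun (H := H) x χ) := fun c a => by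
  show χ (x * ((a : G) * c * (a : G)⁻¹)) = χ (x * c)
  rw [← hχ (x * c) a, ← mul_assoc, ← mul_assoc, (hxc a a.2).eq]
  group

theorem classInner_transFun (hxH : x ∈ H) (hxc : ∀ s ∈ H, Commute x s) (χ : IrrCharacter G)
    (η : IrrCharacter H) :
    classInner (transFun x χ.1) η.1 = xScal x η * classInner (fun s : H => χ.1 s) η.1 := by
  have hr := Char.IsCharacter.restrict (Char.irr_isCharacter χ) H
  have h1 : transFun (H := H) x χ.1 =
      ∑ ν : IrrCharacter H, (classInner (fun s : H => χ.1 s) ν.1 * xScal x ν) • ν.1 := by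
    funext s
    have h := congrFun (Char.eq_sum_classInner_smul (Char.IsCharacter.isClassFunction hr))
      (⟨x, hxH⟩ * s)
    refine h.trans ?_
    simp only [Finset.sum_apply, Pi.smul_apply, smul_eq_mul, apply_xmul hxH hxc]
    exact Finset.sum_congr rfl fun ν _ => by ring
  rw [h1, Char.classInner_sum_left, Finset.sum_eq_single η]
  · rw [Char.classInner_smul_left, Char.classInner_irr, if_pos rfl, mul_one, mul_comm]
  · intro ν _ hν
    rw [Char.classInner_smul_left, Char.classInner_irr, if_neg hν, mul_zero]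
  · exact fun h => absurd (Finset.mem_univ _) h

/-- The contribution of `(x, b)` to `χ`, `ψ`. -/
noncomputable def sectF (p : ℕ) (H : Subgroup G) (x : G) (b : Set (IrrCharacter H)) (χ ψ : G → ℂ) :
    ℂ :=
  (Nat.card H : ℂ)⁻¹ * ∑ᶠ s : H, if IsPRegular p s then
    chiL χ (inclA H (blockIdem b) * single (x * (s : G)) 1) * conj (ψ (x * (s : G))) else 0

theorem chiL_block_translate (hxH : x ∈ H) (hxc : ∀ s ∈ H, Commute x s) (b : Set (IrrCharacter H))
    (χ : IrrCharacter G) (s : H) :
    chiL χ.1 (inclA H (blockIdem b) * single (x * (s : G)) 1) =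
      ∑ η ∈ Finset.univ.filter (· ∈ b), classInner (transFun x χ.1) η.1 * η.1 s := by
  have h := sum_mul_blockCoeff (isClassFunction_transFun hxc (irr_classFun χ)) b s
  have h' : ∑ c : H, transFun x χ.1 c * blockCoeff b (c * s⁻¹) =
      ∑ c : H, (blockIdem b).coeff c * χ.1 ((c : G) * ((⟨x, hxH⟩ * s : H) : G)) := by
    refine (Fintype.sum_equiv (Equiv.mulRight s) _ _ fun c => ?_).symm
    simp only [Equiv.coe_mulRight, coeff_blockIdem, mul_inv_cancel_right]
    rw [mul_comm]
    congr 1
    show χ.1 ((c : G) * (x * s)) = χ.1 (x * ((c : G) * s))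
    rw [← mul_assoc x, (hxc c c.2).eq, mul_assoc]
  rw [show x * (s : G) = ((⟨x, hxH⟩ * s : H) : G) from rfl, chiL_inclA_mul_single, ← h', h,
    Char.blockPart_apply]

theorem sectF_eq (hxH : x ∈ H) (hxc : ∀ s ∈ H, Commute x s) (b : Set (IrrCharacter H))
    (χ : IrrCharacter G) (ψ : G → ℂ) :
    sectF p H x b χ.1 ψ = ∑ η ∈ Finset.univ.filter (· ∈ b),
      classInner (transFun x χ.1) η.1 * conj (regDot p (transFun x ψ) η.1) := by
  rw [sectF, finsum_eq_sum_of_fintype, Finset.mul_sum]
  simp only [regDot, classInner, map_mul, map_sum, map_inv₀, map_natCast, Complex.conj_conj,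
    Finset.mul_sum]
  rw [Finset.sum_comm]
  refine Finset.sum_congr rfl fun s _ => ?_
  by_cases hs : IsPRegular p s
  · have hs' : ¬ p ∣ orderOf s := hs
    rw [if_pos hs, chiL_block_translate hxH hxc, Finset.sum_mul, Finset.mul_sum]
    refine Finset.sum_congr rfl fun η _ => ?_
    simp only [Char.regFun, if_neg hs', transFun, classInner, Finset.mul_sum, Finset.sum_mul]
    exact Finset.sum_congr rfl fun s' _ => by ring
  · have hs' : p ∣ orderOf s := not_not.1 hs
    rw [if_neg hs, mul_zero]
    exact (Finset.sum_eq_zero fun η _ => by simp [Char.regFun, hs']).symm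

theorem sectF_eq_double (hpM : (p : AlgInt) ∈ M) (hxH : x ∈ H) (hxc : ∀ s ∈ H, Commute x s)
    {b : Set (IrrCharacter H)} (hb : IsPBlock M b) (χ ψ : IrrCharacter G) :
    sectF p H x b χ.1 ψ.1 = ∑ η ∈ Finset.univ.filter (· ∈ b), ∑ η' ∈ Finset.univ.filter (· ∈ b),
      xScal x η * conj (xScal x η') *
        (classInner (fun s : H => χ.1 s) η.1 * conj (classInner (fun s : H => ψ.1 s) η'.1) *
          conj (regDot p η'.1 η.1)) := by
  rw [sectF_eq hxH hxc]
  refine Finset.sum_congr rfl fun η hη => ?_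
  have hreg : regDot p (transFun (H := H) x ψ.1) η.1 = ∑ η' ∈ Finset.univ.filter (· ∈ b),
      classInner (transFun x ψ.1) η'.1 * regDot p η'.1 η.1 := by
    conv_lhs => rw [regDot, Char.eq_sum_classInner_smul
      (isClassFunction_transFun hxc (irr_classFun ψ)), BrauerPairs.regFun_sum,
      Char.classInner_sum_left]
    simp only [Char.classInner_smul_left]
    refine (Finset.sum_filter_of_ne fun ν _ hne => ?_).symm
    by_contra hν
    refine hne ?_
    show _ * regDot p ν.1 η.1 = 0
    rw [regDot_comm hp.out, regDot_eq_zero hpM hp.out hb (Finset.mem_filter.1 hη).2 hν, mul_zero]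
  rw [hreg, map_sum, Finset.mul_sum]
  refine Finset.sum_congr rfl fun η' _ => ?_
  rw [classInner_transFun hxH hxc, classInner_transFun hxH hxc, map_mul, map_mul]
  ring

/-- `t ↦ p ^ d` times the contribution of `(x ^ t, b)` is a twisted family. -/
theorem isTw_sectF (hpM : (p : AlgInt) ∈ M) (hxH : x ∈ H) (hxc : ∀ s ∈ H, Commute x s)
    {b : Set (IrrCharacter H)} (hb : IsPBlock M b) (χ ψ : IrrCharacter G) {N : ℕ} (hN : x ^ N = 1) :
    IsTw N fun t => ((p ^ blockDefect p b : ℕ) : ℂ) * sectF p H (x ^ t) b χ.1 ψ.1 := by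
  choose m hm using fun (φ : IrrCharacter G) (η : IrrCharacter H) =>
    Char.IsCharacter.exists_nat_classInner (Char.IsCharacter.restrict (Char.irr_isCharacter φ) H)
      (Char.irr_isCharacter η)
  choose! c hc using fun η (hη : η ∈ b) => BrauerPairs.exists_int_regDot hpM hp.out hb hη
  let T := {η : IrrCharacter H // η ∈ b}
  refine IsTw.of_fintype (fun q : T × T => (m χ q.1.1 : ℤ) * m ψ q.2.1 * c q.2.1 q.1.1)
    (fun q => xScal x q.1.1 * conj (xScal x q.2.1))
    (fun q => by rw [mul_pow, ← map_pow, xScal_root hxH hxc _ hN, xScal_root hxH hxc _ hN, map_one,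
      mul_one]) fun t => ?_
  rw [sectF_eq_double hpM (pow_mem hxH t) (fun s hs => (hxc s hs).pow_left t) hb,
    Fintype.sum_prod_type, Finset.mul_sum, Finset.sum_subtype (Finset.univ.filter (· ∈ b))
      (p := (· ∈ b)) (by simp)]
  refine Finset.sum_congr rfl fun η _ => ?_
  rw [Finset.mul_sum, Finset.sum_subtype (Finset.univ.filter (· ∈ b)) (p := (· ∈ b)) (by simp)]
  refine Finset.sum_congr rfl fun η' _ => ?_
  rw [xScal_pow hxH hxc, xScal_pow hxH hxc, hm, hm, map_natCast, conj_regDot_irr, mul_pow, map_pow]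
  push_cast
  rw [← hc η'.1 η'.2 η.1]
  push_cast
  ring

omit [Fintype H] in
theorem sectF_eq_contribution {x : G} [Fintype (Subgroup.centralizer ({x} : Set G))]
    (b : Set (IrrCharacter (Subgroup.centralizer ({x} : Set G)))) (χ : IrrCharacter G) (ψ : G → ℂ) :
    sectF p (Subgroup.centralizer ({x} : Set G)) x b χ.1 ψ = contribution p b χ.1 ψ := by
  rw [sectF_eq (Subgroup.mem_centralizer_singleton_iff.2 rfl)
    (fun s hs => (Subgroup.mem_centralizer_singleton_iff.1 hs).symm)]
  rfl

/-! ### Conjugation -/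

omit [Fintype H] in
theorem sectF_conj (g : G) {H' : Subgroup G} (hH : ∀ c, c ∈ H' ↔ g⁻¹ * c * g ∈ H)
    (b : Set (IrrCharacter H)) (χ ψ : IrrCharacter G) :
    sectF p H' (g * x * g⁻¹) (BrauerPairs.mapBlock (BrauerPairs.conjIso g hH) b) χ.1 ψ.1 =
      sectF p H x b χ.1 ψ.1 := by
  haveI := Fintype.ofFinite H
  haveI := Fintype.ofFinite H'
  unfold sectF
  rw [Nat.card_congr (BrauerPairs.conjIso g hH).toEquiv, finsum_eq_sum_of_fintype,
    finsum_eq_sum_of_fintype]
  congr 1
  refine Fintype.sum_equiv (BrauerPairs.conjIso g hH).toEquiv _ _ fun c => ?_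
  set e := BrauerPairs.conjIso g hH with he
  have hreg : IsPRegular p c ↔ IsPRegular p (e c) := by
    simp only [IsPRegular, MulEquiv.orderOf_eq]
  have hec : ((e c : H) : G) = g⁻¹ * (c : G) * g := rfl
  refine if_congr hreg ?_ rfl
  have harg : g * x * g⁻¹ * (c : G) = g * (x * ((e c : H) : G)) * g⁻¹ := by rw [hec]; group
  congr 1
  · rw [chiL_mul_single, chiL_mul_single]
    refine Fintype.sum_equiv (MulAut.conj g⁻¹).toEquiv _ _ fun y => ?_
    have hy : ((MulAut.conj g⁻¹).toEquiv y : G) = g⁻¹ * y * g := by simp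
    rw [hy]
    congr 1
    · by_cases hyH : y ∈ H'
      · rw [show y = ((⟨y, hyH⟩ : H') : G) from rfl, coeff_inclA, coeff_blockIdem,
          BrauerPairs.blockCoeff_mapBlock,
          show g⁻¹ * ((⟨y, hyH⟩ : H') : G) * g = ((e ⟨y, hyH⟩ : H) : G) from rfl, coeff_inclA,
          coeff_blockIdem]
      · rw [coeff_inclA_of_notMem _ hyH, coeff_inclA_of_notMem _ (mt (hH y).2 hyH)]
    · show χ.1 (y * (g * x * g⁻¹ * (c : G))) = χ.1 (g⁻¹ * y * g * (x * ((e c : H) : G)))
      rw [harg, ← Char.IsCharacter.isClassFunction (Char.irr_isCharacter χ)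
        (g⁻¹ * y * g * (x * ((e c : H) : G))) g]
      congr 1
      group
  · show conj (ψ.1 (g * x * g⁻¹ * (c : G))) = conj (ψ.1 (x * ((e c : H) : G)))
    rw [harg, Char.IsCharacter.isClassFunction (Char.irr_isCharacter ψ)]

/-! ### Induction of blocks from centralizers of `p`-elements -/

omit [Fintype H] in
variable [CharP (AlgInt ⧸ M) p] in
theorem isInducedBlock_centralizer_iff (hpM : (p : AlgInt) ∈ M) {x : G}
    (hx : ∃ k, orderOf x = p ^ k) {B : Set (IrrCharacter G)} (hB : IsPBlock M B)
    {b : Set (IrrCharacter (Subgroup.centralizer ({x} : Set G)))} (hb : IsPBlock M b) :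
    IsInducedBlock M (Subgroup.centralizer ({x} : Set G)) b B ↔
      br (Subgroup.zpowers x) (blkG M B) * blk M _ b = blk M _ b := by
  have hP : IsPGroup p (Subgroup.zpowers x) := isPGroup_zpowers hx
  have hC := centralizer_zpowers_eq (x := x)
  have hHN : Subgroup.centralizer ({x} : Set G) ≤
      Subgroup.normalizer (Subgroup.zpowers x : Set G) :=
    hC.ge.trans (Subgroup.centralizer_le_normalizer _)
  obtain ⟨ξ, hξ⟩ := block_nonempty hb
  have key : ∀ B' : Set (IrrCharacter G), IsPBlock M B' →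
      (¬ MemLocalIdeal M (omega ξ.1 (brH (Subgroup.zpowers x) (Subgroup.centralizer ({x} : Set G))
        (blockIdem B'))) ↔ br (Subgroup.zpowers x) (blkG M B') * blk M _ b = blk M _ b) := by
    intro B' hB'
    set w := brH (Subgroup.zpowers x) (Subgroup.centralizer ({x} : Set G)) (blockIdem B')
    have hwc : IsCentralElt w := isCentralElt_brH hHN (isCentralElt_blockIdem B')
    have hwS : SCoeff M w := scoeff_brH (scoeff_blockIdem hB')
    have hincl : incl (Subgroup.centralizer ({x} : Set G)) (AlgInt ⧸ M) (redA M w) =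
        br (Subgroup.zpowers x) (blkG M B') := by
      refine alg_ext fun g => ?_
      by_cases hg : g ∈ Subgroup.centralizer ({x} : Set G)
      · rw [BrauerPairs.coeff_br_of_mem _ (hC.ge hg), BrauerPairs.coeff_blkG]
        refine (BrauerPairs.coeff_incl_coe _ _ (⟨g, hg⟩ : Subgroup.centralizer ({x} : Set G))).trans ?_
        simp only [w, coeff_redA, coeff_brH, coeff_blockIdem, if_pos (hC.ge hg)]
      · rw [BrauerPairs.coeff_br_of_notMem _ (fun h => hg (hC.le h)),
          BrauerPairs.coeff_incl_of_notMem _ _ hg]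
    have hbI := BrauerPairs.isBlockIdem_blk _ hb
    have hz : br (Subgroup.zpowers x) (blkG M B') ∈
        BrauerPairs.centerIn (AlgInt ⧸ M) (Subgroup.centralizer ({x} : Set G)) := by
      rw [← hC]; exact BrauerPairs.br_top_mem (BrauerPairs.isBlockIdem_blkG hB').mem
    have hzz : br (Subgroup.zpowers x) (blkG M B') * br (Subgroup.zpowers x) (blkG M B') =
        br (Subgroup.zpowers x) (blkG M B') := by
      have hfix := BrauerPairs.mem_fixedBy_of_top (BrauerPairs.isBlockIdem_blkG hB').mem
        (Subgroup.zpowers x)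
      rw [← BrauerPairs.br_mul hP hfix hfix, BrauerPairs.blkG_mul_self hB']
    have hω := BrauerPairs.omega_blk (M := M) _ hb hξ hwc hwS
    rw [hincl] at hω
    rw [← red_eq_zero_iff (memLocalRing_omega ξ hwc hwS), ← hω]
    constructor
    · exact fun h => hbI.mul_eq_self_of_ne hz hzz fun h0 =>
        h ((hbI.omega_eq_zero_iff hz).2 (by rw [h0]; exact IsNilpotent.zero))
    · intro h
      rw [(BrauerPairs.IsBlockIdem.omega_eq_one_iff hbI hz hzz).2 h]
      exact one_ne_zero
  have hzH := zpowers_le_centralizer (x := x)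
  refine ⟨fun h => ?_, fun h =>
    isInducedBlock_of_omega hpM hP hC.le hHN hzH hb hξ hB ((key B hB).2 h)⟩
  obtain ⟨B', hB', hne⟩ := exists_block_omega_brH hpM hP hC.le hHN ξ
  have h' := isInducedBlock_of_omega hpM hP hC.le hHN hzH hb hξ hB' hne
  rw [IsInducedBlock.unique h h']
  exact (key B' hB').1 hne

/-! ### The global identity -/

/-- The `p`-elements of `G`. -/
noncomputable def pElts (G : Type u) [Group G] [Fintype G] (p : ℕ) : Finset G :=
  Finset.univ.filter fun x => ∃ k, orderOf x = p ^ k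

theorem sum_eq_sum_sections (f : G → ℂ) :
    ∑ g, f g = ∑ x ∈ pElts G p, ∑ s : Subgroup.centralizer ({x} : Set G),
      if IsPRegular p s then f (x * (s : G)) else 0 := by
  simp only [← Finset.sum_filter]
  rw [Finset.sum_sigma']
  symm
  refine Finset.sum_bij (fun q _ => q.1 * (q.2 : G)) (fun _ _ => Finset.mem_univ _) ?_ ?_
    (fun _ _ => rfl)
  · rintro ⟨x₁, s₁⟩ h₁ ⟨x₂, s₂⟩ h₂ heq
    simp only [Finset.mem_sigma, pElts, Finset.mem_filter, Finset.mem_univ, true_and] at h₁ h₂
    have e₁ : IsPPart p (x₁ * (s₁ : G)) x₁ := isPPart_mul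
      (Subgroup.mem_centralizer_singleton_iff.1 s₁.2).symm h₁.1
      (by rw [IsPRegular, Subgroup.orderOf_coe]; exact h₁.2)
    have e₂ : IsPPart p (x₂ * (s₂ : G)) x₂ := isPPart_mul
      (Subgroup.mem_centralizer_singleton_iff.1 s₂.2).symm h₂.1
      (by rw [IsPRegular, Subgroup.orderOf_coe]; exact h₂.2)
    obtain rfl := IsPPart.unique e₁ (heq ▸ e₂)
    simp only [Sigma.mk.injEq, heq_eq_eq, true_and]
    exact Subtype.ext (mul_left_cancel heq)
  · intro g _
    obtain ⟨x, hx⟩ := exists_isPPart (p := p) g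
    obtain ⟨s, hs, hsr⟩ := exists_regular_factor hx
    exact ⟨⟨x, s⟩, Finset.mem_sigma.2 ⟨Finset.mem_filter.2 ⟨Finset.mem_univ _,
      IsPPart.isPElement hx⟩, Finset.mem_filter.2 ⟨Finset.mem_univ _, hsr⟩⟩, hs⟩

variable (M p) in
/-- The pairs `(x, e)` with `(⟨x⟩, e)` a pair of `B`. -/
noncomputable def secPairs (B : Set (IrrCharacter G)) :
    Finset (G × MonoidAlgebra (AlgInt ⧸ M) G) :=
  (pElts G p).biUnion fun x => ((Finset.univ.filter
    (· ∈ inducingSet M (Subgroup.centralizer ({x} : Set G)) B)).image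
      fun η => (x, blk M (Subgroup.centralizer ({x} : Set G)) (blockOf M η.1)))

omit [Fintype H] in
/-- The inner product of two characters of `B`, as a sum over pairs. -/
theorem classInner_eq_sum_secPairs (hpM : (p : AlgInt) ∈ M) {B : Set (IrrCharacter G)}
    (hB : IsPBlock M B) {χ : IrrCharacter G} (hχ : χ ∈ B) (ψ : IrrCharacter G) :
    (Nat.card G : ℂ) * classInner χ.1 ψ.1 = ∑ q ∈ secPairs M p B,
      (Nat.card (Subgroup.centralizer ({q.1} : Set G)) : ℂ) *
        sectF p (Subgroup.centralizer ({q.1} : Set G)) q.1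
          (blkSet M (Subgroup.centralizer ({q.1} : Set G)) q.2) χ.1 ψ.1 := by
  rw [classInner, mul_inv_cancel_left₀ (Nat.cast_ne_zero.2 Nat.card_pos.ne'),
    sum_eq_sum_sections (p := p), secPairs, Finset.sum_biUnion]
  swap
  · intro x _ y _ hxy
    refine Finset.disjoint_left.2 fun q hq hq' => hxy ?_
    obtain ⟨η, -, rfl⟩ := Finset.mem_image.1 hq
    obtain ⟨η', -, he⟩ := Finset.mem_image.1 hq'
    exact (congrArg Prod.fst he).symm
  refine Finset.sum_congr rfl fun x hx => ?_
  have hxe := (Finset.mem_filter.1 hx).2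
  set C := Subgroup.centralizer ({x} : Set G) with hC
  have hU := isBlockUnion_inducingSet (M := M) C B
  rw [show ((Finset.univ.filter (· ∈ inducingSet M C B)).image fun η => (x, blk M C (blockOf M η.1))) =
      ((Finset.univ.filter (· ∈ inducingSet M C B)).image fun η : IrrCharacter C => blockOf M η.1).image
        fun b => (x, blk M C b) from by rw [Finset.image_image]; rfl]
  rw [Finset.sum_image (f := fun q : G × MonoidAlgebra (AlgInt ⧸ M) G =>
      (Nat.card (Subgroup.centralizer ({q.1} : Set G)) : ℂ) *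
        sectF p (Subgroup.centralizer ({q.1} : Set G)) q.1
          (blkSet M (Subgroup.centralizer ({q.1} : Set G)) q.2) χ.1 ψ.1)]
  swap
  · intro b hb b' hb' he
    obtain ⟨η, -, rfl⟩ := Finset.mem_image.1 hb
    obtain ⟨η', -, rfl⟩ := Finset.mem_image.1 hb'
    exact BrauerPairs.blk_injective _ (BrauerPairs.isPBlock_blockOf η)
      (BrauerPairs.isPBlock_blockOf η') (congrArg Prod.snd he)
  have hterm : ∀ b ∈ (Finset.univ.filter (· ∈ inducingSet M C B)).image
      (fun η : IrrCharacter C => blockOf M η.1),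
      (Nat.card C : ℂ) * sectF p C x (blkSet M C (blk M C b)) χ.1 ψ.1 =
        ∑ s : C, if IsPRegular p s then
          chiL χ.1 (inclA C (blockIdem b) * single (x * (s : G)) 1) * conj (ψ.1 (x * (s : G)))
          else 0 := by
    intro b hb
    obtain ⟨η, -, rfl⟩ := Finset.mem_image.1 hb
    rw [blkSet_blk (BrauerPairs.isPBlock_blockOf η), sectF, finsum_eq_sum_of_fintype,
      mul_inv_cancel_left₀ (Nat.cast_ne_zero.2 Nat.card_pos.ne')]
  rw [Finset.sum_congr rfl hterm, Finset.sum_comm]
  refine Finset.sum_congr rfl fun s _ => ?_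
  by_cases hs : IsPRegular p s
  · simp only [if_pos hs]
    rw [← Finset.sum_mul]
    congr 1
    have hg : IsPPart p (x * (s : G)) x := isPPart_mul
      (Subgroup.mem_centralizer_singleton_iff.1 s.2).symm hxe
      (by rw [IsPRegular, Subgroup.orderOf_coe]; exact hs)
    have h := chiL_inducingSet hpM hxe hB χ
      (g := (⟨x * (s : G), mul_mem (Subgroup.mem_centralizer_singleton_iff.2 rfl) s.2⟩ : C)) hg
    rw [if_pos hχ, hU.blockIdem_eq, map_sum, Finset.sum_mul, chiL_sum] at h
    exact h.symm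
  · simp only [if_neg hs, Finset.sum_const_zero]

end Cfsg.Agent.Blocks.NilRank
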