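import Cfsg.Agent.Lib.BrauerPairs.Abstract
import Mathlib.Algebra.CharP.Frobenius
import Mathlib.Algebra.Polynomial.Roots
import Mathlib.FieldTheory.Finite.Basic
import Mathlib.LinearAlgebra.FiniteDimensional.Basic
import Cfsg.Agent.Lib.Blocks.GroupAlgebra

/-!
# A substitute for source idempotents

For a block `B` with a `P`-fixed element of nonzero trace, a primitive idempotent of the `P`-fixed
subalgebra carries an element `x` of nonzero trace whose Brauer images all lie in the subpairs of
one pair `(P, e)`.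
-/

set_option autoImplicit false
set_option linter.unusedSectionVars false
set_option linter.style.haveILetI false

open MonoidAlgebra
open scoped Classical

namespace Cfsg.Agent.BrauerPairs

variable {k : Type*} [Field k] {G : Type*} [Group G] [Finite G] {p : ℕ} [Fact p.Prime] [CharP k p]

/-- In a group algebra over an algebraic extension of a finite field every element has an
idempotent power. -/
theorem exists_idem_pow (hfin : ∀ c : k, ∃ f : ℕ, 0 < f ∧ c ^ p ^ f = c) (y : k[G]) :
    ∃ N, 0 < N ∧ y ^ N * y ^ N = y ^ N := by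
  have hp : p.Prime := Fact.out
  haveI := Fintype.ofFinite G
  choose f hf hfc using fun g => hfin (y.coeff g)
  set F := ∏ g, f g with hF
  have hF0 : 0 < F := Finset.prod_pos fun g _ => hf g
  let S : Subring k := RingHom.eqLocus (iterateFrobenius k p F) (RingHom.id k)
  have hmemS : ∀ c : k, c ∈ S ↔ c ^ p ^ F = c := fun c => by
    show iterateFrobenius k p F c = c ↔ _
    rw [iterateFrobenius_def]
  have hy : ∀ g, y.coeff g ∈ S := fun g => by
    rw [hmemS]
    obtain ⟨d, hd⟩ := Finset.dvd_prod_of_mem f (Finset.mem_univ g)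
    rw [hF, hd]
    clear hd
    induction d with
    | zero => simp
    | succ d ih => rw [Nat.mul_succ, pow_add, pow_mul, ih, hfc]
  haveI : Finite S := by
    have hne : (Polynomial.X ^ p ^ F - Polynomial.X : Polynomial k) ≠ 0 :=
      FiniteField.X_pow_card_pow_sub_X_ne_zero k hF0.ne' hp.one_lt
    refine Set.Finite.to_subtype ((Polynomial.finite_setOfPred_isRoot hne).subset fun c hc => ?_)
    simp [(hmemS c).1 hc]
  have hpow : ∀ n g, (y ^ n).coeff g ∈ S := by
    intro n
    induction n with
    | zero =>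
      intro g
      rw [pow_zero, MonoidAlgebra.one_def, MonoidAlgebra.coeff_single, Finsupp.single_apply]
      split_ifs
      exacts [one_mem S, zero_mem S]
    | succ n ih =>
      intro g
      rw [pow_succ, Blocks.coeff_mul_eq_sum]
      exact Subring.sum_mem S fun x _ => mul_mem (ih x) (hy _)
  obtain ⟨i, j, hne, hij⟩ := Finite.exists_ne_map_eq_of_infinite
    fun n : ℕ => fun g => (⟨(y ^ (n + 1)).coeff g, hpow _ g⟩ : S)
  have heq : y ^ (i + 1) = y ^ (j + 1) :=
    Blocks.alg_ext fun g => congrArg Subtype.val (congrFun hij g)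
  clear hij
  wlog hlt : i < j generalizing i j
  · exact this j i hne.symm heq.symm (lt_of_le_of_ne (not_lt.1 hlt) hne.symm)
  obtain ⟨d, rfl⟩ := Nat.exists_eq_add_of_le hlt.le
  have hd : 0 < d := by omega
  have hper : ∀ c t, y ^ (i + 1 + t + c * d) = y ^ (i + 1 + t) := by
    intro c
    induction c with
    | zero => simp
    | succ c ih =>
      intro t
      rw [show i + 1 + t + (c + 1) * d = i + 1 + (t + c * d) + d by ring,
        show i + 1 + (t + c * d) + d = i + d + 1 + (t + c * d) by ring, pow_add, ← heq, ← pow_add,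
        ← add_assoc, ih]
  refine ⟨(i + 1) * d, by positivity, ?_⟩
  obtain ⟨t, ht⟩ := Nat.exists_eq_add_of_le (Nat.le_mul_of_pos_right (i + 1) hd)
  rw [← pow_add]
  conv_lhs => arg 2; arg 1; rw [ht]
  rw [hper (i + 1) t, ← ht]

variable (hblk : ∀ H : Subgroup G, HasBlocks k H)

theorem relTr_trace (t : k[G] →ₗ[k] k) (htc : ∀ g a, t (conjEl g a) = t a) {Q P : Subgroup G}
    (hP : IsPGroup p P) (hQP : Q < P) (z : k[G]) : t (relTr Q P z) = 0 := by
  letI := Fintype.ofFinite (P ⧸ Q.subgroupOf P)
  rw [relTr, map_sum]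
  simp only [htc, Finset.sum_const, Finset.card_univ]
  have hidx : Fintype.card (P ⧸ Q.subgroupOf P) = (Q.subgroupOf P).index := by
    rw [Subgroup.index, Nat.card_eq_fintype_card]
  obtain ⟨n, hn⟩ := hP.index (Q.subgroupOf P)
  have hn0 : n ≠ 0 := by
    rintro rfl
    exact hQP.not_ge (Subgroup.subgroupOf_eq_top.1 (Subgroup.index_eq_one.1 (by simpa using hn)))
  rw [hidx, hn, ← Nat.cast_smul_eq_nsmul k, Nat.cast_pow, CharP.cast_eq_zero, zero_pow hn0,
    zero_smul]

include hblk in
/-- An element of nonzero trace localized at one pair. -/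
theorem exists_local_elt (hfin : ∀ c : k, ∃ f : ℕ, 0 < f ∧ c ^ p ^ f = c) {B : k[G]}
    (hB : IsBlockIdem ⊤ B) (t : k[G] →ₗ[k] k) (htr : ∀ a b, t (a * b) = t (b * a))
    (htc : ∀ g a, t (conjEl g a) = t a) {P : Subgroup G} (hP : IsPGroup p P) {A : k[G]}
    (hA : A ∈ fixedBy k P) (htA : t (B * A) ≠ 0) :
    ∃ x e, x ∈ fixedBy k P ∧ t x ≠ 0 ∧ IsPairOf p B (P, e) ∧
      ∀ Q, Q ≤ P → ∀ f, PLE p (Q, f) (P, e) → br Q x * f = br Q x := by
  have hBP : B ∈ fixedBy k P := mem_fixedBy_of_top hB.mem P
  -- a minimal idempotent with a trace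
  let S : Set k[G] := {i | i ∈ fixedBy k P ∧ i * i = i ∧ i * B = i ∧
    ∃ y ∈ fixedBy k P, t (i * y * i) ≠ 0}
  have hBS : B ∈ S := ⟨hBP, hB.idem, hB.idem, A, hA, by rwa [htr, ← mul_assoc, hB.idem]⟩
  let rk : k[G] → ℕ := fun i => Module.finrank k (LinearMap.range (LinearMap.mulLeft k i))
  have hex : ∃ n, ∃ i ∈ S, rk i = n := ⟨_, B, hBS, rfl⟩
  obtain ⟨i, ⟨hiP, hii, hiB, z, hz, htz⟩, hirk⟩ := Nat.find_spec hex
  have hmin : ∀ f ∈ fixedBy k P, f * f = f → i * f = f → f * i = f → f = 0 ∨ f = i := by
    intro f hfP hff hif hfi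
    by_contra h
    push Not at h
    have hbound : ∀ e ∈ fixedBy k P, e * e = e → i * e = e → e * i = e → e ≠ i →
        t (e * z * e) = 0 := by
      intro e heP hee hie hei hne
      by_contra hte
      have heS : e ∈ S := ⟨heP, hee, by rw [← hei, mul_assoc, hiB], z, hz, hte⟩
      refine Nat.find_min hex ?_ ⟨e, heS, rfl⟩
      rw [← hirk]
      refine Submodule.finrank_lt_finrank_of_lt (lt_of_le_of_ne ?_ fun heq => hne ?_)
      · rintro _ ⟨w, rfl⟩
        exact ⟨e * w, by simp [← mul_assoc, hie]⟩
      · obtain ⟨w, hw⟩ : i ∈ LinearMap.range (LinearMap.mulLeft k e) :=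
          heq ▸ ⟨1, by simp⟩
        have : e * i = i := by
          rw [show i = e * w from hw.symm, ← mul_assoc, hee]
        rw [← hei, this]
    refine htz ?_
    have h1 := hbound f hfP hff hif hfi h.2
    have h2 := hbound (i - f) ((fixedBy k P).sub_mem hiP hfP)
      (by rw [sub_mul, mul_sub, mul_sub, hii, hif, hfi, hff]; abel)
      (by rw [mul_sub, hii, hif]) (by rw [sub_mul, hii, hfi])
      (fun e => h.1 (sub_eq_self.1 e))
    have hcyc : ∀ e : k[G], e * e = e → t (e * z * e) = t (z * e) := fun e he => by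
      rw [mul_assoc, htr, mul_assoc, he]
    have hie : (i - f) * (i - f) = i - f := by
      rw [sub_mul, mul_sub, mul_sub, hii, hif, hfi, hff]; abel
    rw [hcyc _ hii, ← add_sub_cancel f i, mul_add, map_add, ← hcyc f hff, ← hcyc _ hie, h1, h2,
      add_zero]
  let x := i * z * i
  have hx : x = i * z * i := rfl
  have hxP : x ∈ fixedBy k P := mul_mem (mul_mem hiP hz) hiP
  have hxi : x * i = x := by rw [hx, mul_assoc, hii]
  -- the key consequence of minimality
  have key : ∀ Q : Subgroup G, Q < P → ∀ g : k[G],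
      g ∈ fixedBy k (P ⊓ Subgroup.normalizer (Q : Set G)) → g * g = g →
      (∀ y, y ∉ Subgroup.centralizer (Q : Set G) → g.coeff y = 0) →
      br Q i * g = g → g * br Q i = g →
      (∀ R : Subgroup G, IsPGroup p R → Q < R → R ≤ P ⊓ Subgroup.normalizer (Q : Set G) →
        br R g = 0) → g = 0 := by
    intro Q hQP g hg hgg hsupp hl hr hR
    by_contra hg0
    have hQp : IsPGroup p Q := hP.to_le hQP.le
    obtain ⟨a, ha, hasupp, hatr⟩ := exists_relTr_eq hQp
      (le_inf hQP.le Subgroup.le_normalizer) hg hsupp hR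
    have hiQ : i ∈ fixedBy k Q := fixedBy_anti hQP.le hiP
    set y := i * relTr Q P a * i with hy
    have hyP : y ∈ fixedBy k P := mul_mem (mul_mem hiP (relTr_mem_fixedBy ha)) hiP
    have hyQ : br Q y = g := by
      rw [hy, br_mul hQp (mul_mem hiQ (fixedBy_anti hQP.le (relTr_mem_fixedBy ha))) hiQ,
        br_mul hQp hiQ (fixedBy_anti hQP.le (relTr_mem_fixedBy ha)),
        br_relTr_self hQp hQP.le ha,
        br_eq_self fun w hw => hasupp w (hsupp w hw), hatr, hl, hr]
    obtain ⟨N, hN, hNidem⟩ := exists_idem_pow hfin y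
    obtain ⟨N, rfl⟩ := Nat.exists_eq_succ_of_ne_zero hN.ne'
    have hiy : i * y = y := by rw [hy, ← mul_assoc, ← mul_assoc, hii]
    have hyi : y * i = y := by rw [hy, mul_assoc, hii]
    have hbrpow : ∀ n, br Q (y ^ (n + 1)) = g := by
      intro n
      induction n with
      | zero => rw [pow_one, hyQ]
      | succ n ih =>
        rw [pow_succ, br_mul hQp (pow_mem (fixedBy_anti hQP.le hyP) _) (fixedBy_anti hQP.le hyP),
          ih, hyQ, hgg]
    have hfi : y ^ (N + 1) = i := by
      refine (hmin _ (pow_mem hyP _) hNidem (by rw [pow_succ', ← mul_assoc, hiy])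
        (by rw [pow_succ, mul_assoc, hyi])).resolve_left fun h0 => hg0 ?_
      rw [← hbrpow N, h0, map_zero]
    refine htz (show t x = 0 from ?_)
    rw [← hxi, ← hfi, pow_succ']
    have hw := pow_mem hyP N
    generalize y ^ N = w at hw ⊢
    rw [hy, mul_relTr a hiP, relTr_mul _ hiP, relTr_mul _ hw, mul_relTr _ hxP]
    exact relTr_trace t htc hP hQP _
  -- the Brauer image at `P`
  have hiP0 : br P i ≠ 0 := by
    intro h0
    have hall : ∀ n (Q : Subgroup G), Q ≤ P → Nat.card P - Nat.card Q = n → br Q i = 0 := by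
      intro n
      induction n using Nat.strong_induction_on with
      | _ n ih =>
        intro Q hQ hcard
        rcases eq_or_lt_of_le hQ with rfl | hlt
        · exact h0
        have hQp : IsPGroup p Q := hP.to_le hQ
        have hiQ : i ∈ fixedBy k Q := fixedBy_anti hQ hiP
        refine key Q hlt _ (br_mem_fixedBy hiP inf_le_left inf_le_right)
          (by rw [← br_mul hQp hiQ hiQ, hii]) (fun y hy => coeff_br_of_notMem i hy)
          (by rw [← br_mul hQp hiQ hiQ, hii]) (by rw [← br_mul hQp hiQ hiQ, hii]) fun R hR hQR hRN => ?_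
        have hRP : R ≤ P := hRN.trans inf_le_left
        rw [br_br hQR.le]
        refine ih (Nat.card P - Nat.card R) ?_ R hRP rfl
        have h1 : Nat.card Q < Nat.card R := lt_of_le_of_ne (Nat.le_of_dvd Nat.card_pos (Subgroup.card_dvd_of_le hQR.le)) fun e => hQR.ne (Subgroup.eq_of_le_of_card_ge hQR.le e.ge)
        have h2 := Nat.le_of_dvd Nat.card_pos (Subgroup.card_dvd_of_le hRP)
        omega
    have h1 := hall _ ⊥ bot_le rfl
    rw [br_eq_self fun w hw => absurd (Subgroup.mem_centralizer_iff.2 fun h hh => by simp_all) hw] at h1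
    exact htz (by rw [h1]; simp)
  -- the block `e`
  obtain ⟨s, hs, hs1⟩ := hblk (Subgroup.centralizer (P : Set G))
  obtain ⟨e, hes, hie⟩ : ∃ e ∈ s, br P i * e ≠ 0 := by
    by_contra! hall
    refine hiP0 ?_
    rw [← mul_one (br P i), ← hs1, Finset.mul_sum]
    exact Finset.sum_eq_zero hall
  have he := hs e hes
  have hbrsupp : br P i ∈ suppIn k (Subgroup.centralizer (P : Set G)) :=
    fun y hy => coeff_br_of_notMem i hy
  have hcomm : br P i * e = e * br P i := centerIn_commute hbrsupp he.mem.2
  have heP : e ∈ fixedBy k P := mem_fixedBy_of_supp_centralizer he.mem.1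
  have htop : br P i * e = br P i := by
    obtain ⟨N, hN, hNidem⟩ := exists_idem_pow hfin (i * e * i)
    obtain ⟨N, rfl⟩ := Nat.exists_eq_succ_of_ne_zero hN.ne'
    have hyP : i * e * i ∈ fixedBy k P := mul_mem (mul_mem hiP heP) hiP
    have hbre : br P e = e := br_eq_self he.mem.1
    have hbry : br P (i * e * i) = br P i * e := by
      rw [br_mul hP (mul_mem hiP heP) hiP, br_mul hP hiP heP, hbre, mul_assoc, ← hcomm, ← mul_assoc,
        ← br_mul hP hiP hiP, hii]
    have hgg : br P i * e * (br P i * e) = br P i * e := by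
      rw [mul_assoc, ← mul_assoc e, ← hcomm, mul_assoc (br P i) e e, he.idem, ← mul_assoc,
        ← br_mul hP hiP hiP, hii]
    have hbrpow : ∀ n, br P ((i * e * i) ^ (n + 1)) = br P i * e := by
      intro n
      induction n with
      | zero => rw [pow_one, hbry]
      | succ n ih => rw [pow_succ, br_mul hP (pow_mem hyP _) hyP, ih, hbry, hgg]
    have hfi : (i * e * i) ^ (N + 1) = i := by
      refine (hmin _ (pow_mem hyP _) hNidem
        (by rw [pow_succ', ← mul_assoc, ← mul_assoc, ← mul_assoc, hii])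
        (by rw [pow_succ, mul_assoc, mul_assoc _ i i, hii])).resolve_left fun h0 => hie ?_
      rw [← hbrpow N, h0, map_zero]
    rw [← hbrpow N, hfi]
  have hpair : IsPairOf p B (P, e) := by
    refine ⟨⟨hP, he⟩, he.mul_eq_self_of_ne ?_ ?_ fun h0 => hie ?_⟩
    · exact br_top_mem hB.mem
    · rw [← br_mul hP hBP hBP, hB.idem]
    · rw [← hiB, br_mul hP hiP hBP, mul_assoc, h0, mul_zero]
  -- the descent
  have hall : ∀ n (Q : Subgroup G), Q ≤ P → Nat.card P - Nat.card Q = n →
      ∀ f, PLE p (Q, f) (P, e) → br Q i * f = br Q i := by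
    intro n
    induction n using Nat.strong_induction_on with
    | _ n ih =>
      intro Q hQ hcard f hf
      rcases eq_or_lt_of_le hQ with rfl | hlt
      · rw [show f = e from congrArg Prod.snd (PLE.eq_of_fst_eq hf rfl)]
        exact htop
      have hQp : IsPGroup p Q := hP.to_le hQ
      have hiQ : i ∈ fixedBy k Q := fixedBy_anti hQ hiP
      have hQf : IsPair p (Q, f) := PLE.isPair_left hf hpair.1
      set N := P ⊓ Subgroup.normalizer (Q : Set G) with hN
      obtain ⟨fN, hfN⟩ := exists_ple hblk hpair.1 N inf_le_left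
      obtain ⟨f', hf'⟩ := exists_ple hblk (PLE.isPair_left hfN hpair.1) Q
        (le_inf hQ Subgroup.le_normalizer)
      rw [ple_unique hblk hpair.1 Q _ _ (hf'.trans hfN) hf] at hf'
      have hstepN := PLE.step_of_le_normalizer hblk hf' hQf inf_le_right
      have hfN' : f ∈ fixedBy k N := hstepN.2.2.2.2.1
      have hc : br Q i * f = f * br Q i :=
        centerIn_commute (fun y hy => coeff_br_of_notMem i hy) hQf.2.mem.2
      have hb2 : br Q i * br Q i = br Q i := by rw [← br_mul hQp hiQ hiQ, hii]
      have h1f : (1 - f) * (1 - f) = 1 - f := by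
        rw [mul_sub, mul_one, sub_mul, one_mul, hQf.2.idem, sub_self, sub_zero]
      have hc' : br Q i * (1 - f) = (1 - f) * br Q i := by
        rw [mul_sub, sub_mul, mul_one, one_mul, hc]
      have hbrN : br Q i ∈ fixedBy k N := br_mem_fixedBy hiP inf_le_left inf_le_right
      have h0 : br Q i * (1 - f) = 0 := by
        refine key Q hlt _ (mul_mem hbrN ((fixedBy k N).sub_mem (one_mem _) hfN')) ?_ ?_
          (by rw [← mul_assoc, hb2]) (by rw [mul_assoc, ← hc', ← mul_assoc, hb2]) fun R hR hQR hRN => ?_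
        · rw [mul_assoc, ← mul_assoc (1 - f), ← hc', mul_assoc (br Q i) (1 - f), h1f, ← mul_assoc,
            hb2]
        · intro y hy
          exact (mul_mem (show br Q i ∈ suppIn k (Subgroup.centralizer (Q : Set G)) from
            fun w hw => coeff_br_of_notMem i hw)
            ((suppIn k (Subgroup.centralizer (Q : Set G))).sub_mem (one_mem _) hQf.2.mem.1)) y hy
        · have hRP : R ≤ P := hRN.trans inf_le_left
          obtain ⟨fR, hfR⟩ := exists_ple hblk hpair.1 R hRP
          obtain ⟨f'', hf''⟩ := exists_ple hblk (PLE.isPair_left hfR hpair.1) Q hQR.le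
          rw [ple_unique hblk hpair.1 Q _ _ (hf''.trans hfR) hf] at hf''
          have hstep := PLE.step_of_le_normalizer hblk hf'' hQf (hRN.trans inf_le_right)
          have hR1 : br R f * fR = fR := hstep.2.2.2.2.2
          have hfRP : f ∈ fixedBy k R := fixedBy_anti hRN hfN'
          have hiR : br Q i ∈ fixedBy k R := fixedBy_anti hRN hbrN
          rw [br_mul hR hiR ((fixedBy k R).sub_mem (one_mem _) hfRP), br_br hQR.le, map_sub, br_one,
            ← ih (Nat.card P - Nat.card R) (by
              have h1 : Nat.card Q < Nat.card R := lt_of_le_of_ne (Nat.le_of_dvd Nat.card_pos (Subgroup.card_dvd_of_le hQR.le)) fun e => hQR.ne (Subgroup.eq_of_le_of_card_ge hQR.le e.ge)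
              have h2 := Nat.le_of_dvd Nat.card_pos (Subgroup.card_dvd_of_le hRP)
              omega) R hRP rfl fR hfR]
          have hfRfix : fR ∈ fixedBy k (Subgroup.centralizer (R : Set G)) :=
            (PLE.isPair_left hfR hpair.1).2.mem.2
          have hbf : br R f ∈ suppIn k (Subgroup.centralizer (R : Set G)) :=
            fun w hw => coeff_br_of_notMem f hw
          rw [mul_assoc, mul_sub, mul_one, ← centerIn_commute hbf hfRfix, hR1, sub_self, mul_zero]
      rw [mul_sub, mul_one, sub_eq_zero] at h0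
      exact h0.symm
  refine ⟨x, e, hxP, htz, hpair, fun Q hQ f hf => ?_⟩
  have hQp : IsPGroup p Q := hP.to_le hQ
  have hiQ : i ∈ fixedBy k Q := fixedBy_anti hQ hiP
  rw [hx, br_mul hQp (mul_mem hiQ (fixedBy_anti hQ hz)) hiQ, mul_assoc, hall _ Q hQ rfl f hf]

end Cfsg.Agent.BrauerPairs
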