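import Cfsg.Agent.Lib.Blocks.NilpotentRank.RegCombination
import Cfsg.Agent.Lib.Blocks.NilpotentRank.Words
import Cfsg.Agent.Lib.Blocks.NilpotentRank.SourceElt
import Cfsg.Agent.Lib.Blocks.NilpotentRank.Pairs
import Cfsg.Agent.Lib.Char.HeightZero
import Cfsg.Agent.Lib.Char.PRegular

/-!
# An element of nonzero trace along a maximal pair

For `χ₀` of height zero in `B` and a defect group `P` there are a maximal pair `(P, e)` and a
`P`-fixed `a` with `χ₀(a)` a unit whose Brauer images lie in the blocks of the subpairs of `(P, e)`.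
-/

set_option autoImplicit false
set_option linter.unusedSectionVars false
set_option linter.style.haveILetI false

namespace Cfsg.Agent.Blocks.NilRank

open Cfsg Blocks MonoidAlgebra
open Cfsg.Agent.BrauerPairs (blkG br IsMax fixedBy relTr conjEl isBlockIdem_blkG)
open scoped Classical ComplexConjugate

universe u

variable {G : Type u} [Group G] [Fintype G] {M : Ideal AlgInt} [M.IsMaximal] {p : ℕ}
  [hp : Fact p.Prime] {B : Set (IrrCharacter G)}

/-- A member of height zero trivial on the central `p`-elements. -/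
theorem exists_height_zero_trivial (hpM : (p : AlgInt) ∈ M) (hB : IsPBlock M B) :
    ∃ χ₀ ∈ B, blockHeight p B χ₀.1 = 0 ∧ ∀ z : G, (∀ g, Commute z g) →
      (∃ k, orderOf z = p ^ k) → χ₀.1 z = χ₀.1 1 := by
  obtain ⟨χ, hχ, hh⟩ := Blocks.exists_height_zero hpM hB
  obtain ⟨n, hn, hreg⟩ := exists_regular_combination hpM hB hχ
  by_contra hno
  choose c hc using fun ψ => Char.exists_int_regInner (p := p) hp.out ψ χ
  have hfun : Char.regFun p χ.1 = ∑ ψ, (n ψ : ℂ) • Char.regFun p ψ.1 := by
    funext s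
    simp only [Finset.sum_apply, Pi.smul_apply, smul_eq_mul, Char.regFun]
    by_cases hs : p ∣ orderOf s
    · simp [hs]
    · simp [hs, hreg s hs]
  have hsum : c χ = ∑ ψ, n ψ * c ψ := by
    have h : Char.regInner p χ.1 χ.1 = ((∑ ψ, n ψ * c ψ : ℤ) : ℂ) := by
      rw [Char.regInner, hfun, Finset.smul_sum, Char.classInner_sum_left]
      push_cast
      refine Finset.sum_congr rfl fun ψ _ => ?_
      rw [smul_comm, Char.classInner_smul_left, ← hc ψ, Char.regInner]
      push_cast
      rfl
    rw [hc χ] at h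
    exact_mod_cast h
  refine (Char.blockHeight_eq_zero_iff_regInner hpM hp.out hB hχ hχ (hc χ)).1 hh ?_
  rw [hsum]
  refine Finset.dvd_sum fun ψ _ => ?_
  rcases eq_or_ne (n ψ) 0 with h | h
  · simp [h]
  obtain ⟨hψ, htriv⟩ := hn ψ h
  refine Dvd.dvd.mul_left ?_ _
  by_contra hd
  exact hno ⟨ψ, hψ, (Char.blockHeight_eq_zero_iff_regInner hpM hp.out hB hψ hχ (hc ψ)).2 hd, htriv⟩

/-- A lift of a residue. -/
noncomputable def liftR (c : AlgInt ⧸ M) : ℂ := ((red_surjective c).choose : ℂ)

theorem red_liftR (c : AlgInt ⧸ M) : red M (liftR c) = c := (red_surjective c).choose_spec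

theorem memLocalRing_liftR (c : AlgInt ⧸ M) : MemLocalRing M (liftR c) := memLocalRing_coe _

/-- A coefficientwise lift. -/
noncomputable def liftA (z : MonoidAlgebra (AlgInt ⧸ M) G) : MonoidAlgebra ℂ G :=
  ofFun fun g => liftR (z.coeff g)

theorem scoeff_liftA (z : MonoidAlgebra (AlgInt ⧸ M) G) : SCoeff M (liftA z) :=
  scoeff_ofFun fun _ => memLocalRing_liftR _

theorem redA_liftA (z : MonoidAlgebra (AlgInt ⧸ M) G) : redA M (liftA z) = z :=
  alg_ext fun g => by rw [coeff_redA, liftA, coeff_ofFun, red_liftR]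

theorem coeff_liftA_conj {P : Subgroup G} {z : MonoidAlgebra (AlgInt ⧸ M) G}
    (hz : z ∈ fixedBy (AlgInt ⧸ M) P) {v : G} (hv : v ∈ P) (g : G) :
    (liftA z).coeff (v * g * v⁻¹) = (liftA z).coeff g := by
  simp only [liftA, coeff_ofFun, BrauerPairs.mem_fixedBy_iff_coeff.1 hz v hv g]

/-- The residual character as a linear form. -/
noncomputable def redTrL (M : Ideal AlgInt) [M.IsMaximal] (χ : G → ℂ) :
    MonoidAlgebra (AlgInt ⧸ M) G →ₗ[AlgInt ⧸ M] AlgInt ⧸ M where
  toFun := redTr M χ
  map_add' a b := by simp [redTr, add_mul, Finset.sum_add_distrib]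
  map_smul' c a := by simp [redTr, Finset.mul_sum, mul_assoc]

theorem redTrL_conj {χ : G → ℂ} (hχ : IsClassFunction G χ) (g : G)
    (a : MonoidAlgebra (AlgInt ⧸ M) G) : redTrL M χ (conjEl g a) = redTrL M χ a := by
  show redTr M χ _ = redTr M χ _
  unfold redTr
  refine Fintype.sum_equiv (MulAut.conj g⁻¹).toEquiv _ _ fun x => ?_
  simp only [BrauerPairs.coeff_conjEl, MulEquiv.toEquiv_eq_coe, EquivLike.coe_coe,
    MulAut.conj_apply, inv_inv]
  congr 2
  have h := hχ (g⁻¹ * x * g) g
  rw [← h]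
  congr 1
  group

theorem redTrL_comm {χ : G → ℂ} (hχ : IsClassFunction G χ)
    (a b : MonoidAlgebra (AlgInt ⧸ M) G) : redTrL M χ (a * b) = redTrL M χ (b * a) := by
  have h : ∀ a b : MonoidAlgebra (AlgInt ⧸ M) G,
      redTrL M χ (a * b) = ∑ x, ∑ y, a.coeff x * b.coeff y * red M (χ (x * y)) := fun a b => by
    show redTr M χ _ = _
    simp only [redTr, coeff_mul_eq_sum, Finset.sum_mul]
    rw [Finset.sum_comm]
    refine Finset.sum_congr rfl fun x _ => ?_
    refine Fintype.sum_equiv (Equiv.mulLeft x⁻¹) _ _ fun g => ?_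
    simp
  rw [h, h, Finset.sum_comm]
  refine Finset.sum_congr rfl fun x _ => Finset.sum_congr rfl fun y _ => ?_
  rw [Char.IsClassFunction.apply_mul_comm hχ y x, mul_comm (a.coeff y)]

variable [CharP (AlgInt ⧸ M) p]

/-- A maximal pair on `P` and a `P`-fixed element of unit trace adapted to it. -/
theorem exists_max_trace (hpM : (p : AlgInt) ∈ M) (hB : IsPBlock M B) {P : Subgroup G}
    (hP : IsDefectGroup p M B P) {χ₀ : IrrCharacter G} (hχ₀ : χ₀ ∈ B)
    (hh : blockHeight p B χ₀.1 = 0) :
    ∃ (e : MonoidAlgebra (AlgInt ⧸ M) G) (a : MonoidAlgebra ℂ G),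
      IsMax p (blkG M B) (P, e) ∧ SCoeff M a ∧
      (∀ v ∈ P, ∀ g, a.coeff (v * g * v⁻¹) = a.coeff g) ∧
      red M (chiL χ₀.1 a) ≠ 0 ∧
      ∀ v ∈ P, br (Subgroup.zpowers v) (redA M a) * eU p P e v =
        br (Subgroup.zpowers v) (redA M a) := by
  have hblk : ∀ H : Subgroup G, BrauerPairs.HasBlocks (AlgInt ⧸ M) H := fun H =>
    BrauerPairs.hasBlocks M H
  have hBi := isBlockIdem_blkG hB
  obtain ⟨e₀, -, hmax₀⟩ := BrauerPairs.exists_isMax_of_isDefectGroup hB hP
  obtain ⟨-, -, -, -, -, ⟨A, hA, hBA⟩, -, -⟩ := BrauerPairs.exists_trace_factor hblk hBi hmax₀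
  have hcl := irr_classFun χ₀
  set f := blockIdem B
  have hfc : IsCentralElt f := isCentralElt_blockIdem B
  have hfS : SCoeff M f := scoeff_blockIdem hB
  have hω : omega χ₀.1 f = 1 := by rw [omega_blockIdem, if_pos hχ₀]
  have hchi : IsCharacter G χ₀.1 := Char.irr_isCharacter χ₀
  -- the trace of `B A` is not zero
  have htA : redTrL M χ₀.1 (blkG M B * A) ≠ 0 := by
    have hAS : SCoeff M (liftA A) := scoeff_liftA A
    show redTr M χ₀.1 _ ≠ 0
    rw [show blkG M B * A = redA M (f * liftA A) by rw [redA_mul hfS hAS, redA_liftA]; rfl,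
      ← red_chiL hchi (hfS.mul hAS), chiL_mul_of_central χ₀ hfc, hω, one_mul]
    intro h0
    have hfix : liftA A ∈ fixedBy ℂ P :=
      BrauerPairs.mem_fixedBy_iff_coeff.2 fun v hv g => coeff_liftA_conj hA hv g
    letI : Fintype ((⊤ : Subgroup G) ⧸ P.subgroupOf ⊤) := Fintype.ofFinite _
    set z := relTr P ⊤ (liftA A) with hz
    have hzc : IsCentralElt z := fun g h =>
      BrauerPairs.mem_fixedBy_iff_coeff.1 (BrauerPairs.relTr_mem_fixedBy hfix) h
        (Subgroup.mem_top h) g
    have hzco : ∀ g, z.coeff g = ∑ q : (⊤ : Subgroup G) ⧸ P.subgroupOf ⊤,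
        (liftA A).coeff (((q.out : (⊤ : Subgroup G)) : G)⁻¹ * g * ((q.out : (⊤ : Subgroup G)) : G)) := by
      intro g
      rw [hz, relTr, coeff_sum, Finsupp.finsetSum_apply]
      refine Finset.sum_congr (by ext; simp) fun q _ => ?_
      rw [BrauerPairs.coeff_conjEl]
    have hzS : SCoeff M z := fun g => by
      rw [hzco]; exact MemLocalRing.sum _ fun q _ => hAS _
    have hzred : redA M z = blkG M B := by
      rw [hBA]
      refine alg_ext fun g => ?_
      rw [coeff_redA, hzco, red_sum _ fun q _ => hAS _, relTr, coeff_sum, Finsupp.finsetSum_apply]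
      refine Finset.sum_congr (by ext; simp) fun q _ => ?_
      rw [BrauerPairs.coeff_conjEl, ← coeff_redA, redA_liftA]
    have h1 : MemLocalIdeal M (omega χ₀.1 (z - f)) := memLocalIdeal_omega χ₀ (hzc.sub hfc)
      ((redA_eq_zero_iff (hzS.sub hfS)).1 (by rw [redA_sub hzS hfS, hzred]; exact sub_self _))
    rw [omega_sub, hω] at h1
    have hchiz : chiL χ₀.1 z = (Nat.card ((⊤ : Subgroup G) ⧸ P.subgroupOf ⊤) : ℂ) *
        chiL χ₀.1 (liftA A) := by
      rw [hz, relTr, chiL_sum]
      rw [Nat.card_eq_fintype_card, ← Finset.card_univ, ← nsmul_eq_mul, ← Finset.sum_const]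
      refine Finset.sum_congr (by ext; simp) fun q _ => ?_
      rw [chiL_eq_sum, chiL_eq_sum]
      refine Fintype.sum_equiv (MulAut.conj ((q.out : (⊤ : Subgroup G)) : G)⁻¹).toEquiv _ _
        fun x => ?_
      simp only [BrauerPairs.coeff_conjEl, MulEquiv.toEquiv_eq_coe, EquivLike.coe_coe,
        MulAut.conj_apply, inv_inv]
      congr 1
      rw [← hcl (((q.out : (⊤ : Subgroup G)) : G)⁻¹ * x * ((q.out : (⊤ : Subgroup G)) : G))
        ((q.out : (⊤ : Subgroup G)) : G)]
      congr 1
      group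
    have hidx : Nat.card ((⊤ : Subgroup G) ⧸ P.subgroupOf ⊤) = P.index := by
      rw [← Subgroup.index_eq_card, ← Subgroup.relIndex, Subgroup.relIndex_top_right]
    have hv : (Char.degree χ₀).factorization p ≤ P.index.factorization p := by
      have h2 := Char.factorization_degree_of_height_zero hχ₀ hh
      have h3 : (Nat.card P).factorization p = blockDefect p B := by
        rw [card_defectGroup hpM hB hP, hp.out.factorization_pow, Finsupp.single_eq_same]
      have h4 : (Nat.card G).factorization p =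
          (Nat.card P).factorization p + P.index.factorization p := by
        rw [← P.card_mul_index, Nat.factorization_mul Nat.card_pos.ne' Subgroup.index_ne_zero_of_finite]
        rfl
      have h6 := (Nat.factorization_le_iff_dvd (Char.degree_pos χ₀).ne' Nat.card_pos.ne').2
        (Char.degree_dvd_natCard χ₀) p
      have h7 : blockDefect p B =
          (Nat.card G).factorization p - (Char.degree χ₀).factorization p := by
        rw [blockDefect, h2]
      omega
    have h5 : MemLocalIdeal M (omega χ₀.1 z) := by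
      rw [omega, hchiz, hidx, Char.apply_one_eq_degree, mul_div_right_comm]
      exact MemLocalIdeal.mul_left
        (memLocalRing_natCast_div hpM Subgroup.index_ne_zero_of_finite (Char.degree_pos χ₀).ne' hv)
        ((red_eq_zero_iff (memLocalRing_chiL hchi hAS)).1 h0)
    exact not_memLocalIdeal_one ((Blocks.memLocalIdeal_iff_of_sub h1).1 h5)
  obtain ⟨x, e, hx, htx, hpair, hloc⟩ := BrauerPairs.exists_local_elt hblk
    (Blocks.exists_pow_eq hpM) hBi (redTrL M χ₀.1) (redTrL_comm hcl) (redTrL_conj hcl)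
    hmax₀.1.1.1 hA htA
  have hmax : IsMax p (blkG M B) (P, e) := by
    obtain ⟨⟨Q, f'⟩, hle, hQ⟩ := BrauerPairs.exists_max_above hBi hpair
    have hPQ : P = Q := Subgroup.eq_of_le_of_card_ge hle.le
      (by rw [card_defectGroup hpM hB hP, card_defectGroup hpM hB
        (BrauerPairs.isDefectGroup_of_isMax hB hQ)])
    subst hPQ
    rw [BrauerPairs.PLE.eq_of_fst_eq hle rfl]
    exact hQ
  refine ⟨e, liftA x, hmax, scoeff_liftA x, fun v hv g => coeff_liftA_conj hx hv g, ?_,
    fun v hv => ?_⟩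
  · rw [red_chiL hchi (scoeff_liftA x), redA_liftA]
    exact htx
  · rw [redA_liftA]
    exact hloc _ (Subgroup.zpowers_le.2 hv) _ (eU_spec hmax.1.1 hv)

end Cfsg.Agent.Blocks.NilRank
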