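import Cfsg.Agent.Lib.Blocks.NilpotentRank.Approx
import Cfsg.Agent.Lib.Blocks.CentralChar
import Cfsg.Agent.Lib.Char.Basic
import Mathlib.LinearAlgebra.Eigenspace.Charpoly
import Mathlib.LinearAlgebra.Eigenspace.Minpoly

/-!
# Trace functions on a `p`-group

Functions `u ↦ ψ(φ(u) z)` with `z` an integral element of a group algebra invariant under `φ(P)`.
They are closed under products and `u ↦ u⁻¹`, and their sums over `P` are `|P|` times local
integers.
-/

set_option autoImplicit false
set_option linter.unusedSectionVars false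
set_option linter.style.haveILetI false

namespace Cfsg.Agent.Blocks.NilRank

open Cfsg Blocks MonoidAlgebra
open scoped ComplexConjugate

universe u

variable {M : Ideal AlgInt} [M.IsMaximal]

theorem chiL_single_mul {K : Type u} [Group K] [Fintype K] (ψ : K → ℂ) (a : K)
    (z : MonoidAlgebra ℂ K) : chiL ψ (single a 1 * z) = ∑ g, z.coeff g * ψ (a * g) := by
  rw [chiL_eq_sum]
  refine (Fintype.sum_equiv (Equiv.mulLeft a) _ _ fun g => ?_).symm
  rw [coeff_single_mul']
  simp

variable (M) in
/-- A trace function on `P`. -/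
def IsTraceFun {P : Type u} [Group P] (f : P → ℂ) : Prop :=
  ∃ (K : Type u) (_ : Group K) (_ : Finite K) (ψ : K → ℂ) (φ : P →* K) (z : MonoidAlgebra ℂ K),
    IsCharacter K ψ ∧ SCoeff M z ∧
      (∀ u g, z.coeff (φ u * g * (φ u)⁻¹) = z.coeff g) ∧ ∀ u, f u = chiL ψ (single (φ u) 1 * z)

variable {P : Type u} [Group P]

theorem IsTraceFun.of_character [Finite P] {ψ : P → ℂ} (hψ : IsCharacter P ψ) :
    IsTraceFun M ψ := by
  classical
  haveI := Fintype.ofFinite P
  refine ⟨P, inferInstance, inferInstance, ψ, MonoidHom.id P, 1, hψ, scoeff_one, fun u g => ?_,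
    fun u => ?_⟩
  · simp only [MonoidHom.id_apply, MonoidAlgebra.one_def, MonoidAlgebra.coeff_single,
      Finsupp.single_apply]
    refine if_congr ⟨fun h => ?_, fun h => ?_⟩ rfl rfl
    · have := congrArg (fun x => u⁻¹ * x * u) h.symm
      simpa [mul_assoc] using this.symm
    · subst h; simp
  · rw [chiL_single_mul, Finset.sum_eq_single (1 : P)]
    · simp [MonoidAlgebra.one_def]
    · intro g _ hg; simp [MonoidAlgebra.one_def, Finsupp.single_apply, Ne.symm hg]
    · simp

theorem IsTraceFun.one [Finite P] : IsTraceFun M (fun _ : P => (1 : ℂ)) :=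
  IsTraceFun.of_character Char.isCharacter_one

theorem IsTraceFun.mul {f f' : P → ℂ} (hf : IsTraceFun M f) (hf' : IsTraceFun M f') :
    IsTraceFun M (fun u => f u * f' u) := by
  classical
  obtain ⟨K, _, _, ψ, φ, z, hψ, hz, hzi, hf⟩ := hf
  obtain ⟨K', _, _, ψ', φ', z', hψ', hz', hzi', hf'⟩ := hf'
  refine ⟨K × K', inferInstance, inferInstance, fun q => ψ q.1 * ψ' q.2, φ.prod φ',
    ofFun fun q => z.coeff q.1 * z'.coeff q.2,
    Char.IsCharacter.mul (Char.IsCharacter.comp hψ (MonoidHom.fst K K'))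
      (Char.IsCharacter.comp hψ' (MonoidHom.snd K K')),
    scoeff_ofFun fun q => MemLocalRing.mul (hz _) (hz' _), fun u g => ?_, fun u => ?_⟩
  · simp only [coeff_ofFun, MonoidHom.prod_apply, Prod.fst_mul, Prod.snd_mul, Prod.fst_inv,
      Prod.snd_inv, hzi, hzi']
  · haveI := Fintype.ofFinite K
    haveI := Fintype.ofFinite K'
    show f u * f' u = _
    rw [hf, hf', chiL_single_mul, chiL_single_mul, chiL_single_mul, Fintype.sum_prod_type,
      Finset.sum_mul_sum]
    refine Finset.sum_congr rfl fun a _ => Finset.sum_congr rfl fun b _ => ?_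
    simp only [coeff_ofFun, MonoidHom.prod_apply, Prod.fst_mul, Prod.snd_mul]
    ring

theorem IsTraceFun.pow [Finite P] {f : P → ℂ} (hf : IsTraceFun M f) :
    ∀ n : ℕ, IsTraceFun M (fun u => f u ^ n)
  | 0 => by simpa using (IsTraceFun.one : IsTraceFun M (fun _ : P => (1 : ℂ)))
  | n + 1 => by simpa [pow_succ] using IsTraceFun.mul (IsTraceFun.pow hf n) hf

theorem IsTraceFun.inv {f : P → ℂ} (hf : IsTraceFun M f) : IsTraceFun M (fun u => f u⁻¹) := by
  classical
  obtain ⟨K, _, _, ψ, φ, z, hψ, hz, hzi, hf⟩ := hf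
  refine ⟨K, inferInstance, inferInstance, fun g => conj (ψ g), φ, ofFun fun g => z.coeff g⁻¹,
    Char.IsCharacter.conj hψ, scoeff_ofFun fun g => hz _, fun u g => ?_, fun u => ?_⟩
  · simp only [coeff_ofFun]
    rw [show (φ u * g * (φ u)⁻¹)⁻¹ = φ u * g⁻¹ * (φ u)⁻¹ by group, hzi]
  · haveI := Fintype.ofFinite K
    show f u⁻¹ = _
    rw [hf, chiL_single_mul, chiL_single_mul, ← Equiv.sum_comp (Equiv.inv K)]
    refine Finset.sum_congr rfl fun g _ => ?_
    simp only [coeff_ofFun, Equiv.inv_apply, map_inv]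
    rw [Char.IsCharacter.conj_apply hψ]
    congr 1
    rw [mul_inv_rev, Char.IsClassFunction.apply_mul_comm (Char.IsCharacter.isClassFunction hψ)]

variable [Finite P]

/-- The sum of a trace function over `P` is `|P|` times a local integer. -/
theorem IsTraceFun.memLocalRing_sum_div {f : P → ℂ} (hf : IsTraceFun M f) [Fintype P] :
    MemLocalRing M ((∑ u, f u) / (Nat.card P : ℂ)) := by
  classical
  obtain ⟨K, _, _, ψ, φ, z, ⟨n, ρ, rfl⟩, hz, hzi, hf⟩ := hf
  haveI := Fintype.ofFinite K
  let A := MonoidAlgebra.lift ℂ (Module.End ℂ (Fin n → ℂ)) K ρ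
  have hA : ∀ w, chiL ρ.character w = LinearMap.trace ℂ _ (A w) := fun w => by
    conv_rhs => rw [eq_sum_single w]
    rw [chiL_eq_sum, map_sum, map_sum]
    refine Finset.sum_congr rfl fun g _ => ?_
    simp [A, Representation.character]
  let E : MonoidAlgebra ℂ K := (Nat.card P : ℂ)⁻¹ • ∑ u, single (φ u) 1
  have hcomm : ∀ u, Commute (single (φ u) (1 : ℂ)) z := fun u => by
    refine alg_ext fun g => ?_
    rw [coeff_single_mul', coeff_mul_single', one_mul, mul_one, ← hzi u ((φ u)⁻¹ * g)]
    simp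
  have hEz : Commute E z :=
    (Commute.sum_left _ _ _ fun u _ => hcomm u).smul_left _
  have hEE : E * E = E := by
    have hu : ∀ u, single (φ u) (1 : ℂ) * ∑ v, single (φ v) 1 = ∑ v, single (φ v) 1 := fun u => by
      rw [Finset.mul_sum]
      exact Fintype.sum_equiv (Equiv.mulLeft u) _ _ fun v => by simp [single_mul_single]
    show ((Nat.card P : ℂ)⁻¹ • _) * ((Nat.card P : ℂ)⁻¹ • _) = _
    rw [smul_mul_assoc, mul_smul_comm, Finset.sum_mul, Finset.sum_congr rfl fun u _ => hu u,
      Finset.sum_const, Finset.card_univ, ← Nat.card_eq_fintype_card, ← Nat.cast_smul_eq_nsmul ℂ,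
      smul_smul, smul_smul, mul_assoc, inv_mul_cancel₀ (Nat.cast_ne_zero.2 Nat.card_pos.ne'),
      mul_one]
  have hsum : (∑ u, f u) / (Nat.card P : ℂ) = LinearMap.trace ℂ _ (A (E * z)) := by
    rw [← hA, show E * z = (Nat.card P : ℂ)⁻¹ • ∑ u, single (φ u) (1 : ℂ) * z by
      rw [smul_mul_assoc, Finset.sum_mul], chiL_smul, div_eq_inv_mul]
    congr 1
    rw [chiL_eq_sum]
    simp only [coeff_sum, Finsupp.finsetSum_apply, Finset.sum_mul]
    rw [Finset.sum_comm]
    exact Finset.sum_congr rfl fun u _ => by rw [hf, chiL_eq_sum]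
  rw [hsum]
  -- `z` is integral over the local ring
  let ι : MonoidAlgebra (localInt M) K →ₐ[localInt M] MonoidAlgebra ℂ K :=
    MonoidAlgebra.lift (localInt M) _ K (MonoidAlgebra.of ℂ K)
  let zR : MonoidAlgebra (localInt M) K := ofFun fun g => ⟨z.coeff g, hz g⟩
  have hzR : ι zR = z := by
    conv_lhs => rw [eq_sum_single zR]
    conv_rhs => rw [eq_sum_single z]
    rw [map_sum]
    refine Finset.sum_congr rfl fun g _ => ?_
    simp only [ι, zR, MonoidAlgebra.lift_single, coeff_ofFun, MonoidAlgebra.of_apply]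
    rw [Subring.smul_def, MonoidAlgebra.smul_single, smul_eq_mul, mul_one]
  haveI : Module.Finite (localInt M) (MonoidAlgebra (localInt M) K) := inferInstance
  obtain ⟨q, hq, hqz⟩ := IsIntegral.map ι (IsIntegral.of_finite (localInt M) zR)
  rw [hzR, ← Polynomial.aeval_def] at hqz
  have hw : Polynomial.aeval (E * z) (Polynomial.X * q) = 0 := by
    have hpow : ∀ i : ℕ, (E * z) ^ (i + 1) = E * z ^ (i + 1) := by
      intro i
      induction i with
      | zero => simp
      | succ i ih =>
        rw [pow_succ (E * z), ih, mul_assoc, ← mul_assoc (z ^ (i + 1)),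
          ← (hEz.pow_right (i + 1)).eq, mul_assoc, ← mul_assoc E E, hEE, ← pow_succ]
    rw [map_mul, Polynomial.aeval_X, Polynomial.aeval_eq_sum_range, Finset.mul_sum]
    simp only [mul_smul_comm, ← pow_succ', hpow]
    simp only [pow_succ', ← mul_smul_comm, ← Finset.mul_sum, ← Polynomial.aeval_eq_sum_range, hqz,
      mul_zero]
  set T := A (E * z) with hT
  have hTq : Polynomial.aeval T ((Polynomial.X * q).map (localInt M).subtype) = 0 := by
    have h1 := congrArg (A.restrictScalars (localInt M)) hw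
    rw [map_zero, ← Polynomial.aeval_algHom_apply] at h1
    rw [show (localInt M).subtype = algebraMap (localInt M) ℂ from rfl,
      Polynomial.aeval_map_algebraMap]
    exact h1
  rw [Module.End.trace_eq_sum_roots_charpoly_of_splits (IsAlgClosed.splits _)]
  refine mem_localInt.1 ((localInt M).multiset_sum_mem _ fun μ hμ => mem_localInt.2 ?_)
  have hev := (Module.End.hasEigenvalue_iff_isRoot_charpoly T μ).2
    (Polynomial.mem_roots'.1 hμ).2
  obtain ⟨v, hv⟩ := hev.exists_hasEigenvector
  have h1 := Module.End.aeval_apply_of_hasEigenvector (p := (Polynomial.X * q).map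
    (localInt M).subtype) hv
  rw [hTq, LinearMap.zero_apply] at h1
  have h2 : ((Polynomial.X * q).map (localInt M).subtype).eval μ = 0 :=
    (smul_eq_zero.1 h1.symm).resolve_right hv.2
  rw [Polynomial.eval_map] at h2
  exact memLocalRing_of_isRoot (Polynomial.monic_X.mul hq) h2

end Cfsg.Agent.Blocks.NilRank
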