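import Cfsg.Agent.Lib.Blocks.NilpotentRank.SectionWeights
import Cfsg.Agent.Lib.Blocks.NilpotentRank.TraceElt
import Cfsg.Agent.Lib.Blocks.NilpotentRank.TraceFun
import Cfsg.Agent.Lib.Blocks.NilpotentRank.RankOneSection

/-!
# Trace functions approximating the normalized contributions

If the blocks at the noncentral elements of `P` have rank one, then for every `a` some trace
function `g χ` on `P` agrees with `TT χ χ₀` modulo `p ^ a` at all noncentral elements.
-/

set_option autoImplicit false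
set_option linter.unusedSectionVars false
set_option linter.style.haveILetI false

namespace Cfsg.Agent.Blocks.NilRank

open Cfsg Blocks MonoidAlgebra
open Cfsg.Agent.BrauerPairs (blkG br IsMax IsNilpotentPairs incl)
open scoped Classical ComplexConjugate

universe u

variable {G : Type u} [Group G] [Fintype G] {M : Ideal AlgInt} [M.IsMaximal] {p : ℕ}
  [hp : Fact p.Prime] [CharP (AlgInt ⧸ M) p] {B : Set (IrrCharacter G)} {P : Subgroup G}
  {e : MonoidAlgebra (AlgInt ⧸ M) G}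

theorem coeff_pow_conj {a : MonoidAlgebra ℂ G} {v : G}
    (h : ∀ g, a.coeff (v * g * v⁻¹) = a.coeff g) (N : ℕ) (g : G) :
    (a ^ N).coeff (v * g * v⁻¹) = (a ^ N).coeff g := by
  have hc : Commute (a ^ N) (single v (1 : ℂ)) := (commute_single_of_invariant h).pow_left N
  have h2 := congrArg (fun z : MonoidAlgebra ℂ G => z.coeff (v * g)) hc.eq
  simp only [coeff_mul_single', coeff_single_mul', one_mul, mul_one] at h2
  rw [h2, inv_mul_cancel_left]

theorem truncC_eq_inclA (v : G) (a : MonoidAlgebra ℂ G) :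
    truncC v a = inclA (Subgroup.centralizer ({v} : Set G))
      (resH (Subgroup.centralizer ({v} : Set G)) a) := by
  refine alg_ext fun g => ?_
  rw [truncC, coeff_ofFun]
  by_cases hg : g ∈ Subgroup.centralizer ({v} : Set G)
  · rw [if_pos (Subgroup.mem_centralizer_singleton_iff.1 hg).symm,
      show g = ((⟨g, hg⟩ : Subgroup.centralizer ({v} : Set G)) : G) from rfl, coeff_inclA, coeff_resH]
  · rw [if_neg fun h => hg (Subgroup.mem_centralizer_singleton_iff.2 h.symm),
      coeff_inclA_of_notMem _ hg]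

theorem incl_redA_resH (v : G) (a : MonoidAlgebra ℂ G) :
    incl (Subgroup.centralizer ({v} : Set G)) (AlgInt ⧸ M)
        (redA M (resH (Subgroup.centralizer ({v} : Set G)) a)) =
      br (Subgroup.zpowers v) (redA M a) := by
  refine alg_ext fun g => ?_
  by_cases hg : g ∈ Subgroup.centralizer ({v} : Set G)
  · rw [BrauerPairs.coeff_br_of_mem _ ((centralizer_zpowers_eq (x := v)).symm ▸ hg)]
    refine (BrauerPairs.coeff_incl_coe _ _ (⟨g, hg⟩ : Subgroup.centralizer ({v} : Set G))).trans ?_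
    simp only [coeff_redA, coeff_resH]
  · rw [BrauerPairs.coeff_br_of_notMem _ ((centralizer_zpowers_eq (x := v)).symm ▸ hg),
      BrauerPairs.coeff_incl_of_notMem _ _ hg]

/-- The residual trace of `u a ^ n` does not depend on the `p`-element `u`. -/
theorem red_trace_single (hpM : (p : AlgInt) ∈ M) {χ : G → ℂ} (hχ : IsCharacter G χ) {v : G} {k : ℕ}
    (hv : v ^ p ^ k = 1) {a : MonoidAlgebra ℂ G} (ha : SCoeff M a)
    (hinv : ∀ g, a.coeff (v * g * v⁻¹) = a.coeff g) (m : ℕ) :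
    red M (chiL χ (single v 1 * a ^ p ^ m)) = red M (chiL χ a) ^ p ^ m := by
  haveI := charP_residue hpM
  rw [red_chiL hχ ((scoeff_single v memLocalRing_one).mul (ha.pow _)),
    redA_mul (scoeff_single v memLocalRing_one) (ha.pow _), redA_pow ha, redA_single, red_one,
    red_chiL hχ ha, ← redTr_pow hpM hχ (redA M a) m]
  set z := redA M a ^ p ^ m
  have hc : Commute (single v (1 : AlgInt ⧸ M)) z := by
    refine ((commute_single_of_invariant fun g => ?_).pow_left _).symm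
    rw [coeff_redA, coeff_redA, hinv]
  refine sub_eq_zero.1 (eq_zero_of_pow_eq_zero (n := p ^ k) ?_)
  rw [sub_pow_char_pow, ← redTr_pow hpM hχ, ← redTr_pow hpM hχ, hc.mul_pow, single_pow, one_pow, hv,
    ← one_def, one_mul, sub_self]

/-- Trace functions approximating the normalized contributions. -/
theorem exists_trace_approx (hpM : (p : AlgInt) ∈ M) (hB : IsPBlock M B)
    (hmax : IsMax p (blkG M B) (P, e)) (hnil : IsNilpotentPairs p (blkG M B))
    {χ₀ : IrrCharacter G} (hχ₀ : χ₀ ∈ B) (hh : blockHeight p B χ₀.1 = 0)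
    (htriv : ∀ z : G, (∀ g, Commute z g) → (∃ k, orderOf z = p ^ k) → χ₀.1 z = χ₀.1 1)
    {a : MonoidAlgebra ℂ G} (haS : SCoeff M a)
    (hinv : ∀ v ∈ P, ∀ g, a.coeff (v * g * v⁻¹) = a.coeff g)
    (hat : red M (chiL χ₀.1 a) ≠ 0)
    (hloc : ∀ v ∈ P, br (Subgroup.zpowers v) (redA M a) * eU p P e v =
      br (Subgroup.zpowers v) (redA M a))
    (hrk : ∀ v ∈ P, Subgroup.centralizer ({v} : Set G) ≠ ⊤ →
      blockRank p (blkSet M (Subgroup.centralizer ({v} : Set G)) (eU p P e v)) = 1)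
    (a₀ : ℕ) :
    ∃ g : IrrCharacter G → G → ℂ, (∀ χ, IsTraceFun M fun v : P => g χ v) ∧
      (∀ χ v, MemLocalRing M (g χ v)) ∧
      (∀ χ ∈ B, ∀ v ∈ P, Subgroup.centralizer ({v} : Set G) ≠ ⊤ →
        Cong M p a₀ (g χ v) (TT p P e χ.1 χ₀.1 v)) ∧
      (∀ χ ∈ B, ∀ v ∈ P, Subgroup.centralizer ({v} : Set G) = ⊤ →
        g χ v = zScal χ.1 v * g χ 1) ∧
      ∀ (χ : IrrCharacter G) (n : IrrCharacter G → ℤ),
        (∀ s, IsPRegular p s → χ.1 s = ∑ ψ, (n ψ : ℂ) * ψ.1 s) →
        Cong M p a₀ (g χ 1) (∑ ψ, (n ψ : ℂ) * g ψ 1) := by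
  haveI := charP_residue hpM
  -- exponents
  have hrk' : ∀ v : P, ∃ n₀ : ℕ, ∀ n, n₀ ≤ n → Subgroup.centralizer ({(v : G)} : Set G) ≠ ⊤ →
      ∀ χ : IrrCharacter G, Cong M p a₀
        (chiL χ.1 (single (v : G) 1 * inclA (Subgroup.centralizer ({(v : G)} : Set G))
          (resH (Subgroup.centralizer ({(v : G)} : Set G)) a ^ p ^ n)))
        (TT p P e χ.1 χ₀.1 v * chiL χ₀.1 (single (v : G) 1 *
          inclA (Subgroup.centralizer ({(v : G)} : Set G))
          (resH (Subgroup.centralizer ({(v : G)} : Set G)) a ^ p ^ n))) := by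
    intro v
    by_cases hv : Subgroup.centralizer ({(v : G)} : Set G) = ⊤
    · exact ⟨0, fun n _ h => absurd hv h⟩
    obtain ⟨k, hk⟩ := exists_orderOf_mem hmax.1.1.1 v.2
    obtain ⟨hb1, hb2⟩ := blkSet_spec (isBlockIdem_eU hmax.1.1 v.2)
    have hyb : redA M (resH (Subgroup.centralizer ({(v : G)} : Set G)) a) *
        blkG M (blkSet M (Subgroup.centralizer ({(v : G)} : Set G)) (eU p P e v)) =
        redA M (resH (Subgroup.centralizer ({(v : G)} : Set G)) a) := by
      refine BrauerPairs.incl_injective _ ?_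
      rw [map_mul, incl_redA_resH]
      change _ * BrauerPairs.blk M _ _ = _
      rw [hb2]
      exact hloc _ v.2
    obtain ⟨n₀, hn₀⟩ := exists_cong_trace_rank_one hpM hk hb1 (hrk _ v.2 hv) (scoeff_resH haS) hyb a₀
    refine ⟨n₀, fun n hn _ χ => ?_⟩
    have h1 : TT p P e χ₀.1 χ₀.1 (v : G) = 1 :=
      TT_self_eq_one hpM hB hmax hnil hχ₀ hh v.2
    rw [TT_eq_contribution] at h1 ⊢
    exact hn₀ n hn χ χ₀ h1
  choose n₀ hn₀ using hrk'
  set m := a₀ + (Nat.card G).factorization p + ∑ v, n₀ v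
  have hmn : ∀ v, n₀ v ≤ m := fun v =>
    (Finset.single_le_sum (fun w _ => Nat.zero_le (n₀ w)) (Finset.mem_univ v)).trans
      (Nat.le_add_left _ _)
  set N := p ^ m
  let η : IrrCharacter G → G → ℂ := fun χ v => chiL χ.1 (single v 1 * a ^ N)
  have hηS : ∀ χ v, MemLocalRing M (η χ v) := fun χ v =>
    memLocalRing_chiL (Char.irr_isCharacter χ) ((scoeff_single v memLocalRing_one).mul (haS.pow _))
  have hηcong : ∀ χ, ∀ v : P, Subgroup.centralizer ({(v : G)} : Set G) ≠ ⊤ →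
      Cong M p a₀ (η χ v) (TT p P e χ.1 χ₀.1 v * η χ₀ v) := by
    intro χ v hv
    obtain ⟨k, hk⟩ := exists_orderOf_mem hmax.1.1.1 v.2
    have hw : ∀ ψ : IrrCharacter G, Cong M p a₀ (η ψ v)
        (chiL ψ.1 (single (v : G) 1 * inclA (Subgroup.centralizer ({(v : G)} : Set G))
          (resH (Subgroup.centralizer ({(v : G)} : Set G)) a ^ N))) := fun ψ => by
      have h := cong_chiL_pow_trunc (M := M) (u := (v : G)) (k := k) (by rw [← hk, pow_orderOf_eq_one])
        haS (hinv _ v.2) (Char.irr_isCharacter ψ) m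
      rw [truncC_eq_inclA, ← map_pow] at h
      exact h.mono (by omega)
    exact ((hw χ).trans (hn₀ v m (hmn v) hv χ)).trans
      ((hw χ₀).symm.mul_left (memLocalRing_TT hpM hmax.1.1 v.2 χ χ₀))
  -- the residue of `η χ₀`
  obtain ⟨d, hd⟩ : ∃ d, d = red M (chiL χ₀.1 a) ^ N := ⟨_, rfl⟩
  have hd0 : d ≠ 0 := hd ▸ pow_ne_zero _ hat
  have hred : ∀ v : P, red M (η χ₀ v) = d := fun v => by
    obtain ⟨k, hk⟩ := exists_orderOf_mem hmax.1.1.1 v.2
    rw [hd]
    exact red_trace_single hpM (Char.irr_isCharacter χ₀)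
      (k := k) (by rw [← hk, pow_orderOf_eq_one]) haS (hinv _ v.2) m
  obtain ⟨f, hf0, hf⟩ := Blocks.exists_pow_eq hpM d
  have hf2 : 1 < p ^ f := Nat.one_lt_pow hf0.ne' hp.out.one_lt
  have hdq : d ^ (p ^ f - 1) = 1 := by
    refine mul_right_cancel₀ hd0 ?_
    rw [one_mul, ← pow_succ, Nat.sub_add_cancel hf2.le, hf]
  have hK : ∀ v : P, ∃ K : ℕ, ∀ k, K ≤ k → Cong M p a₀ ((η χ₀ v ^ (p ^ f - 1)) ^ p ^ k) 1 := by
    intro v
    refine exists_pow_cong_one hpM (MemLocalRing.pow (hηS _ _) _) ?_ a₀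
    refine (red_eq_zero_iff (MemLocalRing.sub (MemLocalRing.pow (hηS _ _) _) memLocalRing_one)).1 ?_
    rw [red_sub (MemLocalRing.pow (hηS _ _) _) memLocalRing_one, red_pow (hηS _ _), hred, hdq,
      red_one, sub_self]
  choose K hK using hK
  set E := (p ^ f - 1) * p ^ (∑ v, K v)
  have hE : E ≠ 0 := mul_ne_zero (by omega) (pow_ne_zero _ hp.out.ne_zero)
  have hκ : ∀ v : P, Cong M p a₀ (η χ₀ v ^ (E - 1) * η χ₀ v) 1 := fun v => by
    rw [← pow_succ, Nat.sub_add_cancel (Nat.one_le_iff_ne_zero.2 hE), pow_mul]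
    exact hK v _ (Finset.single_le_sum (fun w _ => Nat.zero_le (K w)) (Finset.mem_univ v))
  refine ⟨fun χ v => η χ v * η χ₀ v ^ (E - 1), fun χ => ?_,
    fun χ v => MemLocalRing.mul (hηS _ _) (MemLocalRing.pow (hηS _ _) _), fun χ _ v hv hvt => ?_,
    fun χ hχ v hv hvt => ?_, fun χ n hn => ?_⟩
  · have hη : ∀ ψ : IrrCharacter G, IsTraceFun M fun v : P => η ψ v := fun ψ =>
      ⟨G, inferInstance, inferInstance, ψ.1, P.subtype, a ^ N, Char.irr_isCharacter ψ,
        haS.pow _, fun v g => coeff_pow_conj (hinv _ v.2) N g, fun _ => rfl⟩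
    exact (hη χ).mul ((hη χ₀).pow _)
  · refine ((hηcong χ ⟨v, hv⟩ hvt).mul_right (MemLocalRing.pow (hηS _ _) _)).trans ?_
    rw [mul_assoc, mul_comm (η χ₀ v)]
    simpa using (hκ ⟨v, hv⟩).mul_left (memLocalRing_TT hpM hmax.1.1 hv χ χ₀)
  · have hzη : ∀ ψ : IrrCharacter G, η ψ v = zScal ψ.1 v * η ψ 1 := by
      intro ψ
      have hzc : IsCentralElt (MonoidAlgebra.single v (1 : ℂ)) :=
        isCentralElt_iff_commute.2 fun x => by
          show _ * _ = _ * _
          have h : x ∈ Subgroup.centralizer ({v} : Set G) := hvt ▸ Subgroup.mem_top x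
          rw [single_mul_single, single_mul_single, Subgroup.mem_centralizer_singleton_iff.1 h]
      show chiL ψ.1 _ = _ * chiL ψ.1 _
      rw [← one_def, one_mul, chiL_mul_of_central ψ hzc, omega, chiL_single, one_mul]
      rfl
    have h1 : zScal χ₀.1 v = 1 := by
      rw [zScal, htriv v (fun x => ((Subgroup.mem_centralizer_singleton_iff.1
          (hvt ▸ Subgroup.mem_top x : x ∈ Subgroup.centralizer ({v} : Set G))).symm))
        (exists_orderOf_mem hmax.1.1.1 hv), div_self (irr_one_ne_zero χ₀)]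
    show η χ v * η χ₀ v ^ (E - 1) = zScal χ.1 v * (η χ 1 * η χ₀ 1 ^ (E - 1))
    rw [hzη χ, hzη χ₀, h1, one_mul, mul_assoc]
  · simp only [← mul_assoc, ← Finset.sum_mul]
    refine Cong.mul_right ?_ (MemLocalRing.pow (hηS _ _) _)
    show Cong M p a₀ (chiL χ.1 (single (1 : G) (1 : ℂ) * a ^ N)) (∑ ψ, (n ψ : ℂ) *
      chiL ψ.1 (single (1 : G) (1 : ℂ) * a ^ N))
    simp only [← one_def, one_mul, chiL_eq_sum, Finset.mul_sum]
    rw [Finset.sum_comm]
    have h := cong_sum_pow_zero (M := M) (φ := fun x => χ.1 x - ∑ ψ, (n ψ : ℂ) * ψ.1 x) haS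
      (fun x y => by simp only [irr_classFun _ x y])
      (fun x => MemLocalRing.sub (memLocalRing_char (Char.irr_isCharacter χ) x)
        (MemLocalRing.sum _ fun ψ _ => MemLocalRing.mul (memLocalRing_intCast _)
          (memLocalRing_char (Char.irr_isCharacter ψ) x)))
      (fun x hx => by rw [hn x hx, sub_self]) (b := a₀) (n := m) (by omega)
    have h' := h.add (Cong.refl a₀ (∑ x, ∑ ψ, (n ψ : ℂ) * ((a ^ N).coeff x * ψ.1 x)))
    rw [zero_add, ← Finset.sum_add_distrib] at h'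
    refine (Cong.of_eq (Finset.sum_congr rfl fun x _ => ?_)).trans h'
    rw [mul_sub, Finset.mul_sum, Finset.sum_congr rfl fun ψ _ => mul_left_comm ((a ^ N).coeff x) _ _]
    ring

end Cfsg.Agent.Blocks.NilRank
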